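import Groth.Agent.SV31.Weights
import Groth.Agent.Res31.Pairing
import Groth.Agent.FF30.SubField
import Groth.Agent.LLS31.Aspect
import Groth.Prelude.Def_W4bk4goldsch23Ext
import Mathlib.RingTheory.TensorProduct.Maps

/-! The degree of the Weierstrass divisor. -/

namespace Groth.Agent.SV31

open FunFld WithZero
open scoped LaurentSeries

universe u v

variable {k : Type u} {K : Type v} [Field k] [Field K] [Algebra k K] [IsAlgClosed k] {n : ℕ}

theorem isGeometric_of_isAlgClosed : IsGeometric k K := by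
  intro k' _ _ hfin
  let e : k ≃ₐ[k] k' := AlgEquiv.ofBijective (Algebra.ofId k k')
    (IsAlgClosed.algebraMap_bijective_of_isIntegral)
  exact ((Algebra.TensorProduct.congr e.symm (AlgEquiv.refl : K ≃ₐ[k] K)).trans
    (Algebra.TensorProduct.lid k K)).toMulEquiv.isField (Field.toIsField K)

omit [IsAlgClosed k] in
theorem kaehlerD_ne_zero {s : K} {H : K →ₐ[k] PowerSeries K} (hH : LocRes.IsHasseFamily s H) :
    KaehlerDifferential.D k K s ≠ 0 := by
  intro h0
  let δ : Derivation k K K := Derivation.mk'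
    { toFun := fun z => LocRes.hasseD H 1 z
      map_add' := fun a b => by simp only [LocRes.hasseD_apply, map_add]
      map_smul' := fun c a => by
        simp only [Algebra.smul_def, Exp31.hasseD_one_mul hH, Exp31.hasseD_one_algebraMap,
          RingHom.id_apply]
        simp }
    fun a b => by simpa [smul_eq_mul] using Exp31.hasseD_one_mul hH a b
  have h := δ.liftKaehlerDifferential_comp_D s
  rw [h0, map_zero] at h
  exact zero_ne_one (h.trans (Exp31.hasseD_one_self hH))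

theorem deg_divDiff (hK : IsFunctionField k K) (Φ : Place k K → (K →ₐ[k] k⸨X⸩))
    (hΦ : ∀ P : Place k K, LocRes.IsExpansionAt P.1 (Φ P)) {s : K} {H : K →ₐ[k] PowerSeries K}
    (hH : LocRes.IsHasseFamily s H) : (divDiff Φ 1 s).deg = 2 * (genus k K : ℤ) - 2 :=
  Res31.deg_eq_two_genus hK isGeometric_of_isAlgClosed hΦ one_ne_zero (kaehlerD_ne_zero hH)
    fun P => divDiff_apply hK Φ hΦ hH P

/-- The field regarded as an extension of itself along an endomorphism. -/
def Twist (_τ : K →ₐ[k] K) : Type v := K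

noncomputable instance (τ : K →ₐ[k] K) : Field (Twist τ) := inferInstanceAs (Field K)

noncomputable instance (τ : K →ₐ[k] K) : Algebra k (Twist τ) := inferInstanceAs (Algebra k K)

noncomputable instance twistAlgebra (τ : K →ₐ[k] K) : Algebra K (Twist τ) :=
  RingHom.toAlgebra (S := Twist τ) τ.toRingHom

instance twist_tower (τ : K →ₐ[k] K) : IsScalarTower k K (Twist τ) :=
  IsScalarTower.of_algebraMap_eq fun c => (τ.commutes c).symm

theorem twist_finite (hK : IsFunctionField k K) (τ : K →ₐ[k] K) :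
    FiniteDimensional K (Twist τ) ∧ Module.finrank K (Twist τ) = Module.finrank τ.fieldRange K := by
  obtain ⟨x, hx, -⟩ := hK.1
  have htr : Transcendental k (τ x) := fun h =>
    hx ((isAlgebraic_algHom_iff τ τ.toRingHom.injective).1 h)
  have hmem : τ x ∈ τ.fieldRange := ⟨x, rfl⟩
  obtain ⟨-, hfin⟩ := (FF30.FF.of_isFunctionField hK).intermediateField τ.fieldRange hmem htr
  have heq : Module.finrank K (Twist τ) = Module.finrank τ.fieldRange K := by
    refine Algebra.finrank_eq_of_equiv_equiv (AlgEquiv.ofInjectiveField τ).toRingEquiv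
      (RingEquiv.refl K : Twist τ ≃+* K) ?_
    ext z
    rfl
  refine ⟨Module.finite_of_finrank_pos ?_, heq⟩
  rw [heq]
  exact Module.finrank_pos

theorem deg_mapDiv_comp (hK : IsFunctionField k K) (τ : K →ₐ[k] K) {φ : Fin (n + 1) → K}
    (hφ : LinearIndependent k φ) :
    (mapDiv k (τ ∘ φ)).deg = (Module.finrank τ.fieldRange K : ℤ) * (mapDiv k φ).deg := by
  obtain ⟨hfin, heq⟩ := twist_finite hK τ
  have hF : FF30.FF k K := FF30.FF.of_isFunctionField hK
  suffices hc : (mapDiv k (τ ∘ φ) : Divisor k (Twist τ)) = conorm (Twist τ) (mapDiv k φ) by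
    rw [← heq, ← hF.deg_conorm (K' := Twist τ), ← hc]
    rfl
  refine Finsupp.ext fun Q => ?_
  obtain ⟨P, e, -, hQ⟩ := hF.exists_isOverWith (K' := Twist τ) Q
  rw [hF.conorm_apply _ hQ]
  have hval : ∀ z, Q.1 (τ z : K) = P.1 z ^ e := fun z => hQ z
  have hne : ∀ i, (τ ∘ φ) i ≠ 0 := fun i => (map_ne_zero τ).2 (hφ.ne_zero i)
  refine mapDiv_eq_of_val hK (τ ∘ φ) hne Q (fun i => ?_) ?_
  · refine (hval (φ i)).le.trans ?_
    rw [← nsmul_eq_mul, exp_nsmul]
    exact pow_le_pow_left' (val_le_exp_mapDiv hK φ P i) e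
  · obtain ⟨i, hi⟩ := exists_val_eq_mapDiv hK φ hφ.ne_zero P
    refine ⟨i, (hval (φ i)).trans ?_⟩
    rw [hi, ← nsmul_eq_mul, exp_nsmul]

theorem wDiv_nonneg (hK : IsFunctionField k K) (Φ : Place k K → (K →ₐ[k] k⸨X⸩))
    (hΦ : ∀ P : Place k K, LocRes.IsExpansionAt P.1 (Φ P)) (τ : K →ₐ[k] K) {s : K}
    {H : K →ₐ[k] PowerSeries K} (hH : LocRes.IsHasseFamily s H) {φ : Fin (n + 1) → K}
    (hφ : LinearIndependent k φ) {J : Fin n → ℕ} (hJ : IsOrders K (hcol τ H φ) J) :
    0 ≤ wDiv τ H Φ s φ J := by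
  intro P
  obtain ⟨y, t, Ht, ψ, hy, ht, hψ, hli, hnorm, heff, hJ', hW⟩ := wDiv_normalized hK Φ hΦ τ hH hφ hJ P
  have h1 := val_det_le_exp_mapDiv hK hψ τ hnorm J
  rw [FF30.val_eq P (det_ne_zero_of_isOrders hli hJ'), exp_le_exp] at h1
  rw [hW, Finsupp.zero_apply]
  omega

theorem deg_wDiv (hK : IsFunctionField k K) (Φ : Place k K → (K →ₐ[k] k⸨X⸩))
    (hΦ : ∀ P : Place k K, LocRes.IsExpansionAt P.1 (Φ P)) (τ : K →ₐ[k] K) {s : K}
    {H : K →ₐ[k] PowerSeries K} (hH : LocRes.IsHasseFamily s H) {φ : Fin (n + 1) → K}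
    (hφ : LinearIndependent k φ) (J : Fin n → ℕ) :
    (wDiv τ H Φ s φ J).deg =
      ((Module.finrank τ.fieldRange K : ℤ) + n) * (mapDiv k φ).deg +
        (2 * (genus k K : ℤ) - 2) * ∑ l, (J l : ℤ) := by
  have hsm : ∀ (a : ℤ) (D : Divisor k K), (a • D).deg = a * D.deg := fun a D => by
    have hh : (a • D).deg = Finsupp.linearCombination ℤ (fun P : Place k K => (P.deg : ℤ)) (a • D) := rfl
    rw [hh, map_smul, smul_eq_mul]
    rfl
  rw [wDiv, FF30.deg_add, FF30.deg_add, FF30.deg_add, hsm, hsm,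
    (FF30.FF.of_isFunctionField hK).deg_div, deg_mapDiv_comp hK τ hφ, deg_divDiff hK Φ hΦ hH]
  ring

/-- A strong fixed point has weight at least `n`. -/
theorem le_wDiv_strong (hK : IsFunctionField k K) (Φ : Place k K → (K →ₐ[k] k⸨X⸩))
    (hΦ : ∀ P : Place k K, LocRes.IsExpansionAt P.1 (Φ P)) (τ : K →ₐ[k] K) {s : K}
    {H : K →ₐ[k] PowerSeries K} (hH : LocRes.IsHasseFamily s H) {φ : Fin (n + 1) → K}
    (hφ : LinearIndependent k φ) {J : Fin n → ℕ} (hJ : IsOrders K (hcol τ H φ) J) (hn : 0 < n)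
    {P : Place k K} (hP : IsStrongFixedPt τ P) : (n : ℤ) ≤ wDiv τ H Φ s φ J P := by
  obtain ⟨y, t, Ht, ψ, hy, ht, hψ, hli, hnorm, heff, hJ', hW⟩ := wDiv_normalized hK Φ hΦ τ hH hφ hJ P
  have hfix : IsFixedPt τ P := fun z hz => (hP z hz).trans_lt (by rw [← exp_zero, exp_lt_exp]; omega)
  obtain ⟨J', hJ''⟩ := exists_isOrders (span_coefCol hψ hli hnorm) (n := n) (by simp)
    (coefCol_zero_ne hψ heff)
  have hpos : 1 ≤ J' ⟨0, hn⟩ :=
    ((isJump_coefCol_iff hψ hnorm (J' ⟨0, hn⟩)).1 ((hJ''.2 _).1 ⟨_, rfl⟩)).1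
  have hle := orders_add_le_strong hK hP hn hli heff hnorm ht hψ hJ' hJ''
  obtain ⟨hb, -⟩ := wrMat_order hK hψ ht τ hfix hli heff hnorm hJ'' J
  rw [FF30.val_eq P (det_ne_zero_of_isOrders hli hJ'), exp_le_exp, neg_le_neg_iff] at hb
  have hm : mapDiv k (τ ∘ (y • φ)) P = 0 := by
    refine mapDiv_eq_zero hK (linearIndependent_comp τ hli) P (fun i => ?_) ?_
    · simpa using val_le_pow_of_isFixedPt hK (d := 1) (isFixedPt_bound hfix) ht
        (j := 0) (z := (y • φ) i) (by simpa using hnorm i)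
    · rw [Set.range_comp, show (⇑τ : K → K) = ⇑τ.toLinearMap from rfl, ← Submodule.map_span]
      exact ⟨1, heff, map_one τ⟩
  rw [hW, hm, add_zero]
  refine le_trans ?_ hb
  calc (n : ℤ) = ∑ _l : Fin n, (1 : ℤ) := by simp
    _ ≤ _ := Finset.sum_le_sum fun l _ => by
      have := hle l
      omega

/-- The number of strong fixed points. -/
theorem strong_fixed_bound (hK : IsFunctionField k K) (Φ : Place k K → (K →ₐ[k] k⸨X⸩))
    (hΦ : ∀ P : Place k K, LocRes.IsExpansionAt P.1 (Φ P)) (τ : K →ₐ[k] K) {s : K}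
    {H : K →ₐ[k] PowerSeries K} (hH : LocRes.IsHasseFamily s H) {φ : Fin (n + 1) → K}
    (hφ : LinearIndependent k φ) {J : Fin n → ℕ} (hJ : IsOrders K (hcol τ H φ) J) (hn : 0 < n) :
    {P : Place k K | IsStrongFixedPt τ P}.Finite ∧
    (n : ℤ) * (Set.ncard {P : Place k K | IsStrongFixedPt τ P} : ℤ) ≤
      ((n : ℤ) + Module.finrank τ.fieldRange K) * (mapDiv k φ).deg +
        (2 * (genus k K : ℤ) - 2) * ∑ l, (J l : ℤ) := by
  set W := wDiv τ H Φ s φ J with hWdef
  have hsub : {P : Place k K | IsStrongFixedPt τ P} ⊆ W.support := fun P hP => by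
    have := le_wDiv_strong hK Φ hΦ τ hH hφ hJ hn hP
    rw [Finset.mem_coe, Finsupp.mem_support_iff, hWdef]
    omega
  have hfin := W.support.finite_toSet.subset hsub
  refine ⟨hfin, ?_⟩
  rw [add_comm (n : ℤ), ← deg_wDiv hK Φ hΦ τ hH hφ J, Set.ncard_eq_toFinset_card _ hfin]
  have h1 : (n : ℤ) * (hfin.toFinset.card : ℤ) ≤ ∑ P ∈ hfin.toFinset, W P * (P.deg : ℤ) := by
    rw [mul_comm, ← smul_eq_mul, natCast_zsmul]
    refine Finset.card_nsmul_le_sum _ _ _ fun P hP => ?_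
    rw [LLS31.deg_place_eq_one hK P, Nat.cast_one, mul_one]
    exact le_wDiv_strong hK Φ hΦ τ hH hφ hJ hn (hfin.mem_toFinset.1 hP)
  exact h1.trans (Finset.sum_le_sum_of_subset_of_nonneg
    (fun P hP => hsub (hfin.mem_toFinset.1 hP))
    fun P _ _ => mul_nonneg (wDiv_nonneg hK Φ hΦ τ hH hφ hJ P) (Int.natCast_nonneg _))

theorem exists_expansion_family (hK : IsFunctionField k K) :
    ∃ Φ : Place k K → (K →ₐ[k] k⸨X⸩), ∀ P : Place k K, LocRes.IsExpansionAt P.1 (Φ P) := by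
  have : ∀ P : Place k K, ∃ φ : K →ₐ[k] k⸨X⸩, LocRes.IsExpansionAt P.1 φ := fun P => by
    obtain ⟨t, -, ht⟩ := FF30.exists_uniformizer P
    exact ⟨_, Exp31.isExpansionAt_expand (Exp31.isRational_of_isAlgClosed hK P) ht⟩
  choose Φ hΦ using this
  exact ⟨Φ, hΦ⟩

end Groth.Agent.SV31
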