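import Groth.Agent.SV31.Classical
import Groth.Agent.FF30.Fixed
import Groth.Agent.LLS31.Bridge

/-! Weierstrass points of the canonical map. -/

namespace Groth.Agent.SV31

open FunFld WithZero
open FF30 (IsGap gapsUpTo)
open scoped LaurentSeries

universe u v

variable {k : Type u} {K : Type v} [Field k] [Field K] [Algebra k K] [IsAlgClosed k] {n : ℕ}

theorem ell_single_one (hK : IsFunctionField k K) (hg : 0 < genus k K) (P : Place k K) :
    ell (Finsupp.single P 1 : Divisor k K) ≤ 1 := by
  exact LLS31.finrank_L_le_one_of_genus_pos hK hg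
    (by rw [LLS31.deg_single, LLS31.deg_place_eq_one hK]; norm_num)

/-- The canonical series has no base points. -/
theorem mapDiv_canonical (hK : IsFunctionField k K) (hg : 0 < genus k K) {C : Divisor k K}
    (hC : IsCanonical k K C) {φ : Fin (n + 1) → K} (hφ : LinearIndependent k φ)
    (hspan : Submodule.span k (Set.range φ) = L C) : mapDiv k φ = C := by
  have hF := FF30.FF.of_isFunctionField hK
  refine Finsupp.ext fun P => le_antisymm ?_ ?_
  · obtain ⟨i, hi⟩ := exists_val_eq_mapDiv hK φ hφ.ne_zero P
    have : φ i ∈ L C := hspan ▸ Submodule.subset_span ⟨i, rfl⟩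
    exact exp_le_exp.1 (hi ▸ this P)
  · by_contra hlt
    rw [not_le] at hlt
    have hle : L C ≤ L (C - Finsupp.single P 1) := by
      intro f hf Q
      by_cases hQ : Q = P
      · subst hQ
        rw [Finsupp.sub_apply, Finsupp.single_eq_same]
        rw [← hspan] at hf
        obtain ⟨a, rfl⟩ := (Submodule.mem_span_range_iff_exists_fun k).1 hf
        exact (Q.1.map_sum_le fun l _ => (FF30.val_smul_le Q _ _).trans
          (val_le_exp_mapDiv hK φ Q l)).trans (exp_le_exp.2 (by omega))
      · rw [Finsupp.sub_apply, Finsupp.single_eq_of_ne hQ, sub_zero]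
        exact hf Q
    have := hF.finite_L (C - Finsupp.single P 1)
    have h1 : ell C ≤ ell (C - Finsupp.single P 1) := Submodule.finrank_mono hle
    have h2 := FF30.riemann_roch' hK hC (C - Finsupp.single P 1)
    rw [sub_sub_cancel, FF30.deg_sub, FF30.deg_canonical hK hC, LLS31.deg_single,
      LLS31.deg_place_eq_one hK] at h2
    have h3 := ell_single_one hK hg P
    rw [FF30.ell_canonical hK hC] at h1
    push_cast at h2
    omega

/-- An order at `P` of the canonical series is one less than a gap. -/
theorem exists_ord_iff_isGap (hK : IsFunctionField k K) {C : Divisor k K} (hC : IsCanonical k K C)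
    (P : Place k K) (j : ℕ) :
    (∃ f ∈ L C, P.1 f = exp (C P - j)) ↔ IsGap P (j + 1) := by
  classical
  have hF := FF30.FF.of_isFunctionField hK
  let E : ℕ → Divisor k K := fun i => Finsupp.single P (i : ℤ)
  have hEj : ∀ i, (ell (C - E i) : ℤ) = (genus k K : ℤ) - 1 - i + ell (E i) := fun i => by
    have h := FF30.riemann_roch' hK hC (C - E i)
    rw [sub_sub_cancel, FF30.deg_sub, FF30.deg_canonical hK hC, LLS31.deg_single,
      LLS31.deg_place_eq_one hK] at h
    rw [h]; push_cast; ring
  have hsub : L (C - E (j + 1)) ≤ L (C - E j) :=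
    FF30.L_mono (sub_le_sub_left (Finsupp.single_le_single.2 (by push_cast; omega)) C)
  have hup : L (E j) ≤ L (E (j + 1)) := FF30.L_mono (Finsupp.single_le_single.2 (by push_cast; omega))
  have := hF.finite_L (C - E j)
  have := hF.finite_L (E (j + 1))
  have hm1 : ell (C - E (j + 1)) ≤ ell (C - E j) := Submodule.finrank_mono hsub
  have hm2 : ell (E j) ≤ ell (E (j + 1)) := Submodule.finrank_mono hup
  have hgap : IsGap P (j + 1) ↔ ell (E (j + 1)) = ell (E j) := by
    unfold IsGap
    rw [show ((j + 1 : ℕ) : ℤ) - 1 = (j : ℤ) by push_cast; ring]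
    refine ⟨fun h => congrArg (fun p : Submodule k K => Module.finrank k p) h, fun h => ?_⟩
    exact (Submodule.eq_of_le_of_finrank_eq hup h.symm).symm
  have hh := hEj j
  have hh' := hEj (j + 1)
  rw [hgap]
  constructor
  · rintro ⟨f, hf, hv⟩
    have hmem : f ∈ L (C - E j) := fun Q => by
      by_cases hQ : Q = P
      · subst hQ; simp [E, hv]
      · simpa [E, Finsupp.single_eq_of_ne hQ] using hf Q
    have hnot : f ∉ L (C - E (j + 1)) := fun hh => by
      have := hh P
      simp only [E, hv, Finsupp.sub_apply, Finsupp.single_eq_same, exp_le_exp] at this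
      omega
    have hlt : ell (C - E (j + 1)) < ell (C - E j) :=
      Submodule.finrank_lt_finrank_of_lt (lt_of_le_of_ne hsub fun he => hnot (he ▸ hmem))
    push_cast at hh'
    omega
  · intro he
    obtain ⟨f, hf, hnot⟩ : ∃ f ∈ L (C - E j), f ∉ L (C - E (j + 1)) := by
      refine SetLike.not_le_iff_exists.1 fun hle => ?_
      have hm3 : ell (C - E j) ≤ ell (C - E (j + 1)) :=
        haveI := hF.finite_L (C - E (j + 1))
        Submodule.finrank_mono hle
      push_cast at hh'
      omega
    refine ⟨f, fun Q => (hf Q).trans (exp_le_exp.2 ?_), ?_⟩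
    · by_cases hQ : Q = P
      · subst hQ; simp [E]
      · simp [E, Finsupp.single_eq_of_ne hQ]
    · have h1 := hf P
      simp only [E, Finsupp.sub_apply, Finsupp.single_eq_same] at h1
      rcases h1.eq_or_lt with h | h
      · exact h
      · refine absurd (fun Q => ?_) hnot
        by_cases hQ : Q = P
        · subst hQ
          have hf0 : ∀ {m : ℤ}, Q.1 f < exp m → Q.1 f ≤ exp (m - 1) := fun {m} hm => by
            rcases eq_or_ne f 0 with rfl | hne
            · simp
            · rw [FF30.val_eq Q hne, exp_lt_exp] at hm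
              rw [FF30.val_eq Q hne, exp_le_exp]; omega
          refine (hf0 h).trans (exp_le_exp.2 ?_)
          simp [E]; omega
        · simpa [E, Finsupp.single_eq_of_ne hQ] using hf Q

/-- Orders of the canonical map at a place, with the weight. -/
theorem exists_orders_at (hK : IsFunctionField k K) (hg : 0 < genus k K)
    (hchar : ringChar k = 0 ∨ 2 * genus k K - 2 < ringChar k) {C : Divisor k K}
    (hC : IsCanonical k K C) {φ : Fin (n + 1) → K} (hφ : LinearIndependent k φ)
    (hspan : Submodule.span k (Set.range φ) = L C) {s : K} {H : K →ₐ[k] PowerSeries K}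
    (hH : LocRes.IsHasseFamily s H) (Φ : Place k K → (K →ₐ[k] k⸨X⸩))
    (hΦ : ∀ P : Place k K, LocRes.IsExpansionAt P.1 (Φ P)) (P : Place k K) :
    ∃ J' : Fin n → ℕ, StrictMono J' ∧
      (∀ j, j ∈ Set.range J' ↔ 0 < j ∧ IsGap P (j + 1)) ∧
      wDiv (AlgHom.id k K) H Φ s φ (fun l : Fin n => (l : ℕ) + 1) P =
        ∑ l : Fin n, ((J' l : ℤ) - ((l : ℕ) + 1)) := by
  have hF := FF30.FF.of_isFunctionField hK
  have hmd := mapDiv_canonical hK hg hC hφ hspan
  have hdeg : (mapDiv k φ).deg = 2 * (genus k K : ℤ) - 2 := by rw [hmd, FF30.deg_canonical hK hC]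
  have hc' : ringChar k = 0 ∨ (mapDiv k φ).deg < ringChar k := hchar.imp id fun h => by rw [hdeg]; omega
  have hJ := (orders_classical hK hφ hc' (AlgHom.id k K) hH).1 rfl
  obtain ⟨y, t, Ht, ψ, hy, ht, hψ, hli, hnorm, heff, hJy, hW⟩ :=
    wDiv_normalized hK Φ hΦ (AlgHom.id k K) hH hφ hJ P
  obtain ⟨J', hJ'⟩ := exists_isOrders (span_coefCol hψ hli hnorm) (n := n) (by simp)
    (coefCol_zero_ne hψ heff)
  have hpos : ∀ l, 0 < J' l := fun l =>
    ((isJump_coefCol_iff hψ hnorm (J' l)).1 ((hJ'.2 _).1 ⟨l, rfl⟩)).1
  have hN : ∀ l, J' l ≤ 2 * genus k K - 2 := fun l => by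
    have := orders_at_le_deg hK hψ hli hnorm heff hJ' l
    rw [deg_mapDiv_smul hK hφ hy, hdeg] at this
    omega
  refine ⟨J', hJ'.1, fun j => ?_, ?_⟩
  · have hoy : P.1 y = exp (-(C P)) := by
      have h := mapDiv_smul hK hφ.ne_zero hy P
      rw [mapDiv_eq_zero hK hli P hnorm heff, hmd] at h
      rw [FF30.val_eq P hy]; congr 1; omega
    have hspan' : Submodule.span k (Set.range (y • φ)) = (L C).map (LinearMap.mulLeft k y) := by
      rw [← hspan, Submodule.map_span, ← Set.range_comp]; rfl
    rw [hJ'.2 j, isJump_coefCol_iff hψ hnorm j, hspan', ← exists_ord_iff_isGap hK hC P j]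
    refine and_congr_right fun _ => ⟨?_, ?_⟩
    · rintro ⟨_, ⟨f, hf, rfl⟩, hv⟩
      refine ⟨f, hf, ?_⟩
      rw [LinearMap.mulLeft_apply, map_mul, hoy] at hv
      calc P.1 f = exp (C P) * (exp (-(C P)) * P.1 f) := by rw [← mul_assoc, ← exp_add, add_neg_cancel, exp_zero, one_mul]
        _ = exp (C P - j) := by rw [hv, ← exp_add, sub_eq_add_neg]
    · rintro ⟨f, hf, hv⟩
      refine ⟨y * f, ⟨f, hf, rfl⟩, ?_⟩
      rw [map_mul, hoy, hv, ← exp_add]; congr 1; ring
  · obtain ⟨-, h2⟩ := wrMat_order hK hψ ht (AlgHom.id k K) (fun z hz => hz) hli heff hnorm hJ'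
      (fun l : Fin n => (l : ℕ) + 1)
    have h3 := (h2 (Or.inl fun l => Nat.succ_pos _)).2 (det_binom_succ hchar hJ'.1 hN hpos)
    rw [FF30.val_eq P (det_ne_zero_of_isOrders hli hJy), exp_inj, neg_inj] at h3
    have hid : (AlgHom.id k K : K → K) ∘ (y • φ) = y • φ := rfl
    rw [hW, h3, hid, mapDiv_eq_zero hK hli P hnorm heff, add_zero]
    simp

/-- The `l`-th order is at most `2(l+1)`. -/
theorem orders_at_le (hK : IsFunctionField k K) (hng : n + 1 = genus k K) (P : Place k K)
    {J' : Fin n → ℕ} (hJ' : StrictMono J')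
    (hJ'' : ∀ j, j ∈ Set.range J' ↔ 0 < j ∧ IsGap P (j + 1)) (l : Fin n) : J' l ≤ 2 * (l : ℕ) + 2 := by
  classical
  by_contra hlt
  rw [not_le] at hlt
  have h1 := FF30.le_card_gaps hK P (l := (l : ℕ) + 2) (by omega) (by have := l.isLt; omega)
  have hsub : gapsUpTo P (2 * ((l : ℕ) + 2) - 1) ⊆
      insert 1 ((Finset.univ.filter fun i : Fin n => i < l).image fun i => J' i + 1) := by
    intro m hm
    obtain ⟨hm1, hm2, hm3⟩ := FF30.mem_gapsUpTo.1 hm
    rw [Finset.mem_insert]
    by_cases h : m = 1
    · exact Or.inl h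
    · right
      obtain ⟨i, hi⟩ := (hJ'' (m - 1)).2 ⟨by omega, by rwa [show m - 1 + 1 = m by omega]⟩
      refine Finset.mem_image.2 ⟨i, Finset.mem_filter.2 ⟨Finset.mem_univ i, ?_⟩, by omega⟩
      by_contra hil
      have := hJ'.monotone (not_lt.1 hil)
      omega
  have h2 := (Finset.card_le_card hsub).trans
    ((Finset.card_insert_le _ _).trans (Nat.add_le_add_right Finset.card_image_le 1))
  have h3 : (Finset.univ.filter fun i : Fin n => i < l).card = l := by
    rw [show (Finset.univ.filter fun i : Fin n => i < l) = Finset.Iio l by ext i; simp]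
    exact Fin.card_Iio l
  omega

theorem two_mul_sum_fin (n : ℕ) : 2 * ∑ l : Fin n, (((l : ℕ) : ℤ) + 1) = (n : ℤ) * (n + 1) := by
  induction n with
  | zero => simp
  | succ n ih =>
    rw [Fin.sum_univ_castSucc, mul_add]
    simp only [Fin.val_castSucc, Fin.val_last, ih]
    push_cast; ring

/-- The place obtained by applying an automorphism. -/
noncomputable def comapPlace (σ : K ≃ₐ[k] K) (Q : Place k K) : Place k K :=
  ⟨Q.1.comap ((σ : K ≃ₐ[k] K) : K →+* K), fun c => by
    rw [Valuation.comap_apply]
    change Q.1 (σ (algebraMap k K c)) ≤ 1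
    rw [σ.commutes]; exact Q.2.1 c,
  fun v => by
    obtain ⟨z, hz⟩ := Q.2.2 v
    exact ⟨σ.symm z, by rw [Valuation.comap_apply]; simpa using hz⟩⟩

omit [IsAlgClosed k] in
theorem comapPlace_val (σ : K ≃ₐ[k] K) (Q : Place k K) (z : K) :
    (comapPlace σ Q).1 z = Q.1 (σ z) := rfl

omit [IsAlgClosed k] in
theorem isFixedPt_iff_comapPlace (σ : K ≃ₐ[k] K) (Q : Place k K) :
    IsFixedPt (σ : K →ₐ[k] K) Q ↔ comapPlace σ Q = Q := by
  constructor
  · intro h
    refine FF30.eq_of_val_le_one_imp fun z hz => ?_
    by_contra hgt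
    rw [not_le] at hgt
    rw [comapPlace_val] at hz
    have h1 : Q.1 (σ z⁻¹) < 1 := h _ (by rw [map_inv₀]; exact inv_lt_one_of_one_lt₀ hgt)
    rw [map_inv₀, map_inv₀] at h1
    rcases eq_or_ne z 0 with rfl | hz0
    · simp at hgt
    · exact absurd ((inv_lt_one₀ (zero_lt_iff.2 (FF30.val_ne_zero Q ((map_ne_zero σ).2 hz0)))).1 h1)
        (not_lt.2 hz)
  · intro h z hz
    show Q.1 (σ z) < 1
    rwa [← comapPlace_val, h]

omit [IsAlgClosed k] in
theorem ell_ge_of_sole_double_pole (hK : IsFunctionField k K) {P : Place k K} {x : K}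
    (hx : P.ord x = -2) (hx' : ∀ Q : Place k K, Q ≠ P → 0 ≤ Q.ord x) (m : ℕ) :
    m + 1 ≤ ell (Finsupp.single P (2 * m : ℤ) : Divisor k K) := by
  have htr : Transcendental k x := FF30.transcendental_of_ord_ne_zero P (by omega)
  have hx0 : x ≠ 0 := by rintro rfl; rw [FF30.ord_zero] at hx; omega
  set D : Divisor k K := Finsupp.single P (2 * m : ℤ)
  have := (FF30.FF.of_isFunctionField hK).finite_L D
  have hmem : ∀ i : Fin (m + 1), x ^ (i : ℕ) ∈ L D := fun i => by
    rw [FF30.mem_L_iff_ord (pow_ne_zero _ hx0)]
    intro Q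
    by_cases hQ : Q = P
    · subst hQ
      rw [FF30.ord_pow, hx, Finsupp.single_eq_same]
      have := i.isLt
      nlinarith
    · rw [FF30.ord_pow, Finsupp.single_eq_of_ne hQ]
      have := hx' Q hQ
      simp only [neg_zero]
      positivity
  have hli : LinearIndependent k fun i : Fin (m + 1) => x ^ (i : ℕ) := by
    refine Fintype.linearIndependent_iff.2 fun g hg i => ?_
    have h0 : ∑ j : Fin (m + 1), Polynomial.monomial (j : ℕ) (g j) = 0 := by
      refine transcendental_iff.1 htr _ ?_
      rw [map_sum]
      refine Eq.trans (Finset.sum_congr rfl fun j _ => ?_) hg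
      rw [Polynomial.aeval_monomial, Algebra.smul_def]
    have := congrArg (fun p : Polynomial k => p.coeff (i : ℕ)) h0
    simp only [Polynomial.finsetSum_coeff, Polynomial.coeff_monomial, Polynomial.coeff_zero] at this
    rwa [Finset.sum_eq_single i (fun j _ hj => if_neg fun e => hj (Fin.ext e)) (by simp), if_pos rfl]
      at this
  have h2 : LinearIndependent k fun i : Fin (m + 1) => (⟨_, hmem i⟩ : L D) :=
    LinearIndependent.of_comp (L D).subtype hli
  simpa [ell] using h2.fintype_card_le_finrank

theorem dichotomy (hK : IsFunctionField k K) (hg : 1 < genus k K)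
    (hchar : ringChar k = 0 ∨ 2 * genus k K - 2 < ringChar k) (C : Divisor k K)
    (hC : IsCanonical k K C) (φ : Fin (n + 1) → K) (hφ : LinearIndependent k φ)
    (hspan : Submodule.span k (Set.range φ) = L C) (s : K) (H : K →ₐ[k] PowerSeries K)
    (hH : LocRes.IsHasseFamily s H) (J : Fin n → ℕ)
    (hJ : IsOrders K (hcol (AlgHom.id k K) H φ) J) (Φ : Place k K → (K →ₐ[k] k⸨X⸩))
    (hΦ : ∀ P : Place k K, LocRes.IsExpansionAt P.1 (Φ P)) :
    (2 * genus k K + 2 < Set.ncard {P : Place k K | wDiv (AlgHom.id k K) H Φ s φ J P ≠ 0} ∧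
      ∀ σ : K ≃ₐ[k] K, (∀ P : Place k K, wDiv (AlgHom.id k K) H Φ s φ J P ≠ 0 →
        IsFixedPt (σ : K →ₐ[k] K) P) → σ = AlgEquiv.refl) ∨
    (Set.ncard {P : Place k K | wDiv (AlgHom.id k K) H Φ s φ J P ≠ 0} = 2 * genus k K + 2 ∧
      ∃ x : K, Module.finrank (IntermediateField.adjoin k ({x} : Set K)) K = 2 ∧
        ∀ σ : K ≃ₐ[k] K, (∀ P : Place k K, wDiv (AlgHom.id k K) H Φ s φ J P ≠ 0 →
          IsFixedPt (σ : K →ₐ[k] K) P) ↔ σ x = x) := by
  classical
  have hF := FF30.FF.of_isFunctionField hK
  set g := genus k K with hgdef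
  have hng : n + 1 = g := by
    have h := finrank_span_eq_card hφ
    rw [hspan, Fintype.card_fin] at h
    have h2 := FF30.ell_canonical hK hC
    rw [ell] at h2
    omega
  have hmd := mapDiv_canonical hK (by omega) hC hφ hspan
  have hdegmd : (mapDiv k φ).deg = 2 * (g : ℤ) - 2 := by rw [hmd, FF30.deg_canonical hK hC]
  obtain rfl : J = fun l : Fin n => (l : ℕ) + 1 := isOrders_unique hJ
    ((orders_classical hK hφ (hchar.imp id fun h => by rw [hdegmd]; omega) (AlgHom.id k K) hH).1 rfl)
  set W := wDiv (AlgHom.id k K) H Φ s φ (fun l : Fin n => (l : ℕ) + 1) with hWdef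
  set M : ℤ := ∑ l : Fin n, (((l : ℕ) : ℤ) + 1) with hM
  have h2M : 2 * M = (n : ℤ) * (n + 1) := two_mul_sum_fin n
  -- the local data
  have hloc := exists_orders_at hK (by omega) hchar hC hφ hspan hH Φ hΦ
  have hWle : ∀ P, W P ≤ M := fun P => by
    obtain ⟨J', hJ', hJ'', hW⟩ := hloc P
    rw [hWdef, hW]
    refine Finset.sum_le_sum fun l _ => ?_
    have := orders_at_le hK hng P hJ' hJ'' l
    omega
  have hnn : ∀ P, 0 ≤ W P := wDiv_nonneg hK Φ hΦ _ hH hφ hJ
  have hdegW : W.deg = 2 * M * ((g : ℤ) + 1) := by
    rw [hWdef, deg_wDiv hK Φ hΦ _ hH hφ, hdegmd]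
    have h1 : Module.finrank (AlgHom.id k K).fieldRange K = 1 := by
      rw [show (AlgHom.id k K).fieldRange = ⊤ from eq_top_iff.2 fun z _ => ⟨z, rfl⟩]
      exact IntermediateField.finrank_top
    rw [h1, show (∑ l : Fin n, (((l : ℕ) + 1 : ℕ) : ℤ)) = M by push_cast; rfl]
    have : (g : ℤ) = n + 1 := by omega
    rw [this]
    push_cast
    linear_combination (-2 : ℤ) * h2M
  have hsupp : {P : Place k K | W P ≠ 0} = ↑W.support := by ext P; simp
  rw [hsupp, Set.ncard_coe_finset]
  have hsum : W.deg = ∑ P ∈ W.support, W P := by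
    unfold Divisor.deg Finsupp.sum
    exact Finset.sum_congr rfl fun P _ => by simp [LLS31.deg_place_eq_one hK]
  have hMpos : 0 < M := by
    have : (0 : ℤ) < (n : ℤ) * (n + 1) := by
      have : 0 < n := by omega
      positivity
    omega
  have hNge : 2 * (g : ℤ) + 2 ≤ (W.support.card : ℤ) := by
    have h := Finset.sum_le_card_nsmul W.support W M fun P _ => hWle P
    rw [← hsum, hdegW, nsmul_eq_mul] at h
    nlinarith
  rcases lt_or_eq_of_le hNge with hgt | heq
  · refine Or.inl ⟨by omega, fun σ hσ => ?_⟩
    exact FF30.algEquiv_eq_one_of_fixed hK σ (F := W.support) (by omega)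
      fun P hP => hσ P (Finsupp.mem_support_iff.1 hP)
  · refine Or.inr ⟨by omega, ?_⟩
    have hall : ∀ P ∈ W.support, W P = M := by
      refine (Finset.sum_eq_sum_iff_of_le fun P _ => hWle P).1 ?_
      rw [← hsum, hdegW, Finset.sum_const, nsmul_eq_mul, ← heq]
      ring
    obtain ⟨P, hP⟩ : W.support.Nonempty := Finset.card_pos.1 (by omega)
    obtain ⟨J', hJ', hJ'', hW⟩ := hloc P
    have hJeq : ∀ l, J' l = 2 * (l : ℕ) + 2 := by
      have h := (Finset.sum_eq_sum_iff_of_le (s := Finset.univ)
        (f := fun l : Fin n => (J' l : ℤ) - ((l : ℕ) + 1)) (g := fun l : Fin n => ((l : ℕ) : ℤ) + 1)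
        fun l _ => by have := orders_at_le hK hng P hJ' hJ'' l; omega).1 (hW.symm.trans (hall P hP))
      intro l
      have := h l (Finset.mem_univ l)
      omega
    have hnotgap : ¬ IsGap P 2 := fun h2 => by
      obtain ⟨l, hl⟩ := (hJ'' 1).2 ⟨one_pos, h2⟩
      rw [hJeq] at hl
      omega
    obtain ⟨x, hxP, hxQ⟩ := (FF30.not_isGap_iff hF P (by omega)).1 hnotgap
    have hxP' : P.ord x = -2 := by simpa using hxP
    have hx0 : x ≠ 0 := by rintro rfl; rw [FF30.ord_zero] at hxP'; omega
    have htr : Transcendental k x := FF30.transcendental_of_ord_ne_zero P (by omega)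
    have hpole : FF30.poleDiv (k := k) x = Finsupp.single P (2 : ℤ) := Finsupp.ext fun Q => by
      rw [hF.poleDiv_apply]
      by_cases hQ : Q = P
      · subst hQ; rw [Finsupp.single_eq_same, hxP']; simp
      · rw [Finsupp.single_eq_of_ne hQ]; have := hxQ Q hQ; omega
    have hdeg2 := hF.deg_poleDiv htr
    rw [hpole, LLS31.deg_single, LLS31.deg_place_eq_one hK] at hdeg2
    refine ⟨x, by omega, fun σ => ⟨fun hσ => ?_, fun hσ Q hQ => ?_⟩⟩
    · -- `σ x - x` has poles at most `2P` and too many zeros
      by_contra hne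
      set y := σ x - x
      have hy : y ≠ 0 := sub_ne_zero.2 hne
      have hPfix := (isFixedPt_iff_comapPlace σ P).1 (hσ P (Finsupp.mem_support_iff.1 hP))
      have hyL : ∀ Q, Q ≠ P → Q.1 y ≤ 1 := fun Q hQ => by
        refine (Q.1.map_sub _ _).trans (max_le ?_ ((FF30.val_le_one_iff Q).2 (hxQ Q hQ)))
        rw [← comapPlace_val]
        refine (FF30.val_le_one_iff _).2 (hxQ _ fun h => hQ ?_)
        refine Subtype.ext (Valuation.ext fun z => ?_)
        have h1 := congrArg (fun R : Place k K => R.1 (σ.symm z)) h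
        have h2 := congrArg (fun R : Place k K => R.1 (σ.symm z)) hPfix
        simp only [comapPlace_val, AlgEquiv.apply_symm_apply] at h1 h2
        rw [h1, ← h2]
      have hyP : P.1 y ≤ exp 2 := by
        refine (P.1.map_sub _ _).trans (max_le ?_ ?_)
        · rw [← comapPlace_val, hPfix, FF30.val_eq P hx0, hxP', neg_neg]
        · rw [FF30.val_eq P hx0, hxP', neg_neg]
      set E : Divisor k K := (∑ R ∈ W.support.erase P, Finsupp.single R (1 : ℤ)) -
        Finsupp.single P 2 with hE
      have hle : E ≤ div k y := by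
        intro Q
        rw [hF.div_apply, hE, Finsupp.sub_apply, Finsupp.finsetSum_apply]
        simp only [Finsupp.single_apply]
        rw [Finset.sum_ite_eq']
        by_cases hQP : P = Q
        · subst hQP
          rw [if_neg (Finset.notMem_erase _ _), if_pos rfl]
          have := (FF30.val_le_exp_iff P hy 2).1 hyP
          omega
        · rw [if_neg hQP]
          have h0 := (FF30.val_le_one_iff Q).1 (hyL Q (Ne.symm hQP))
          split_ifs with hQ
          · obtain ⟨c, hc⟩ := hF.exists_sub_lt Q ((FF30.val_le_one_iff Q).2 (hxQ Q (Ne.symm hQP)))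
            have h2 := hσ Q (Finsupp.mem_support_iff.1 (Finset.mem_of_mem_erase hQ)) _ hc
            simp only [AlgEquiv.coe_toAlgHom, map_sub, AlgEquiv.commutes] at h2
            have h3 : Q.1 y < 1 := by
              rw [show y = (σ x - algebraMap k K c) - (x - algebraMap k K c) from
                (sub_sub_sub_cancel_right _ _ _).symm]
              exact (Q.1.map_sub _ _).trans_lt (max_lt h2 hc)
            have := (FF30.val_lt_one_iff Q hy).1 h3
            omega
          · omega
      have h4 := FF30.deg_mono hle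
      rw [hF.deg_div, hE, FF30.deg_sub, LLS31.deg_single, LLS31.deg_place_eq_one hK] at h4
      have h5 : (∑ R ∈ W.support.erase P, Finsupp.single R (1 : ℤ) : Divisor k K).deg =
          ((W.support.erase P).card : ℤ) := by
        rw [hF.deg_eq_sum_coeff, ← Finsupp.sum_finsetSum_index (fun _ => rfl) (fun _ _ _ => rfl)]
        simp
      rw [h5, Finset.card_erase_of_mem hP] at h4
      omega
    · rw [isFixedPt_iff_comapPlace]
      by_cases hQP : Q = P
      · subst hQP
        by_contra hne
        have h1 := hxQ _ hne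
        rw [← FF30.val_le_one_iff, comapPlace_val, hσ, FF30.val_le_one_iff, hxP'] at h1
        omega
      · obtain ⟨c, hc⟩ := hF.exists_sub_lt Q ((FF30.val_le_one_iff Q).2 (hxQ Q hQP))
        set z := x - algebraMap k K c with hz
        have hz0 : z ≠ 0 := fun h => htr (by
          rw [sub_eq_zero.1 h]; exact isAlgebraic_algebraMap c)
        have hzP : P.ord z = -2 := by
          refine (FF30.ord_eq_of_val_eq P (n := 2) ?_).trans rfl
          rw [hz, P.1.map_sub_eq_of_lt_left, FF30.val_eq P hx0, hxP', neg_neg]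
          rw [FF30.val_eq P hx0, hxP', neg_neg]
          exact lt_of_le_of_lt (P.2.1 c) (by rw [← exp_zero, exp_lt_exp]; omega)
        have hzR : ∀ R, R ≠ P → 0 ≤ R.ord z := fun R hR => by
          rw [← FF30.val_le_one_iff]
          exact (R.1.map_sub _ _).trans (max_le ((FF30.val_le_one_iff R).2 (hxQ R hR)) (R.2.1 c))
        have hzQ : 0 < Q.ord z := (FF30.val_lt_one_iff Q hz0).1 hc
        -- `Q` is ramified
        have h2 : 2 ≤ Q.ord z := by
          by_contra hlt
          have hz1 : Q.ord z = 1 := by omega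
          obtain ⟨J'', hJm, hJr, hW'⟩ := hloc Q
          have hD : (0 : ℤ) < ell (C - Finsupp.single P (2 * n : ℤ)) := by
            have h1 := ell_ge_of_sole_double_pole hK hxP' hxQ n
            have h2 := FF30.riemann_roch' hK hC (Finsupp.single P (2 * n : ℤ))
            rw [LLS31.deg_single, LLS31.deg_place_eq_one hK] at h2
            push_cast at h2
            omega
          have hne : L (C - Finsupp.single P (2 * n : ℤ)) ≠ ⊥ := fun h => by
            rw [ell, h, finrank_bot] at hD; simp at hD
          obtain ⟨u, hu, hu0⟩ := Submodule.exists_mem_ne_zero_of_ne_bot hne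
          have huC : ∀ R, -(C R) + Finsupp.single P (2 * n : ℤ) R ≤ R.ord u := fun R => by
            have := (FF30.mem_L_iff_ord hu0).1 hu R
            rw [Finsupp.sub_apply] at this
            omega
          have hle : -C + Finsupp.single P (2 * n : ℤ) ≤ div k u := fun R => by
            rw [Finsupp.add_apply, Finsupp.neg_apply, hF.div_apply]; exact huC R
          have heq' : -C + Finsupp.single P (2 * n : ℤ) = div k u := by
            refine FF30.FF.eq_of_le_of_deg_le hF hle ?_
            rw [hF.deg_div, FF30.deg_add, FF30.deg_neg, FF30.deg_canonical hK hC, LLS31.deg_single,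
              LLS31.deg_place_eq_one hK]
            push_cast
            omega
          have huQ : Q.ord u = -(C Q) := by
            have := congrArg (fun D : Divisor k K => D Q) heq'
            rw [Finsupp.add_apply, Finsupp.neg_apply, hF.div_apply, Finsupp.single_eq_of_ne hQP] at this
            omega
          have hin : ∀ i : Fin n, (i : ℕ) + 1 ∈ Set.range J'' := fun i => by
            rw [hJr, ← exists_ord_iff_isGap hK hC Q]
            refine ⟨Nat.succ_pos _, u * z ^ ((i : ℕ) + 1), ?_, ?_⟩
            · rw [FF30.mem_L_iff_ord (mul_ne_zero hu0 (pow_ne_zero _ hz0))]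
              intro R
              rw [FF30.ord_mul R hu0 (pow_ne_zero _ hz0), FF30.ord_pow]
              have h1 := huC R
              by_cases hR : R = P
              · subst hR
                rw [Finsupp.single_eq_same] at h1
                rw [hzP]
                have := i.isLt
                push_cast
                nlinarith
              · rw [Finsupp.single_eq_of_ne hR] at h1
                have := mul_nonneg (Int.natCast_nonneg ((i : ℕ) + 1)) (hzR R hR)
                omega
            · rw [FF30.val_eq Q (mul_ne_zero hu0 (pow_ne_zero _ hz0)),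
                FF30.ord_mul Q hu0 (pow_ne_zero _ hz0), FF30.ord_pow, huQ, hz1]
              congr 1
              push_cast; ring
          have himg : (Finset.univ.image fun i : Fin n => (i : ℕ) + 1) = Finset.univ.image J'' := by
            refine Finset.eq_of_subset_of_card_le (fun m hm => ?_) ?_
            · obtain ⟨i, -, rfl⟩ := Finset.mem_image.1 hm
              obtain ⟨l, hl⟩ := hin i
              exact Finset.mem_image.2 ⟨l, Finset.mem_univ l, hl⟩
            · rw [Finset.card_image_of_injective (f := fun i : Fin n => (i : ℕ) + 1) _ fun a b h => Fin.ext (by simpa using h)]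
              exact Finset.card_image_le
          have hs := congrArg (fun S : Finset ℕ => ∑ m ∈ S, (m : ℤ)) himg
          simp only [Finset.sum_image (fun a _ b _ (h : (a : ℕ) + 1 = (b : ℕ) + 1) => Fin.ext (by omega)),
            Finset.sum_image (fun a _ b _ h => hJm.injective h)] at hs
          refine hQ ?_
          rw [hWdef, hW', Finset.sum_sub_distrib]
          push_cast at hs ⊢
          rw [Finset.sum_image (g := fun i : Fin n => (i : ℕ) + 1)
            (fun a _ b _ h => Fin.ext (by simpa using h))] at hs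
          push_cast at hs
          omega
        by_contra hne
        have hR2 : comapPlace σ Q ≠ P := fun h => by
          have h1 : (comapPlace σ Q).ord x = -2 := h ▸ hxP'
          have h2 := (FF30.val_le_one_iff Q).2 (hxQ Q hQP)
          rw [← hσ, ← comapPlace_val, FF30.val_le_one_iff] at h2
          omega
        have hσz : σ z = z := by rw [hz, map_sub, σ.commutes, hσ]
        have hzR' : 2 ≤ (comapPlace σ Q).ord z := by
          have : (comapPlace σ Q).1 z = Q.1 z := by rw [comapPlace_val, hσz]
          simp only [Place.ord] at h2 ⊢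
          rw [this]; exact h2
        have hEle : Finsupp.single Q (2 : ℤ) + Finsupp.single (comapPlace σ Q) (2 : ℤ) -
            Finsupp.single P (2 : ℤ) ≤ div k z := by
          intro R
          rw [hF.div_apply, Finsupp.sub_apply, Finsupp.add_apply]
          by_cases hRP : R = P
          · subst hRP
            rw [Finsupp.single_eq_of_ne (Ne.symm hQP), Finsupp.single_eq_of_ne (Ne.symm hR2),
              Finsupp.single_eq_same]
            omega
          · rw [Finsupp.single_eq_of_ne hRP, sub_zero]
            by_cases hRQ : R = Q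
            · subst hRQ
              rw [Finsupp.single_eq_same, Finsupp.single_eq_of_ne (Ne.symm hne)]
              omega
            · rw [Finsupp.single_eq_of_ne hRQ, zero_add]
              by_cases hRS : R = comapPlace σ Q
              · subst hRS
                rw [Finsupp.single_eq_same]
                exact hzR'
              · rw [Finsupp.single_eq_of_ne hRS]
                exact hzR R hRP
        have h6 := FF30.deg_mono hEle
        simp only [FF30.deg_sub, FF30.deg_add, hF.deg_div, LLS31.deg_single,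
          LLS31.deg_place_eq_one hK] at h6
        omega

end Groth.Agent.SV31
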