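import Groth.Agent.SV31.Deg
import Mathlib.LinearAlgebra.Vandermonde
import Mathlib.RingTheory.Polynomial.Pochhammer

/-! Classical maps in characteristic zero or large characteristic. -/

namespace Groth.Agent.SV31

open FunFld WithZero
open scoped LaurentSeries

universe u v

variable {k : Type u} {K : Type v} [Field k] [Field K] [Algebra k K] {n : ℕ}

theorem coe_le_of_strictMono {f : Fin n → ℕ} (hf : StrictMono f) (l : Fin n) : (l : ℕ) ≤ f l := by
  obtain ⟨l, hl⟩ := l
  induction l with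
  | zero => exact Nat.zero_le _
  | succ l ih =>
    have h1 := ih (Nat.lt_of_succ_lt hl)
    have h2 := hf (show (⟨l, Nat.lt_of_succ_lt hl⟩ : Fin n) < ⟨l + 1, hl⟩ from Nat.lt_succ_self l)
    simp only at h1 ⊢
    omega

omit [Field K] in
theorem cast_inj_of_lt {a b N : ℕ} (hchar : ringChar k = 0 ∨ N < ringChar k) (ha : a ≤ N) (hb : b ≤ N)
    (h : (a : k) = b) : a = b := by
  rcases hchar with h0 | hlt
  · have : CharZero k := (CharP.ringChar_zero_iff_CharZero k).1 h0
    exact_mod_cast h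
  · have := (CharP.natCast_eq_natCast k (ringChar k)).1 h
    rw [Nat.ModEq, Nat.mod_eq_of_lt (by omega), Nat.mod_eq_of_lt (by omega)] at this
    exact this

omit [Field K] in
theorem cast_ne_zero_of_le {a N : ℕ} (hchar : ringChar k = 0 ∨ N < ringChar k) (ha : a ≤ N)
    (h0 : 0 < a) : (a : k) ≠ 0 := fun h =>
  h0.ne' (cast_inj_of_lt hchar ha (Nat.zero_le _) (by rw [h, Nat.cast_zero]))

omit [Field K] in
theorem cast_factorial_ne_zero {a N : ℕ} (hchar : ringChar k = 0 ∨ N < ringChar k) (ha : a ≤ N) :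
    ((a.factorial : ℕ) : k) ≠ 0 := by
  induction a with
  | zero => simp
  | succ a ih =>
    rw [Nat.factorial_succ, Nat.cast_mul]
    exact mul_ne_zero (cast_ne_zero_of_le hchar ha a.succ_pos) (ih (by omega))

omit [Field K] in
theorem det_choose_ne_zero (v : Fin n → ℕ) (hv : Function.Injective fun r => (v r : k))
    (hf : ∀ s : Fin n, (((s : ℕ).factorial : ℕ) : k) ≠ 0) :
    (Matrix.of fun r (s : Fin n) => (((v r).choose (s : ℕ) : ℕ) : k)).det ≠ 0 := by
  intro h0
  refine Matrix.det_vandermonde_ne_zero_iff.2 hv ?_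
  rw [Matrix.det_eval_matrixOfPolynomials_eq_det_vandermonde (fun r => (v r : k))
    (fun s => descPochhammer k s) (fun s => descPochhammer_natDegree _ _)
    (fun s => monic_descPochhammer _ _)]
  have e : (Matrix.of fun r s : Fin n => (descPochhammer k (s : ℕ)).eval ((v r : k))) =
      Matrix.of fun r (s : Fin n) => (((s : ℕ).factorial : ℕ) : k) *
        (Matrix.of fun r (s : Fin n) => (((v r).choose (s : ℕ) : ℕ) : k)) r s := by
    refine Matrix.ext fun r s => ?_
    simp only [Matrix.of_apply, descPochhammer_eval_eq_descFactorial,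
      Nat.descFactorial_eq_factorial_mul_choose, Nat.cast_mul]
  rw [e, Matrix.det_mul_row, h0, mul_zero]

omit [Field K] in
theorem det_binom_low {J' : Fin n → ℕ} {N : ℕ} (hchar : ringChar k = 0 ∨ N < ringChar k)
    (hJ : StrictMono J') (hN : ∀ r, J' r ≤ N) :
    (binomMat k J' (fun l => (l : ℕ))).det ≠ 0 := by
  refine det_choose_ne_zero J' (fun a b h => hJ.injective (cast_inj_of_lt hchar (hN a) (hN b) h))
    fun s => cast_factorial_ne_zero hchar (le_trans ?_ (hN s))
  exact coe_le_of_strictMono hJ s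

omit [Field K] in
theorem det_binom_succ {J' : Fin n → ℕ} {N : ℕ} (hchar : ringChar k = 0 ∨ N < ringChar k)
    (hJ : StrictMono J') (hN : ∀ r, J' r ≤ N) (hpos : ∀ r, 0 < J' r) :
    (binomMat k J' (fun l => (l : ℕ) + 1)).det ≠ 0 := by
  have hlow : (Matrix.of fun r (s : Fin n) => (((J' r - 1).choose (s : ℕ) : ℕ) : k)).det ≠ 0 := by
    refine det_choose_ne_zero (fun r => J' r - 1) (fun a b h => hJ.injective ?_)
      fun s => cast_factorial_ne_zero hchar (le_trans (coe_le_of_strictMono hJ s) (hN s))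
    have := cast_inj_of_lt hchar (a := J' a - 1) (b := J' b - 1)
      ((Nat.sub_le _ _).trans (hN a)) ((Nat.sub_le _ _).trans (hN b)) h
    have := hpos a
    have := hpos b
    omega
  intro h0
  have e : (Matrix.of fun r (s : Fin n) => (((s : ℕ) + 1 : ℕ) : k) *
      (binomMat k J' (fun l => (l : ℕ) + 1)) r s) =
      Matrix.of fun r s => (J' r : k) *
        (Matrix.of fun r (s : Fin n) => (((J' r - 1).choose (s : ℕ) : ℕ) : k)) r s := by
    refine Matrix.ext fun r s => ?_
    obtain ⟨m, hm⟩ := Nat.exists_eq_add_of_le (hpos r)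
    simp only [binomMat, Matrix.of_apply, ← Nat.cast_mul]
    rw [hm, show 0 + 1 + m - 1 = m by omega, show 0 + 1 + m = m + 1 by omega,
      Nat.add_one_mul_choose_eq, mul_comm]
  have h1 := congrArg Matrix.det e
  rw [Matrix.det_mul_row, Matrix.det_mul_column, h0, mul_zero] at h1
  exact mul_ne_zero (Finset.prod_ne_zero_iff.2 fun r _ => cast_ne_zero_of_le hchar (hN r) (hpos r))
    hlow h1.symm

variable [IsAlgClosed k]

theorem deg_mapDiv_smul (hK : IsFunctionField k K) {φ : Fin (n + 1) → K}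
    (hφ : LinearIndependent k φ) {y : K} (hy : y ≠ 0) :
    (mapDiv k (y • φ)).deg = (mapDiv k φ).deg := by
  have hF := FF30.FF.of_isFunctionField hK
  have : mapDiv k (y • φ) = mapDiv k φ - div k y := Finsupp.ext fun P => by
    rw [mapDiv_smul hK hφ.ne_zero hy, Finsupp.sub_apply, hF.div_apply]
  rw [this, FF30.deg_sub, hF.deg_div, sub_zero]

/-- Orders at a place do not exceed the degree of the map. -/
theorem orders_at_le_deg (hK : IsFunctionField k K) {P : Place k K} {t : K}
    {Ht : K →ₐ[k] PowerSeries K} {ψ : K →ₐ[k] k⸨X⸩} (h : IsLocalData P t Ht ψ)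
    {φ : Fin (n + 1) → K} (hφ : LinearIndependent k φ) (hnorm : ∀ i, P.1 (φ i) ≤ 1)
    (heff : (1 : K) ∈ Submodule.span k (Set.range φ)) {J' : Fin n → ℕ}
    (hJ' : IsOrders k (coefCol ψ φ) J') (l : Fin n) : (J' l : ℤ) ≤ (mapDiv k φ).deg := by
  have hF := FF30.FF.of_isFunctionField hK
  obtain ⟨-, f, hf, hv⟩ := (isJump_coefCol_iff h hnorm (J' l)).1 ((hJ'.2 _).1 ⟨l, rfl⟩)
  have hf0 : f ≠ 0 := by rintro rfl; rw [map_zero] at hv; exact exp_ne_zero hv.symm
  have hfL : f ∈ L (mapDiv k φ) := by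
    refine Submodule.span_le.2 ?_ hf
    rintro _ ⟨i, rfl⟩ Q
    exact val_le_exp_mapDiv hK φ Q i
  have hle : Finsupp.single P (J' l : ℤ) ≤ div k f + mapDiv k φ := by
    intro Q
    rw [Finsupp.add_apply, hF.div_apply]
    have h1 : -mapDiv k φ Q ≤ Q.ord f := (FF30.val_le_exp_iff Q hf0 _).1 (hfL Q)
    by_cases hQ : Q = P
    · subst hQ
      rw [Finsupp.single_eq_same, mapDiv_eq_zero hK hφ Q hnorm heff, FF30.ord_eq_of_val_eq Q hv]
      omega
    · rw [Finsupp.single_eq_of_ne hQ]
      omega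
  have h2 := FF30.deg_mono hle
  rw [FF30.deg_add, hF.deg_div, LLS31.deg_single, LLS31.deg_place_eq_one hK P, zero_add,
    Nat.cast_one, mul_one] at h2
  exact h2

/-- The orders of a map in large characteristic. -/
theorem orders_classical (hK : IsFunctionField k K) {φ : Fin (n + 1) → K}
    (hφ : LinearIndependent k φ)
    (hchar : ringChar k = 0 ∨ (mapDiv k φ).deg < ringChar k) (τ : K →ₐ[k] K) {s : K}
    {H : K →ₐ[k] PowerSeries K} (hH : LocRes.IsHasseFamily s H) :
    (τ = AlgHom.id k K → IsOrders K (hcol τ H φ) (fun l : Fin n => (l : ℕ) + 1)) ∧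
    ((∃ P : Place k K, IsStrongFixedPt τ P) → IsOrders K (hcol τ H φ) (fun l : Fin n => (l : ℕ))) := by
  obtain ⟨J, hJ⟩ := exists_orders hK hφ τ hH
  obtain ⟨Φ, hΦ⟩ := exists_expansion_family hK
  have key : ∀ P : Place k K, IsFixedPt τ P → ∃ (y t : K) (Ht : K →ₐ[k] PowerSeries K)
      (ψ : K →ₐ[k] k⸨X⸩) (J' : Fin n → ℕ) (N : ℕ),
      (ringChar k = 0 ∨ N < ringChar k) ∧ StrictMono J' ∧ (∀ r, J' r ≤ N) ∧ (∀ r, 0 < J' r) ∧
      IsOrders K (hcol τ Ht (y • φ)) J ∧
      ∀ I : Fin n → ℕ, ((∀ l, 0 < I l) ∨ IsStrongFixedPt τ P) → (binomMat k J' I).det ≠ 0 →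
        (wrMat τ Ht (y • φ) I).det ≠ 0 := by
    intro P hP
    obtain ⟨y, t, Ht, ψ, hy, ht, hψ, hli, hnorm, heff, hJy, -⟩ :=
      wDiv_normalized hK Φ hΦ τ hH hφ hJ P
    obtain ⟨J', hJ'⟩ := exists_isOrders (span_coefCol hψ hli hnorm) (n := n) (by simp)
      (coefCol_zero_ne hψ heff)
    have hdeg : ∀ r, (J' r : ℤ) ≤ (mapDiv k φ).deg := fun r =>
      (orders_at_le_deg hK hψ hli hnorm heff hJ' r).trans (deg_mapDiv_smul hK hφ hy).le
    refine ⟨y, t, Ht, ψ, J', (mapDiv k φ).deg.toNat, ?_, hJ'.1,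
      fun r => ?_, fun r => ((isJump_coefCol_iff hψ hnorm (J' r)).1 ((hJ'.2 _).1 ⟨r, rfl⟩)).1, hJy,
      fun I hI hb h0 => ?_⟩
    · rcases hchar with h | h
      · exact Or.inl h
      · rcases Nat.eq_zero_or_pos (ringChar k) with h' | h'
        · exact Or.inl h'
        · right; omega
    · have := hdeg r; omega
    · have h1 := ((wrMat_order hK hψ ht τ hP hli heff hnorm hJ' I).2 hI).2 hb
      rw [h0, map_zero] at h1
      exact exp_ne_zero h1.symm
  constructor
  · rintro rfl
    obtain ⟨P⟩ := (FF30.FF.of_isFunctionField hK).nonempty_place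
    obtain ⟨y, t, Ht, ψ, J', N, hN, hmono, hle, hpos, hJy, hdet⟩ := key P fun z hz => hz
    suffices hJe : J = fun l : Fin n => (l : ℕ) + 1 from hJe ▸ hJ
    have hp := pos_of_isOrders_id hH hJ
    refine funext fun l => le_antisymm ?_ ?_
    · exact orders_le_of_det (J' := fun l : Fin n => (l : ℕ) + 1) hJy
        (fun a b hab => Nat.add_lt_add_right hab 1)
        (hdet _ (Or.inl fun l => Nat.succ_pos _) (det_binom_succ hN hmono hle hpos)) l
    · have h1 : StrictMono fun l => J l - 1 := fun a b hab => by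
        have h2 : J a < J b := hJ.1 hab
        have := hp a
        show J a - 1 < J b - 1
        omega
      have h3 : (l : ℕ) ≤ J l - 1 := coe_le_of_strictMono h1 l
      have := hp l
      omega
  · rintro ⟨P, hP⟩
    have hfix : IsFixedPt τ P := fun z hz => (hP z hz).trans_lt (by rw [← exp_zero, exp_lt_exp]; omega)
    obtain ⟨y, t, Ht, ψ, J', N, hN, hmono, hle, hpos, hJy, hdet⟩ := key P hfix
    suffices hJe : J = fun l : Fin n => (l : ℕ) from hJe ▸ hJ
    refine funext fun l => le_antisymm ?_ (coe_le_of_strictMono hJ.1 l)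
    exact orders_le_of_det (J' := fun l : Fin n => (l : ℕ)) hJy (fun a b hab => hab)
      (hdet _ (Or.inr hP) (det_binom_low hN hmono hle)) l

end Groth.Agent.SV31
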