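import Groth.Agent.SV31.Cols

/-! Invariance and comparison of orders. -/

namespace Groth.Agent.SV31

open FunFld WithZero

variable {k K : Type*} [Field k] [Field K] [Algebra k K] {n : ℕ}

theorem isJump_smul {s : K} {H : K →ₐ[k] PowerSeries K} (hH : LocRes.IsHasseFamily s H)
    {ι : Type*} (τ : K →ₐ[k] K) (φ : ι → K) {y : K} (hy : y ≠ 0) (j : ℕ) :
    IsJump K (hcol τ H (y • φ)) j ↔ IsJump K (hcol τ H φ) j := by
  refine isJump_of_triangular (a := fun j => if j = 0 then τ y else y) (fun j => ?_) (fun j => ?_) j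
  · split_ifs
    · exact (map_ne_zero τ).2 hy
    · exact hy
  · cases j with
    | zero =>
      rw [if_pos rfl, show hcol τ H (y • φ) 0 - τ y • hcol τ H φ 0 = 0 by funext i; simp [hcol]]
      exact zero_mem _
    | succ j => rw [if_neg (Nat.succ_ne_zero j)]; exact hcol_smul_sub_mem hH τ φ y j

theorem det_smul {s : K} {H : K →ₐ[k] PowerSeries K} (hH : LocRes.IsHasseFamily s H)
    (τ : K →ₐ[k] K) {φ : Fin (n + 1) → K} (y : K) {J : Fin n → ℕ} (hJ : IsOrders K (hcol τ H φ) J) :
    (wrMat τ H (y • φ) J).det = τ y * y ^ n * (wrMat τ H φ J).det := by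
  rw [det_of_triangular_cols (a := fun j => if j = 0 then τ y else y) (fun j => ?_) hJ]
  · simp
  · cases j with
    | zero =>
      rw [if_pos rfl, show hcol τ H (y • φ) 0 - τ y • hcol τ H φ 0 = 0 by funext i; simp [hcol]]
      exact zero_mem _
    | succ j => rw [if_neg (Nat.succ_ne_zero j)]; exact hcol_smul_sub_mem hH τ φ y j

theorem change_mem {s t : K} [Algebra.IsAlgebraic (IntermediateField.adjoin k ({s} : Set K)) K]
    {Hs Ht : K →ₐ[k] PowerSeries K} (hs : LocRes.IsHasseFamily s Hs) (ht : LocRes.IsHasseFamily t Ht)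
    {ι : Type*} (τ : K →ₐ[k] K) (φ : ι → K) (j : ℕ) :
    hcol τ Ht φ j - (if j = 0 then (1 : K) else LocRes.hasseD Ht 1 s ^ (j - 1)) • hcol τ Hs φ j ∈
      below K (hcol τ Hs φ) j := by
  cases j with
  | zero =>
    rw [if_pos rfl, one_smul, show hcol τ Ht φ 0 = hcol τ Hs φ 0 from rfl, sub_self]
    exact zero_mem _
  | succ j => rw [if_neg (Nat.succ_ne_zero j)]; exact hasseD_change_sub_mem hs ht τ φ j

section AlgClosed

variable [IsAlgClosed k]

theorem hasseD_one_ne_zero (hK : IsFunctionField k K) {s t : K} {Hs Ht : K →ₐ[k] PowerSeries K}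
    (hs : LocRes.IsHasseFamily s Hs) (ht : LocRes.IsHasseFamily t Ht) :
    LocRes.hasseD Ht 1 s ≠ 0 := by
  have := isSeparable_of_isHasseFamily hK ht
  intro h0
  have h := Exp31.derivation_eq_smul (k := k) ht (RingHom.id K)
    (AddMonoidHom.mk' (LocRes.hasseD Hs 1) fun a b => by simp only [LocRes.hasseD_apply, map_add])
    (fun a b => Exp31.hasseD_one_mul hs a b) (fun c => Exp31.hasseD_one_algebraMap c) s
  rw [h0, map_zero, zero_smul] at h
  exact one_ne_zero ((Exp31.hasseD_one_self hs).symm.trans h)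

omit [IsAlgClosed k] in
theorem isAlgebraic_adjoin (hK : IsFunctionField k K) {s : K} {H : K →ₐ[k] PowerSeries K}
    (hH : LocRes.IsHasseFamily s H) :
    Algebra.IsAlgebraic (IntermediateField.adjoin k ({s} : Set K)) K := by
  have := (FF30.FF.of_isFunctionField hK).finiteDimensional_adjoin (transcendental_of_isHasseFamily hK hH)
  exact Algebra.IsAlgebraic.of_finite _ K

theorem isJump_change (hK : IsFunctionField k K) {s t : K} {Hs Ht : K →ₐ[k] PowerSeries K}
    (hs : LocRes.IsHasseFamily s Hs) (ht : LocRes.IsHasseFamily t Ht) {ι : Type*}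
    (τ : K →ₐ[k] K) (φ : ι → K) (j : ℕ) :
    IsJump K (hcol τ Ht φ) j ↔ IsJump K (hcol τ Hs φ) j := by
  have := isAlgebraic_adjoin hK hs
  refine isJump_of_triangular (fun j => ?_) (change_mem hs ht τ φ) j
  split_ifs
  · exact one_ne_zero
  · exact pow_ne_zero _ (hasseD_one_ne_zero hK hs ht)

theorem det_change (hK : IsFunctionField k K) {s t : K} {Hs Ht : K →ₐ[k] PowerSeries K}
    (hs : LocRes.IsHasseFamily s Hs) (ht : LocRes.IsHasseFamily t Ht)
    (τ : K →ₐ[k] K) {φ : Fin (n + 1) → K} {J : Fin n → ℕ} (hJ : IsOrders K (hcol τ Hs φ) J) :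
    (wrMat τ Ht φ J).det = LocRes.hasseD Ht 1 s ^ (∑ l, J l) * (wrMat τ Hs φ J).det := by
  have := isAlgebraic_adjoin hK hs
  rw [det_of_triangular_cols (change_mem hs ht τ φ) hJ]
  simp [Finset.prod_pow_eq_pow_sum]

omit [IsAlgClosed k] in
/-- Orders never exceed the exponents of a nonzero Wronskian. -/
theorem orders_le_of_det {τ : K →ₐ[k] K} {H : K →ₐ[k] PowerSeries K} {φ : Fin (n + 1) → K}
    {J J' : Fin n → ℕ} (hJ : IsOrders K (hcol τ H φ) J) (hJ' : StrictMono J')
    (hdet : (wrMat τ H φ J').det ≠ 0) (l : Fin n) : J l ≤ J' l :=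
  orders_le hJ hJ' (linearIndependent_of_det J' hdet) l

/-- At a strong fixed point the orders are bounded by the shifted orders at the point. -/
theorem orders_add_le_strong (hK : IsFunctionField k K) {τ : K →ₐ[k] K} {P : Place k K}
    (hP : IsStrongFixedPt τ P) (hn : 0 < n) {φ : Fin (n + 1) → K} (hφ : LinearIndependent k φ)
    (heff : (1 : K) ∈ Submodule.span k (Set.range φ)) (hnorm : ∀ i, P.1 (φ i) ≤ 1)
    {t : K} (ht : P.1 t = exp (-1)) {H : K →ₐ[k] PowerSeries K} {ψ : K →ₐ[k] LaurentSeries k}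
    (h : IsLocalData P t H ψ) {J : Fin n → ℕ} (hJ : IsOrders K (hcol τ H φ) J)
    {J' : Fin n → ℕ} (hJ' : IsOrders k (coefCol ψ φ) J') (l : Fin n) :
    J l + J' ⟨0, hn⟩ ≤ J' l := by
  classical
  obtain ⟨φ', hli, hspan, h0, hlead, hpos⟩ := exists_adapted_basis h hnorm heff hJ'
  obtain ⟨A, hA, hdetA⟩ := exists_change_of_span hli hspan
  set j₁ := J' ⟨0, hn⟩ with hj₁
  have hmin : ∀ l, j₁ ≤ J' l := fun l => hJ'.1.monotone (show (⟨0, hn⟩ : Fin n) ≤ l from Nat.zero_le _)
  have ht0 : t ≠ 0 := fun h0 => by rw [h0, map_zero] at ht; exact exp_ne_zero ht.symm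
  set y := (t ^ j₁)⁻¹ with hydef
  have hy : y ≠ 0 := inv_ne_zero (pow_ne_zero _ ht0)
  have hyv : P.1 y = exp (j₁ : ℤ) := by
    rw [hydef, map_inv₀, map_pow, ht, ← exp_nsmul, ← exp_neg]; simp
  have hψy : ψ y = HahnSeries.single (-(j₁ : ℤ)) (1 : k) := by
    rw [hydef, map_inv₀, map_pow, h.param, HahnSeries.single_pow, one_pow]
    refine (eq_inv_of_mul_eq_one_left ?_).symm
    rw [HahnSeries.single_mul_single, one_mul]
    simp
  let I : Fin n → ℕ := fun l => J' l - j₁
  have hImono : StrictMono I := fun a b hab => Nat.sub_lt_sub_right (hmin a) (hJ'.1 hab)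
  have hτt : τ t ≠ 0 := (map_ne_zero τ).2 ht0
  let e : ℤ := P.ord (τ t)
  have hev : P.1 (τ t) = exp (-e) := FF30.val_eq P hτt
  have he2 : (2 : ℤ) ≤ e := by
    have h2 := hP t (by rw [ht, ← exp_zero, exp_lt_exp]; omega)
    rw [hev, exp_le_exp] at h2; omega
  have hyτ : P.1 (τ y) = exp (e * j₁) := by
    rw [hydef, map_inv₀, map_pow, map_inv₀, map_pow, hev, ← exp_nsmul, ← exp_neg, nsmul_eq_mul]
    congr 1; ring
  let a : Fin (n + 1) → ℤ := Fin.cons (-(e * j₁)) fun l => (I l : ℤ)
  let b : Fin (n + 1) → ℤ := Fin.cons 0 fun l => (I l : ℤ)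
  have hfix : IsFixedPt τ P := fun z hz => (hP z hz).trans_lt (by rw [← exp_zero, exp_lt_exp]; omega)
  have hg : ∀ l : Fin n, P.1 ((y • φ') l.succ) ≤ exp (-(I l : ℤ)) := fun l => by
    show P.1 (y * φ' l.succ) ≤ _
    rw [map_mul, hyv, (hlead l).1, ← exp_add, exp_le_exp]
    have := hmin l
    simp only [I]; omega
  have hM : ∀ r c, P.1 (wrMat τ H (y • φ') I r c) ≤ exp (-(a r - b c)) := by
    intro r c
    cases r using Fin.cases with
    | zero =>
      have hrow : (y • φ') 0 = y := by simp [h0]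
      cases c using Fin.cases with
      | zero =>
        show P.1 (τ ((y • φ') 0)) ≤ exp (-(-(e * j₁) - 0))
        rw [hrow, hyτ, sub_zero, neg_neg]
      | succ s =>
        show P.1 (LocRes.hasseD H (I s) ((y • φ') 0)) ≤ exp (-(-(e * j₁) - (I s : ℤ)))
        rw [hrow]
        refine (h.val_deriv_le (e := -(j₁ : ℤ)) (by rw [hyv, neg_neg]) (I s)).trans (exp_le_exp.2 ?_)
        nlinarith
    | succ l =>
      cases c using Fin.cases with
      | zero =>
        show P.1 (τ ((y • φ') l.succ)) ≤ exp (-((I l : ℤ) - 0))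
        simpa using val_le_pow_of_isFixedPt hK (d := 1) (isFixedPt_bound hfix) ht (hg l)
      | succ s => exact h.val_deriv_le (hg l) _
  obtain ⟨-, hiff⟩ := h.det_bound (wrMat τ H (y • φ') I) a b hM
  have hne : (Matrix.of fun r c => (ψ (wrMat τ H (y • φ') I r c)).coeff (a r - b c)).det ≠ 0 := by
    rw [Matrix.det_succ_row_zero, Finset.sum_eq_single (0 : Fin (n + 1))]
    · have hbin : (Matrix.of fun r c => (ψ (wrMat τ H (y • φ') I r c)).coeff (a r - b c)).submatrix
          Fin.succ (0 : Fin (n + 1)).succAbove = binomMat k I I := by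
        refine Matrix.ext fun r s => ?_
        simp only [Matrix.submatrix_apply, Fin.succAbove_zero]
        show (ψ (LocRes.hasseD H (I s) (y * φ' r.succ))).coeff ((I r : ℤ) - I s) = _
        rw [h.deriv, LaurentSeries.hasseDeriv_coeff, sub_add_cancel, map_mul, hψy,
          HahnSeries.coeff_single_mul, one_mul,
          show (I r : ℤ) - -(j₁ : ℤ) = (J' r : ℤ) by have := hmin r; simp only [I]; omega,
          (hlead r).2, Ring.choose_natCast, binomMat, Matrix.of_apply]
        simp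
      rw [hbin, show binomMat k I I = Matrix.of fun r s => (((I r).choose (I s) : ℕ) : k) from rfl,
        Matrix.det_of_isLowerTriangular]
      · simp only [Fin.val_zero, pow_zero, one_mul, Matrix.of_apply, Nat.choose_self, Nat.cast_one,
          Finset.prod_const_one, mul_one]
        show (ψ (τ (y * φ' 0))).coeff (-(e * j₁) - 0) ≠ 0
        rw [h0, mul_one, sub_zero]
        exact (h.val_eq_iff (by rw [hyτ, neg_neg])).1 (by rw [hyτ, neg_neg])
      · intro i j hij
        have : i < j := hij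
        simp [Nat.choose_eq_zero_of_lt (hImono this)]
    · intro c _ hc
      obtain ⟨s, rfl⟩ := Fin.exists_succ_eq.2 hc
      have : (ψ (wrMat τ H (y • φ') I 0 s.succ)).coeff (a 0 - b s.succ) = 0 := by
        show (ψ (LocRes.hasseD H (I s) (y * φ' 0))).coeff (-(e * j₁) - (I s : ℤ)) = 0
        rw [h0, mul_one]
        refine h.coeff_eq_zero (h.val_deriv_le (e := -(j₁ : ℤ)) (by rw [hyv, neg_neg]) (I s)) ?_
        have : 0 < j₁ := hpos _
        nlinarith
      rw [Matrix.of_apply, this, mul_zero, zero_mul]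
    · simp
  have hdet : (wrMat τ H (y • φ') I).det ≠ 0 := fun h0 => by
    have := hiff.2 hne
    rw [h0, map_zero] at this
    exact exp_ne_zero this.symm
  -- transport to `φ`
  have hA' : ∀ i, (y • φ) i = ∑ j, A i j • (y • φ') j := fun i => by
    show y * φ i = _
    rw [hA, Finset.mul_sum]
    exact Finset.sum_congr rfl fun j _ => by simp
  have hdet' : (wrMat τ H (y • φ) I).det ≠ 0 := by
    rw [wrMat_det_change τ H A hA' I]
    exact mul_ne_zero ((map_ne_zero _).2 (hdetA hφ)) hdet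
  have := orders_le_of_det ((isOrders_congr (fun j => isJump_smul h.hasse τ φ hy (j + 1)) J).2 hJ)
    hImono hdet' l
  have := hmin l
  simp only [I] at *
  omega

end AlgClosed

end Groth.Agent.SV31
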