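import Groth.Agent.SV31.WDiv

/-! Weights at fixed places. -/

namespace Groth.Agent.SV31

open FunFld WithZero
open scoped LaurentSeries

variable {k K : Type*} [Field k] [Field K] [Algebra k K] {n : ℕ} [IsAlgClosed k]

omit [IsAlgClosed k] in
theorem pos_of_isOrders_id {H : K →ₐ[k] PowerSeries K} {s : K} (hH : LocRes.IsHasseFamily s H)
    {φ : Fin (n + 1) → K} {J : Fin n → ℕ} (hJ : IsOrders K (hcol (AlgHom.id k K) H φ) J) (l : Fin n) :
    0 < J l := by
  rcases Nat.eq_zero_or_pos (J l) with h | h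
  · refine absurd ?_ ((hJ.2 0).1 ⟨l, h⟩)
    rw [hcol_one hH]
    exact mem_below_of_lt (c := hcol (AlgHom.id k K) H φ) (i := 0) Nat.zero_lt_one
  · exact h

theorem weight_fixed (hK : IsFunctionField k K) (τ : K →ₐ[k] K) {P : Place k K} (hP : IsFixedPt τ P)
    {φ : Fin (n + 1) → K} (hφ : LinearIndependent k φ)
    (heff : (1 : K) ∈ Submodule.span k (Set.range φ)) (hnorm : ∀ i, P.1 (φ i) ≤ 1) {t : K}
    (ht : P.1 t = exp (-1)) {Ht : K →ₐ[k] PowerSeries K} (hHt : LocRes.IsHasseFamily t Ht)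
    {J : Fin n → ℕ} (hJ : IsOrders K (hcol τ Ht φ) J) {J' : Fin n → ℕ}
    (hJ' : IsOrders (IsLocalRing.ResidueField P.O) (hcolAt P Ht φ) J') :
    (∑ l, ((J' l : ℤ) - J l)) ≤ P.ord (wrMat τ Ht φ J).det ∧
      ((τ = AlgHom.id k K ∨ IsStrongFixedPt τ P) →
        (P.ord (wrMat τ Ht φ J).det = ∑ l, ((J' l : ℤ) - J l) ↔ (binomMat k J' J).det ≠ 0)) := by
  obtain ⟨ψ, h⟩ := exists_localData hK ht hHt
  obtain ⟨h1, h2⟩ := wrMat_order hK h ht τ hP hφ heff hnorm ((isOrders_hcolAt hK h hnorm J').1 hJ') J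
  have hd := det_ne_zero_of_isOrders hφ hJ
  rw [FF30.val_eq P hd, exp_le_exp, neg_le_neg_iff] at h1
  refine ⟨h1, fun hc => ?_⟩
  rw [FF30.val_eq P hd, exp_inj, neg_inj] at h2
  refine h2 ?_
  rcases hc with rfl | hc
  · exact Or.inl (pos_of_isOrders_id hHt hJ)
  · exact Or.inr hc

theorem orders_le_orders_at (hK : IsFunctionField k K) {P : Place k K}
    {φ : Fin (n + 1) → K} (hφ : LinearIndependent k φ)
    (heff : (1 : K) ∈ Submodule.span k (Set.range φ)) (hnorm : ∀ i, P.1 (φ i) ≤ 1) {t : K}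
    (ht : P.1 t = exp (-1)) {Ht : K →ₐ[k] PowerSeries K} (hHt : LocRes.IsHasseFamily t Ht)
    {J : Fin n → ℕ} (hJ : IsOrders K (hcol (AlgHom.id k K) Ht φ) J) {J' : Fin n → ℕ}
    (hJ' : IsOrders (IsLocalRing.ResidueField P.O) (hcolAt P Ht φ) J') (l : Fin n) : J l ≤ J' l := by
  obtain ⟨ψ, h⟩ := exists_localData hK ht hHt
  have hJc := (isOrders_hcolAt hK h hnorm J').1 hJ'
  have hpos : ∀ l, 0 < J' l := fun l =>
    ((isJump_coefCol_iff h hnorm (J' l)).1 ((hJc.2 _).1 ⟨l, rfl⟩)).1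
  obtain ⟨-, h2⟩ := wrMat_order hK h ht (AlgHom.id k K) (fun z hz => hz) hφ heff hnorm hJc J'
  refine orders_le_of_det hJ hJc.1 (fun h0 => ?_) l
  have := (h2 (Or.inl hpos)).2 (by
    rw [show binomMat k J' J' = Matrix.of fun r s => (((J' r).choose (J' s) : ℕ) : k) from rfl,
      Matrix.det_of_isLowerTriangular]
    · simp
    · intro i j hij
      have : i < j := hij
      simp [Nat.choose_eq_zero_of_lt (hJc.1 this)])
  rw [h0, map_zero] at this
  exact exp_ne_zero this.symm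

theorem det_binomMat_self {J : Fin n → ℕ} (hJ : StrictMono J) : (binomMat k J J).det ≠ 0 := by
  rw [show binomMat k J J = Matrix.of fun r s => (((J r).choose (J s) : ℕ) : k) from rfl,
    Matrix.det_of_isLowerTriangular]
  · simp
  · intro i j hij
    have : i < j := hij
    simp [Nat.choose_eq_zero_of_lt (hJ this)]

/-- A fixed place carries positive weight for a nontrivial endomorphism. -/
theorem val_det_lt_one_of_fixed (hK : IsFunctionField k K) {τ : K →ₐ[k] K} {P : Place k K}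
    (hP : IsFixedPt τ P) {φ : Fin (n + 1) → K} (hnorm : ∀ i, P.1 (φ i) ≤ 1) {t : K}
    (ht : P.1 t = exp (-1)) {Ht : K →ₐ[k] PowerSeries K} {ψ : K →ₐ[k] k⸨X⸩}
    (h : IsLocalData P t Ht ψ) {I : Fin n → ℕ} (hn : 0 < n) (hI : I ⟨0, hn⟩ = 0) :
    P.1 (wrMat τ Ht φ I).det < 1 := by
  classical
  set M := wrMat τ Ht φ I
  let c₁ : Fin (n + 1) := (⟨0, hn⟩ : Fin n).succ
  let M' := M.updateCol 0 fun r => M r 0 + (-1 : K) • M r c₁
  have hdet : M.det = M'.det :=
    (Matrix.det_updateCol_add_smul_self M (Fin.succ_ne_zero _).symm (-1)).symm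
  obtain ⟨hle, -⟩ := h.det_bound M' (fun _ => 0) (Fin.cons (-1) fun _ => 0) fun r c => by
    cases c using Fin.cases with
    | zero =>
      simp only [M', Matrix.updateCol_self, Fin.cons_zero, sub_neg_eq_add, zero_add, smul_eq_mul, neg_one_mul,
        ← sub_eq_add_neg]
      show P.1 (τ (φ r) - LocRes.hasseD Ht (I ⟨0, hn⟩) (φ r)) ≤ exp (-1)
      rw [hI, hasseD_zero h.hasse]
      obtain ⟨c, hc⟩ := LLS31.exists_val_sub_lt_one hK P (hnorm r)
      rw [show τ (φ r) - φ r = τ (φ r - algebraMap k K c) - (φ r - algebraMap k K c) by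
        rw [map_sub, τ.commutes]; ring]
      exact (P.1.map_sub _ _).trans (max_le (FF30.val_lt_one_le P (hP _ hc)) (FF30.val_lt_one_le P hc))
    | succ l =>
      simp only [M', Matrix.updateCol_ne (Fin.succ_ne_zero l), Fin.cons_succ, sub_self, neg_zero,
        exp_zero]
      exact h.deriv_integral (hnorm r) (I l)
  rw [hdet]
  refine hle.trans_lt ?_
  simp only [Fin.sum_univ_succ, Fin.cons_zero, Fin.cons_succ, Finset.sum_const_zero]
  rw [← exp_zero, exp_lt_exp]
  omega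

end Groth.Agent.SV31
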