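import Mathlib.RingTheory.MvPolynomial.EulerIdentity
import Mathlib.RingTheory.Kaehler.Basic
import Mathlib.LinearAlgebra.Matrix.Determinant.Basic
import Mathlib.Tactic.LinearCombination
import Mathlib.Tactic.FieldSimp

/-! The differential `dx/f_y` of a plane curve under a change of coordinates. -/

namespace Groth.Agent.SV31.Plane

open MvPolynomial

variable {k : Type*} [Field k] {σ : Type*} [Fintype σ]

theorem derivation_aeval {B M : Type*} [CommRing B] [Algebra k B] [AddCommGroup M] [Module B M]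
    [Module k M] (δ : Derivation k B M) (g : σ → B) (p : MvPolynomial σ k) :
    δ (aeval g p) = ∑ i, aeval g (pderiv i p) • δ (g i) := by
  classical
  induction p using MvPolynomial.induction_on with
  | C a => simp
  | add p q hp hq => simp [map_add, hp, hq, add_smul, Finset.sum_add_distrib]
  | mul_X p j hp =>
    simp only [map_mul, aeval_X, δ.leibniz, hp, Finset.smul_sum, smul_smul, pderiv_mul, pderiv_X, map_add]
    simp only [add_smul, Finset.sum_add_distrib]
    rw [add_comm]
    refine congrArg₂ (· + ·) (Finset.sum_congr rfl fun i _ => by rw [mul_comm]) ?_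
    rw [Finset.sum_eq_single j (fun i _ hi => by simp [Pi.single_eq_of_ne (Ne.symm hi)])
      (fun h => absurd (Finset.mem_univ j) h)]
    simp

theorem aeval_smul_of_isHomogeneous {B : Type*} [CommRing B] [Algebra k B] {p : MvPolynomial σ k}
    {n : ℕ} (hp : p.IsHomogeneous n) (c : B) (v : σ → B) :
    aeval (fun i => c * v i) p = c ^ n * aeval v p := by
  simp only [aeval_def, eval₂_eq', Finset.mul_sum]
  refine Finset.sum_congr rfl fun d hd => ?_
  have hdeg : ∑ i, d i = n := by
    have h := hp (mem_support_iff.1 hd)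
    rw [← h, Finsupp.weight_apply, Finsupp.sum_fintype _ _ (by simp)]
    simp
  rw [← hdeg, ← Finset.prod_pow_eq_pow_sum]
  simp only [mul_pow, Finset.prod_mul_distrib]
  ring

variable {K : Type*} [Field K] [Algebra k K]

theorem det_identity (a : Matrix (Fin 3) (Fin 3) K) (u : Fin 3 → K) (x y : K)
    (h0 : ∑ j, a 0 j * u j = 1) (h1 : ∑ j, a 1 j * u j = x) (h2 : ∑ j, a 2 j * u j = y) :
    (a 1 1 - x * a 0 1) * (a 2 2 - y * a 0 2) - (a 1 2 - x * a 0 2) * (a 2 1 - y * a 0 1) =
      a.det * u 0 := by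
  simp only [Fin.sum_univ_three] at h0 h1 h2
  rw [Matrix.det_fin_three]
  linear_combination (-(a 1 1 * a 2 2 - a 1 2 * a 2 1)) * h0
    + (a 0 1 * a 2 2 - a 0 2 * a 2 1) * h1 - (a 0 1 * a 1 2 - a 0 2 * a 1 1) * h2

variable {f : MvPolynomial (Fin 3) k} {e : ℕ} {x y : K} {A : Matrix (Fin 3) (Fin 3) k} {u : Fin 3 → K}

theorem coord_change (hf : f.IsHomogeneous e) (hfxy : aeval ![(1 : K), x, y] f = 0)
    (hu : ∀ i, ∑ j, algebraMap k K (A i j) * u j = ![(1 : K), x, y] i) (hu0 : u 0 ≠ 0)
    (hfy : aeval ![(1 : K), x, y] (pderiv 2 f) ≠ 0)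
    (hfy' : aeval ![(1 : K), u 1 / u 0, u 2 / u 0]
      (pderiv 2 (aeval (fun i : Fin 3 => ∑ j, C (A i j) * X j) f)) ≠ 0) :
    (aeval ![(1 : K), x, y] (pderiv 2 f))⁻¹ • KaehlerDifferential.D k K x =
      (algebraMap k K A.det * (u 0)⁻¹ ^ ((e : ℤ) - 3) *
        (aeval ![(1 : K), u 1 / u 0, u 2 / u 0]
          (pderiv 2 (aeval (fun i : Fin 3 => ∑ j, C (A i j) * X j) f)))⁻¹) •
        KaehlerDifferential.D k K (u 1 / u 0) := by
  classical
  set f' := aeval (fun i : Fin 3 => ∑ j, C (A i j) * X j) f with hf'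
  obtain ⟨m, rfl⟩ : ∃ m, e = m + 1 := by
    refine Nat.exists_eq_succ_of_ne_zero fun h => hfy ?_
    have : pderiv 2 f = 0 := by
      have hC : f = C (coeff 0 f) := by
        refine MvPolynomial.ext _ _ fun d => ?_
        rw [coeff_C]
        split_ifs with hd
        · rw [hd]
        · by_contra hne
          have h' := hf hne
          rw [h, Finsupp.weight_apply, Finsupp.sum_fintype _ _ (by simp)] at h'
          simp only [Pi.one_apply, smul_eq_mul, mul_one, Finset.sum_eq_zero_iff,
            Finset.mem_univ, forall_true_left] at h'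
          exact hd (Finsupp.ext fun i => (h' i).symm)
      rw [hC, pderiv_C]
    rw [this, map_zero]
  set a : Matrix (Fin 3) (Fin 3) K := A.map (algebraMap k K) with ha
  set v : Fin 3 → K := ![(1 : K), u 1 / u 0, u 2 / u 0] with hv
  set X₀ : Fin 3 → K := ![(1 : K), x, y] with hX
  have huv : ∀ j, u j = u 0 * v j := by
    intro j
    fin_cases j <;> simp [hv, mul_div_cancel₀ _ hu0]
  have hAv : (fun i => ∑ j, a i j * v j) = fun i => (u 0)⁻¹ * X₀ i := funext fun i => by
    rw [← hu i, Finset.mul_sum]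
    exact Finset.sum_congr rfl fun j _ => by rw [huv j]; simp only [ha, Matrix.map_apply]; field_simp
  have hsub : ∀ p : MvPolynomial (Fin 3) k, aeval v (aeval (fun i => ∑ j, C (A i j) * X j) p) =
      aeval (fun i => ∑ j, a i j * v j) p := fun p => by
    rw [← AlgHom.comp_apply, comp_aeval]
    congr 1
    refine congrArg _ (funext fun i => ?_)
    simp [ha]
  set F : Fin 3 → K := fun i => aeval X₀ (pderiv i f) with hF
  set G : Fin 3 → K := fun j => aeval v (pderiv j f') with hG
  have hG' : ∀ j, G j = (u 0)⁻¹ ^ m * ∑ i, a i j * F i := fun j => by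
    simp only [hG, hf', derivation_aeval (pderiv j), map_sum, map_mul, smul_eq_mul, hsub, hAv,
      Finset.mul_sum]
    refine Finset.sum_congr rfl fun i _ => ?_
    have hm : (pderiv i f).IsHomogeneous m := by simpa using hf.pderiv (i := i)
    rw [aeval_smul_of_isHomogeneous hm]
    have : ∑ x : Fin 3, aeval v (pderiv j (C (A i x) * X x : MvPolynomial (Fin 3) k)) = a i j := by
      rw [Finset.sum_eq_single j]
      · simp [ha]
      · intro b _ hb; simp [pderiv_X_of_ne hb]
      · intro h; exact absurd (Finset.mem_univ j) h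
    rw [← Finset.mul_sum, this]
    ring
  -- Euler and differentiation on the curve
  have hE : ∑ i, X₀ i * F i = 0 := by
    have h := congrArg (aeval X₀) hf.sum_X_mul_pderiv
    simp only [map_sum, map_mul, aeval_X, map_nsmul, hfxy, smul_zero] at h
    exact h
  have hdF : ∑ i, F i • KaehlerDifferential.D k K (X₀ i) = 0 := by
    rw [← derivation_aeval, hfxy, map_zero]
  have hf'v : aeval v f' = 0 := by
    rw [hf', hsub, hAv, aeval_smul_of_isHomogeneous hf, hfxy, mul_zero]
  have hdG : ∑ j, G j • KaehlerDifferential.D k K (v j) = 0 := by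
    rw [← derivation_aeval, hf'v, map_zero]
  have hd : ∀ i, KaehlerDifferential.D k K (X₀ i) =
      u 0 • ∑ j, a i j • KaehlerDifferential.D k K (v j) +
        ((u 0)⁻¹ * X₀ i) • KaehlerDifferential.D k K (u 0) := fun i => by
    rw [← congrFun hAv i, ← hu i, Finset.smul_sum, Finset.sum_smul, ← Finset.sum_add_distrib, map_sum]
    refine Finset.sum_congr rfl fun j _ => ?_
    rw [huv j, Derivation.leibniz, Derivation.map_algebraMap, smul_zero, add_zero, Derivation.leibniz]
    simp only [ha, Matrix.map_apply, smul_add, smul_smul]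
    rw [mul_comm (algebraMap k K (A i j)) (u 0), mul_comm (algebraMap k K (A i j)) (v j)]
  have hd0 : ((u 0)⁻¹) • KaehlerDifferential.D k K (u 0) =
      -(u 0 • ∑ j, a 0 j • KaehlerDifferential.D k K (v j)) := by
    have h := hd 0
    simp only [hX, Matrix.cons_val_zero, Derivation.map_one_eq_zero, mul_one] at h
    exact eq_neg_of_add_eq_zero_right h.symm
  have hdv0 : KaehlerDifferential.D k K (v 0) = 0 := by simp [hv]
  have hdx : KaehlerDifferential.D k K x =
      (u 0 * (a 1 1 - x * a 0 1)) • KaehlerDifferential.D k K (v 1) +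
      (u 0 * (a 1 2 - x * a 0 2)) • KaehlerDifferential.D k K (v 2) := by
    have h := hd 1
    rw [show X₀ 1 = x by simp [hX], mul_comm _ x, mul_smul x, hd0] at h
    rw [h]
    simp only [Fin.sum_univ_three, hdv0, smul_zero, zero_add, smul_neg, smul_add, smul_smul, mul_sub,
      sub_smul]
    rw [show x * (u 0 * a 0 1) = u 0 * (x * a 0 1) by ring,
      show x * (u 0 * a 0 2) = u 0 * (x * a 0 2) by ring]
    abel
  have hG2 : G 2 ≠ 0 := hfy'
  have hdv2 : KaehlerDifferential.D k K (v 2) = (-(G 1 / G 2)) • KaehlerDifferential.D k K (v 1) := by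
    rw [Fin.sum_univ_three, hdv0, smul_zero, zero_add, add_eq_zero_iff_neg_eq, ← neg_smul] at hdG
    have h := congrArg (fun w => (G 2)⁻¹ • w) hdG
    simp only [smul_smul, inv_mul_cancel₀ hG2, one_smul] at h
    rw [← h]; congr 1; ring
  rw [hdx, hdv2, smul_smul, ← add_smul, smul_smul]
  have hv1 : u 1 / u 0 = v 1 := by simp [hv]
  rw [hv1, show aeval X₀ (pderiv 2 f) = F 2 from rfl, show aeval v (pderiv 2 f') = G 2 from rfl]
  congr 1
  have hdet := det_identity a u x y (hu 0) (hu 1) (hu 2)
  rw [show algebraMap k K A.det = a.det from RingHom.map_det _ _]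
  have hF0 : F 0 = -(x * F 1) - y * F 2 := by
    simp only [Fin.sum_univ_three, hX, Matrix.cons_val_zero, Matrix.cons_val_one,
      Matrix.cons_val_two, one_mul, Matrix.vecHead, Matrix.vecTail] at hE
    simp only [Matrix.cons_val, Matrix.cons_val_succ, Matrix.cons_val_zero, Function.comp_apply] at hE
    linear_combination hE
  have hpow : (u 0)⁻¹ ^ (((m + 1 : ℕ) : ℤ) - 3) = (u 0)⁻¹ ^ m * u 0 ^ 2 := by
    rw [show ((m + 1 : ℕ) : ℤ) - 3 = (m : ℤ) - 2 by push_cast; ring,
      zpow_sub₀ (inv_ne_zero hu0), zpow_natCast, zpow_ofNat, inv_pow, inv_pow, div_inv_eq_mul]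
  rw [hpow]
  have hF2 : F 2 ≠ 0 := hfy
  have key : (a 1 1 - x * a 0 1) * G 2 - (a 1 2 - x * a 0 2) * G 1 =
      a.det * u 0 * ((u 0)⁻¹ ^ m * F 2) := by
    rw [← hdet, hG', hG', Fin.sum_univ_three, Fin.sum_univ_three, hF0]
    ring
  field_simp
  linear_combination key

end Groth.Agent.SV31.Plane
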