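import Groth.Agent.SV31.Adjoint
import Groth.Agent.FF30.Homog
import Mathlib.LinearAlgebra.Matrix.Determinant.Basic

/-! The adjoint divisor of a plane model at an arbitrary place. -/

namespace Groth.Agent.SV31

open FunFld WithZero MvPolynomial
open FF30 (IsMin chart locRing)
open scoped LaurentSeries

universe u v

variable {k : Type u} {K : Type v} [Field k] [Field K] [Algebra k K] [IsAlgClosed k]

/-- At a smooth finite point with local parameter `z i - c i`, the other partial derivative is nonzero. -/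
theorem eval_pderiv_ne_zero (hK : IsFunctionField k K) {z : Fin 2 → K}
    (hz : IntermediateField.adjoin k ({z 0, z 1} : Set K) = ⊤) {f : MvPolynomial (Fin 2) k}
    (hf : Irreducible f) (hfz : aeval z f = 0) {Q : Place k K} {c : Fin 2 → k}
    (hc : ∀ l, Q.1 (z l - algebraMap k K (c l)) < 1) {i j : Fin 2} (hij : i ≠ j)
    (hi : Q.1 (z i - algebraMap k K (c i)) = exp (-1))
    (hL : ∀ ζ : K, Q.1 ζ ≤ 1 → ∃ gU gW : MvPolynomial (Fin 2) k,
      Q.1 (aeval z gW) = 1 ∧ ζ * aeval z gW = aeval z gU) :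
    eval c (pderiv j f) ≠ 0 := by
  have hzeta : Q.1 ((z j - algebraMap k K (c j)) / (z i - algebraMap k K (c i))) ≤ 1 := by
    rw [map_div₀, hi, div_le_one₀ (zero_lt_iff.2 exp_ne_zero)]
    rcases eq_or_ne (z j - algebraMap k K (c j)) 0 with h | h
    · rw [h, map_zero]; exact zero_le
    · have := hc j
      rw [FF30.val_eq Q h, ← exp_zero, exp_lt_exp] at this
      rw [FF30.val_eq Q h, exp_le_exp]
      omega
  obtain ⟨gU, gW, hW, hrel⟩ := hL _ hzeta
  have hi0 : z i - algebraMap k K (c i) ≠ 0 := fun h => by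
    rw [h, map_zero] at hi; exact exp_ne_zero hi.symm
  set P := (X j - C (c j)) * gW - (X i - C (c i)) * gU
  have hz2 : ![z 0, z 1] = z := by funext l; fin_cases l <;> rfl
  have hP : aeval z P = 0 := by
    simp only [P, map_sub, map_mul, aeval_X, aeval_C]
    rw [← hrel]
    field_simp
    ring
  have hPmem : P ∈ Ideal.span {f} := by
    rw [← FF30.ker_eq_span_of_irreducible hK hz hf (by rw [hz2]; exact hfz), RingHom.mem_ker, hz2]
    exact hP
  obtain ⟨h, hh⟩ := Ideal.mem_span_singleton'.1 hPmem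
  have hfc : eval c f = 0 := FF30.eval_eq_zero_of_aeval Q hc hfz
  have hd := congrArg (fun p => eval c (pderiv j p)) hh
  simp [P, pderiv_mul, pderiv_X_of_ne hij, hfc] at hd
  intro h0
  rw [h0, mul_zero] at hd
  have := FF30.val_aeval_sub_lt Q z c hc gW
  rw [← hd, map_zero, sub_zero, hW] at this
  exact lt_irrefl _ this

theorem adjoint_finite_eq_zero (hK : IsFunctionField k K) {x y : K}
    (hxy : IntermediateField.adjoin k ({x, y} : Set K) = ⊤) {f : MvPolynomial (Fin 2) k}
    (hf : Irreducible f) (hfxy : aeval ![x, y] f = 0)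
    (hfy : aeval ![x, y] (pderiv 1 f) ≠ 0) (hdx : KaehlerDifferential.D k K x ≠ 0) {Q : Place k K}
    (hQx : Q.1 x ≤ 1) (hQy : Q.1 y ≤ 1) {ΦQ : K →ₐ[k] k⸨X⸩} (hΦQ : LocRes.IsExpansionAt Q.1 ΦQ)
    (hns : IsNonsingularAt ![(1 : K), x, y] Q) :
    LocRes.ordDiff ΦQ (aeval ![x, y] (pderiv 1 f))⁻¹ x = 0 := by
  classical
  have hF : FF30.FF k K := hK.1
  obtain ⟨a, ha⟩ := hF.exists_sub_lt Q hQx
  obtain ⟨b, hb⟩ := hF.exists_sub_lt Q hQy
  set z := ![x, y] with hz
  set c := ![a, b]
  have hc : ∀ l, Q.1 (z l - algebraMap k K (c l)) < 1 := fun l => by fin_cases l <;> simpa [z, c]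
  have hmin : IsMin ![(1 : K), x, y] Q 0 := ⟨by simp, fun i => by fin_cases i <;> simp [hQx, hQy]⟩
  have hL : ∀ ζ : K, Q.1 ζ ≤ 1 → ∃ gU gW : MvPolynomial (Fin 2) k,
      Q.1 (aeval z gW) = 1 ∧ ζ * aeval z gW = aeval z gU := fun ζ hζ => by
    obtain ⟨u, hu, w, hw, hw1, huw⟩ := (FF30.isNonsingularAt_iff_locRing hmin).1 hns ζ hζ
    have hrange : ∀ u ∈ chart k ![(1 : K), x, y] 0, ∃ g, aeval z g = u := fun u hu => by
      obtain ⟨g, rfl⟩ := FF30.chart_eq_range _ _ hu
      refine ⟨aeval (![1, X 0, X 1] : Fin 3 → MvPolynomial (Fin 2) k) g, ?_⟩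
      rw [← AlgHom.comp_apply, comp_aeval]
      congr 1
      refine congrArg _ (funext fun i => ?_)
      fin_cases i <;> simp [z]
    obtain ⟨gU, rfl⟩ := hrange u hu
    obtain ⟨gW, rfl⟩ := hrange w hw
    exact ⟨gU, gW, hw1, huw⟩
  obtain ⟨τ, hτ0, hτ⟩ := FF30.exists_val_eq Q (-1)
  obtain ⟨gU, gW, hW, hrel⟩ := hL τ (by rw [hτ, ← exp_zero, exp_le_exp]; omega)
  have hU : Q.1 (aeval z gU) = exp (-1) := by rw [← hrel, map_mul, hW, mul_one, hτ]
  obtain ⟨h, hh, hexp⟩ := FF30.exists_linear_expansion Q (chart k ![(1 : K), x, y] 0) z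
    (fun l => by
      fin_cases l
      · simpa [z] using FF30.ratio_mem_chart (k := k) ![(1 : K), x, y] 1 0
      · simpa [z] using FF30.ratio_mem_chart (k := k) ![(1 : K), x, y] 2 0) c hc gU
  have hc0 : eval c gU = 0 := by
    by_contra hne
    have h1 := FF30.val_aeval_sub_lt Q z c hc gU
    rw [← Valuation.map_neg Q.1, neg_sub, Q.1.map_sub_eq_of_lt_left, FF30.val_algebraMap Q hne] at h1
    · exact lt_irrefl _ h1
    · rw [hU, FF30.val_algebraMap Q hne, ← exp_zero, exp_lt_exp]; omega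
  rw [hc0, map_zero, sub_zero] at hexp
  obtain ⟨i, hi⟩ : ∃ i, Q.1 (z i - algebraMap k K (c i)) = exp (-1) := by
    by_contra hcon
    push Not at hcon
    have : Q.1 (aeval z gU) < exp (-1) := by
      rw [hexp]
      refine Q.1.map_sum_lt exp_ne_zero fun l _ => ?_
      rw [map_mul]
      refine (mul_le_of_le_one_left' (hmin.chart_le (hh l).1)).trans_lt ?_
      refine lt_of_le_of_ne ?_ (hcon l)
      rcases eq_or_ne (z l - algebraMap k K (c l)) 0 with h0 | h0
      · rw [h0, map_zero]; exact zero_le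
      · have := hc l
        rw [FF30.val_eq Q h0, ← exp_zero, exp_lt_exp] at this
        rw [FF30.val_eq Q h0, exp_le_exp]
        omega
    exact absurd hU this.ne
  obtain ⟨t, H, hsep, hH⟩ := exists_base hK
  have hD : Valued.v (LocRes.D k (ΦQ (z i))) = 1 := by
    have h := Exp31.val_D_eq (e := 1) ((hΦQ.1 _).trans hi) (by simp)
    rw [map_sub, map_sub, LocRes.map_algebraMap, Exp31.D_C, sub_zero] at h
    simpa using h
  have key : ∀ m : Fin 2, m ≠ i → Q.1 (aeval z (pderiv m f)) = 1 := fun m hm => by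
    have hne := eval_pderiv_ne_zero hK (z := z) (by simpa [z] using hxy) hf hfxy hc hm.symm hi hL
    rw [show aeval z (pderiv m f) = (aeval z (pderiv m f) - algebraMap k K (eval c (pderiv m f))) +
      algebraMap k K (eval c (pderiv m f)) by ring, Q.1.map_add_eq_of_lt_right,
      FF30.val_algebraMap Q hne]
    rw [FF30.val_algebraMap Q hne]
    exact FF30.val_aeval_sub_lt Q z c hc _
  have hzero : ∀ m : Fin 2, m ≠ i → LocRes.ordDiff ΦQ (aeval z (pderiv m f))⁻¹ (z i) = 0 := fun m hm => by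
    rw [LocRes.ordDiff, LocRes.vDiff, map_mul, hD, mul_one, hΦQ.1, map_inv₀, key m hm, inv_one,
      log_one, neg_zero]
  fin_cases i
  · simpa [z] using hzero 1 (by decide)
  · have hfx : aeval z (pderiv 0 f) ≠ 0 := fun h0 => by simpa [h0] using key 0 (by decide)
    have hrel' := kaehler_rel hfxy (FF30.hasseDer hH)
    simp only [FF30.hasseDer_apply] at hrel'
    have hHx : LocRes.hasseD H 1 x ≠ 0 := hasseD_ne_zero_of_kaehler hH hdx
    have hHy : LocRes.hasseD H 1 y ≠ 0 := fun h0 => by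
      rw [h0, mul_zero, add_zero] at hrel'
      exact mul_ne_zero hfx hHx hrel'
    have h0 := hzero 0 (by decide)
    change LocRes.ordDiff ΦQ (aeval z (pderiv 0 f))⁻¹ y = 0 at h0
    rw [ordDiff_eq_ord hΦQ hH (inv_ne_zero hfy) hHx]
    rw [ordDiff_eq_ord hΦQ hH (inv_ne_zero hfx) hHy] at h0
    have heq : (aeval ![x, y] (pderiv 1 f))⁻¹ * LocRes.hasseD H 1 x =
        -((aeval z (pderiv 0 f))⁻¹ * LocRes.hasseD H 1 y) := by
      simp only [z] at hfx hfy ⊢
      field_simp
      linear_combination hrel'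
    rw [heq, Place.ord, Valuation.map_neg]
    exact h0

omit [IsAlgClosed k] in
theorem totalDegree_rename_inj {σ τ : Type*} {e : σ → τ} (he : Function.Injective e)
    (p : MvPolynomial σ k) : (rename e p).totalDegree = p.totalDegree := by
  classical
  rw [totalDegree, totalDegree, support_rename_of_injective he, Finset.sup_image]
  exact Finset.sup_congr rfl fun m _ => Finsupp.sum_mapDomain_index (h := fun _ e => e) (fun _ => rfl) (fun _ _ _ => rfl)

theorem totalDegree_aeval_le {σ τ : Type*} [Fintype σ] {F : MvPolynomial σ k} {d : ℕ}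
    (hF : F.IsHomogeneous d) (g : σ → MvPolynomial τ k) (hg : ∀ i, (g i).totalDegree ≤ 1) :
    (aeval g F).totalDegree ≤ d := by
  conv_lhs => rw [F.as_sum, map_sum]
  refine totalDegree_finsetSum_le fun m hm => ?_
  rw [aeval_monomial, Finsupp.prod_fintype _ _ (fun _ => pow_zero _)]
  refine (totalDegree_mul _ _).trans ?_
  rw [MvPolynomial.algebraMap_eq, totalDegree_C, zero_add]
  refine (totalDegree_finset_prod _ _).trans ?_
  have hd : ∑ i, m i = d := by
    have h := hF (mem_support_iff.1 hm)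
    rw [← h, Finsupp.weight_apply, Finsupp.sum_fintype _ _ (by simp)]
    simp
  exact (Finset.sum_le_sum fun i _ => (totalDegree_pow _ _).trans
    ((Nat.mul_le_mul_left _ (hg i)).trans (mul_one _).le)).trans hd.le

omit [IsAlgClosed k] in
theorem aeval_homogenize {v : Fin 3 → K} (hv : v 0 = 1) (f : MvPolynomial (Fin 2) k) :
    aeval v (FF30.homogenize 0 (rename Fin.succ f)) = aeval (fun i => v i.succ) f := by
  obtain ⟨r, hr⟩ := Ideal.mem_span_singleton'.1 (FF30.homogenize_sub_mem (k := k) 0 (rename Fin.succ f))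
  rw [← sub_add_cancel (FF30.homogenize 0 (rename Fin.succ f)) (rename Fin.succ f), ← hr, map_add,
    map_mul, map_sub, aeval_X, hv, map_one, sub_self, mul_zero, zero_add, aeval_rename]
  rfl

omit [IsAlgClosed k] in
theorem aeval_pderiv_dehom (a b : K) (G : MvPolynomial (Fin 3) k) (i : Fin 2) :
    aeval ![a, b] (pderiv i (aeval (![1, X 0, X 1] : Fin 3 → MvPolynomial (Fin 2) k) G)) = aeval ![(1 : K), a, b] (pderiv i.succ G) := by
  have h : ∀ p : MvPolynomial (Fin 3) k, aeval ![a, b] (aeval (![1, X 0, X 1] : Fin 3 → MvPolynomial (Fin 2) k) p) =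
      aeval ![(1 : K), a, b] p := fun p => by
    rw [← AlgHom.comp_apply, comp_aeval]
    congr 1
    refine congrArg _ (funext fun i => ?_)
    fin_cases i <;> simp
  rw [Plane.derivation_aeval (pderiv i), map_sum, Fin.sum_univ_three]
  simp only [smul_eq_mul, map_mul, h]
  fin_cases i <;> simp

/-- Change of chart by a permutation of the homogeneous coordinates. -/
theorem adjoint_chart (hK : IsFunctionField k K) {x y : K}
    (hxy : IntermediateField.adjoin k ({x, y} : Set K) = ⊤) {f : MvPolynomial (Fin 2) k}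
    (hf : Irreducible f) (hfxy : aeval ![x, y] f = 0)
    (hfy : aeval ![x, y] (pderiv 1 f) ≠ 0) (hdx : KaehlerDifferential.D k K x ≠ 0) {Q : Place k K}
    {ΦQ : K →ₐ[k] k⸨X⸩} (hΦQ : LocRes.IsExpansionAt Q.1 ΦQ) (σ : Equiv.Perm (Fin 3))
    (hmin : IsMin ![(1 : K), x, y] Q (σ 0))
    (hσ2 : aeval ![(1 : K), x, y] (pderiv (σ 2) (FF30.homogenize 0 (rename Fin.succ f))) ≠ 0) :
    LocRes.ordDiff ΦQ (aeval ![x, y] (pderiv 1 f))⁻¹ x -
        ((mapDiv k ![(1 : K), x, y]).deg - 3) * mapDiv k ![(1 : K), x, y] Q ≤ 0 ∧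
      (LocRes.ordDiff ΦQ (aeval ![x, y] (pderiv 1 f))⁻¹ x -
        ((mapDiv k ![(1 : K), x, y]).deg - 3) * mapDiv k ![(1 : K), x, y] Q = 0 ↔
        IsNonsingularAt ![(1 : K), x, y] Q) := by
  classical
  have hF : FF30.FF k K := hK.1
  set φ := ![(1 : K), x, y] with hφ
  set d := f.totalDegree with hd
  set F := FF30.homogenize 0 (rename Fin.succ f) with hFdef
  have hFhom : F.IsHomogeneous d := by
    have := FF30.homogenize_isHomogeneous (k := k) (0 : Fin 3) (rename Fin.succ f)
    rwa [totalDegree_rename_inj (Fin.succ_injective 2)] at this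
  have hFφ : aeval φ F = 0 := by
    rw [hFdef, aeval_homogenize (by simp [φ])]
    rw [show (fun i : Fin 2 => φ i.succ) = ![x, y] from by funext i; fin_cases i <;> simp [φ]]
    exact hfxy
  have hdehom : aeval (![1, X 0, X 1] : Fin 3 → MvPolynomial (Fin 2) k) F = f := by
    obtain ⟨r, hr⟩ := Ideal.mem_span_singleton'.1
      (FF30.homogenize_sub_mem (k := k) 0 (rename Fin.succ f))
    rw [hFdef, ← sub_add_cancel (FF30.homogenize 0 (rename Fin.succ f)) (rename Fin.succ f), ← hr,
      map_add, map_mul, map_sub, aeval_X, map_one]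
    simp only [Matrix.cons_val_zero, sub_self, mul_zero, zero_add, aeval_rename]
    rw [show ![1, X 0, X 1] ∘ Fin.succ = (X : Fin 2 → MvPolynomial (Fin 2) k) from by
      funext i; fin_cases i <;> simp, aeval_X_left_apply]
  have hF2 : aeval φ (pderiv 2 F) = aeval ![x, y] (pderiv 1 f) := by
    have := aeval_pderiv_dehom x y F 1
    rw [hdehom] at this
    exact this.symm
  set u : Fin 3 → K := fun i => φ (σ i) with hu_def
  set A : Matrix (Fin 3) (Fin 3) k := (1 : Matrix (Fin 3) (Fin 3) k).submatrix σ.symm id with hA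
  have hu : ∀ i, ∑ j, algebraMap k K (A i j) * u j = φ i := fun i => by
    simp [A, u, Matrix.one_apply]
  have hu0 : u 0 ≠ 0 := hmin.1
  set x' := u 1 / u 0
  set y' := u 2 / u 0
  set v := ![(1 : K), x', y'] with hv
  have hvi : ∀ i, v i = φ (σ i) / φ (σ 0) := fun i => by
    fin_cases i <;> simp [v, x', y', u, div_self hmin.1]
  have hsubst : aeval (fun i : Fin 3 => ∑ j, C (A i j) * X j) F = rename σ.symm F := by
    rw [rename_eq_aeval]
    refine congrArg (fun w => aeval w F) (funext fun i => ?_)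
    simp [A, Matrix.one_apply]
  set F' := rename σ.symm F with hF'def
  have hscale : ∀ {G : MvPolynomial (Fin 3) k} {n : ℕ}, G.IsHomogeneous n →
      aeval (fun i => φ i / φ (σ 0)) G = (φ (σ 0))⁻¹ ^ n * aeval φ G := fun {G n} hG => by
    rw [← Plane.aeval_smul_of_isHomogeneous hG]
    exact congrArg (fun w => aeval w G) (funext fun i => by ring)
  have hvσ : (fun i => v (σ.symm i)) = fun i => φ i / φ (σ 0) := funext fun i => by
    rw [hvi, σ.apply_symm_apply]
  have hfy' : aeval v (pderiv 2 F') ≠ 0 := by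
    have : pderiv 2 F' = rename σ.symm (pderiv (σ 2) F) := by
      conv_lhs => rw [show (2 : Fin 3) = σ.symm (σ 2) from (σ.symm_apply_apply 2).symm]
      rw [hF'def, pderiv_rename σ.symm.injective]
    rw [this, aeval_rename, show v ∘ σ.symm = fun i => v (σ.symm i) from rfl, hvσ,
      hscale hFhom.pderiv]
    exact mul_ne_zero (pow_ne_zero _ (inv_ne_zero hmin.1)) hσ2
  have hrel := Plane.coord_change hFhom hFφ hu hu0 (by rw [hF2]; exact hfy)
    (by rw [hsubst]; exact hfy')
  rw [hsubst, hF2] at hrel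
  have hdx' : KaehlerDifferential.D k K x' ≠ 0 := fun h => by
    change _ = (_ : K) • KaehlerDifferential.D k K x' at hrel
    rw [h, smul_zero, smul_eq_zero] at hrel
    exact hrel.elim (inv_ne_zero hfy) hdx
  -- the new model
  set g : MvPolynomial (Fin 2) k := aeval ![1, X 0, X 1] F' with hg
  have hgy : aeval ![x', y'] (pderiv 1 g) = aeval v (pderiv 2 F') := aeval_pderiv_dehom x' y' F' 1
  have hgxy : aeval ![x', y'] g = 0 := by
    rw [hg, ← AlgHom.comp_apply, comp_aeval]
    rw [show (fun i => aeval ![x', y'] (![1, X 0, X 1] i : MvPolynomial (Fin 2) k)) = v from by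
      funext i; fin_cases i <;> simp [v]]
    rw [hF'def, aeval_rename, show v ∘ σ.symm = fun i => v (σ.symm i) from rfl, hvσ, hscale hFhom,
      hFφ, mul_zero]
  have hxy' : IntermediateField.adjoin k ({x', y'} : Set K) = ⊤ := by
    set M := IntermediateField.adjoin k ({x', y'} : Set K)
    have hM : ∀ i, φ i / φ (σ 0) ∈ M := fun i => by
      rw [← congrFun hvσ i]
      generalize σ.symm i = l
      fin_cases l
      · simp [v]
      · simpa [v, M] using IntermediateField.subset_adjoin k {x', y'} (Or.inl rfl)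
      · simpa [v, M] using IntermediateField.subset_adjoin k {x', y'} (Or.inr rfl)
    have hφM : ∀ i, φ i ∈ M := fun i => by
      have h := div_mem (hM i) (hM 0)
      rwa [div_div_div_cancel_right₀ hmin.1, show φ 0 = 1 from rfl, div_one] at h
    rw [eq_top_iff, ← hxy, IntermediateField.adjoin_le_iff]
    rintro _ (rfl | rfl)
    · exact hφM 1
    · exact hφM 2
  have hQ' : Q.1 x' ≤ 1 ∧ Q.1 y' ≤ 1 :=
    ⟨FF30.val_ratio_le_one hmin (σ 1), FF30.val_ratio_le_one hmin (σ 2)⟩
  have hDQ : Q.ord (u 0) = -mapDiv k φ Q :=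
    FF30.ord_eq_of_val_eq Q (hF.val_eq_planeDiv hmin)
  have hdeg : (mapDiv k φ).deg = d := FF30.deg_planeDiv hK hxy hf hfxy
  have hdeg' : (mapDiv k v).deg = d := by
    have : mapDiv k v = mapDiv k φ + FunFld.div k (u 0) := Finsupp.ext fun P => by
      rw [Finsupp.add_apply, (FF30.FF.of_isFunctionField hK).div_apply]
      obtain ⟨l, hl⟩ := hF.exists_mapDiv_eq v P
      obtain ⟨l', hl'⟩ := hF.exists_mapDiv_eq φ P
      have hord : ∀ i, φ i ≠ 0 → P.ord (φ i / φ (σ 0)) = P.ord (φ i) - P.ord (φ (σ 0)) :=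
        fun i hi => by rw [div_eq_mul_inv, FF30.ord_mul P hi (inv_ne_zero hmin.1), FF30.ord_inv]; ring
      have h1 : ∀ i, -P.ord (φ (σ i) / φ (σ 0)) ≤ mapDiv k v P := fun i =>
        hvi i ▸ hF.neg_ord_le_mapDiv v P i
      have h2 : ∀ i, -P.ord (φ i) ≤ mapDiv k φ P := hF.neg_ord_le_mapDiv φ P
      have e1 := hF.neg_ord_le_mapDiv v P 0
      have e2 := h2 (σ 0)
      have e3 : -P.ord ((1 : K) / φ (σ 0)) ≤ mapDiv k v P := by
        have := h1 (σ.symm 0); rwa [σ.apply_symm_apply] at this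
      rw [show P.ord ((1 : K) / φ (σ 0)) = - P.ord (φ (σ 0)) by
        rw [one_div, FF30.ord_inv]] at e3
      rw [show v 0 = 1 from rfl, FF30.ord_one] at e1
      change _ = _ + P.ord (φ (σ 0))
      refine le_antisymm ?_ ?_
      · rw [hl, hvi]
        rcases eq_or_ne (φ (σ l)) 0 with h0 | h0
        · rw [h0, zero_div, FF30.ord_zero]; omega
        · rw [hord _ h0]; have := h2 (σ l); omega
      · rw [hl']
        rcases eq_or_ne (φ l') 0 with h0 | h0
        · rw [h0, FF30.ord_zero]; omega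
        · have := h1 (σ.symm l')
          rw [σ.apply_symm_apply, hord _ h0] at this
          omega
    rw [this, FF30.deg_add, (FF30.FF.of_isFunctionField hK).deg_div, hdeg, add_zero]
  have hgi : Irreducible g := by
    obtain ⟨f₁, hf₁, hf₁xy⟩ := FF30.exists_irreducible_relation hK x' y'
    have hd₁ : f₁.totalDegree = d := by
      have := FF30.deg_planeDiv hK hxy' hf₁ hf₁xy
      rw [hdeg'] at this
      exact_mod_cast this.symm
    have hmem : g ∈ RingHom.ker (aeval (R := k) ![x', y']) := hgxy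
    rw [FF30.ker_eq_span_of_irreducible hK hxy' hf₁ hf₁xy, Ideal.mem_span_singleton] at hmem
    obtain ⟨r, hr⟩ := hmem
    have hg0 : g ≠ 0 := fun h => hfy' (by rw [← hgy, h, map_zero, map_zero])
    have hr0 : r ≠ 0 := fun h => hg0 (by rw [hr, h, mul_zero])
    have hle : g.totalDegree ≤ d := totalDegree_aeval_le (hFhom.rename_isHomogeneous) _ fun i => by
      fin_cases i <;> simp
    rw [hr, totalDegree_mul_of_isDomain hf₁.ne_zero hr0, hd₁] at hle
    have hrd : r.totalDegree = 0 := by omega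
    rw [totalDegree_eq_zero_iff_eq_C] at hrd
    refine (Associated.irreducible ⟨?_, ?_⟩ hf₁)
    · exact ((Ne.isUnit (fun h => hr0 (by rw [hrd, h, map_zero]) : coeff 0 r ≠ 0)).map
        (C (σ := Fin 2))).unit
    · rw [IsUnit.unit_spec, ← hrd, hr]
  have hord : LocRes.ordDiff ΦQ (aeval ![x, y] (pderiv 1 f))⁻¹ x -
      ((mapDiv k φ).deg - 3) * mapDiv k φ Q =
      LocRes.ordDiff ΦQ (aeval ![x', y'] (pderiv 1 g))⁻¹ x' := by
    obtain ⟨t, H, hsep, hH⟩ := exists_base hK
    have hHx := hasseD_ne_zero_of_kaehler hH hdx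
    have hHx' := hasseD_ne_zero_of_kaehler hH hdx'
    rw [ordDiff_eq_ord hΦQ hH (inv_ne_zero hfy) hHx,
      ordDiff_eq_ord hΦQ hH (inv_ne_zero (hgy ▸ hfy')) hHx', kaehler_smul_eq hH hrel, hgy]
    have hdet : algebraMap k K A.det ≠ 0 := by
      rw [_root_.map_ne_zero, hA, Matrix.det_permute, Matrix.det_one, mul_one]
      rcases Int.units_eq_one_or (Equiv.Perm.sign σ.symm) with h | h <;> simp [h]
    have hz : (u 0)⁻¹ ^ ((d : ℤ) - 3) ≠ 0 := zpow_ne_zero _ (inv_ne_zero hu0)
    rw [mul_assoc, mul_assoc, FF30.ord_mul Q hdet (mul_ne_zero hz (mul_ne_zero (inv_ne_zero hfy') hHx')),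
      FF30.ord_algebraMap, FF30.ord_mul Q hz (mul_ne_zero (inv_ne_zero hfy') hHx'), FF30.ord_zpow,
      FF30.ord_inv, hDQ, hdeg]
    ring
  rw [hord]
  have hgy0 : aeval ![x', y'] (pderiv 1 g) ≠ 0 := hgy ▸ hfy'
  obtain ⟨hle, hns⟩ := adjoint_finite_le hK hxy' hgi hgxy hgy0 hdx' hQ'.1 hQ'.2 hΦQ
  have hminv : IsMin v Q 0 := ⟨by simp [v], fun i => by fin_cases i <;> simp [v, hQ'.1, hQ'.2]⟩
  have hcongr : IsNonsingularAt φ Q ↔ IsNonsingularAt v Q := by
    refine isNonsingularAt_congr hmin hminv ?_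
    rw [show (fun i => v i / v 0) = (fun i => φ i / φ (σ 0)) ∘ σ from funext fun i => by
      rw [show v 0 = 1 from rfl, div_one, hvi]; rfl, σ.surjective.range_comp]
  rw [hcongr]
  exact ⟨hle, hns, adjoint_finite_eq_zero hK hxy' hgi hgxy hgy0 hdx' hQ'.1 hQ'.2 hΦQ⟩

theorem adjoint_general (hK : IsFunctionField k K) {x y : K}
    (hxy : IntermediateField.adjoin k ({x, y} : Set K) = ⊤) {f : MvPolynomial (Fin 2) k}
    (hf : Irreducible f) (hfxy : aeval ![x, y] f = 0) {Q : Place k K}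
    {ΦQ : K →ₐ[k] k⸨X⸩} (hΦQ : LocRes.IsExpansionAt Q.1 ΦQ)
    (hfy : aeval ![x, y] (pderiv 1 f) ≠ 0) (hdx : KaehlerDifferential.D k K x ≠ 0) :
    LocRes.ordDiff ΦQ (aeval ![x, y] (pderiv 1 f))⁻¹ x -
        ((mapDiv k ![(1 : K), x, y]).deg - 3) * mapDiv k ![(1 : K), x, y] Q ≤ 0 ∧
      (LocRes.ordDiff ΦQ (aeval ![x, y] (pderiv 1 f))⁻¹ x -
        ((mapDiv k ![(1 : K), x, y]).deg - 3) * mapDiv k ![(1 : K), x, y] Q = 0 ↔
        IsNonsingularAt ![(1 : K), x, y] Q) := by
  classical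
  set φ := ![(1 : K), x, y]
  set F : MvPolynomial (Fin 3) k := FF30.homogenize 0 (rename Fin.succ f) with hFdef
  obtain ⟨j, hj⟩ := FF30.exists_isMin φ ⟨0, by simp [φ]⟩ Q
  have hFhom : F.IsHomogeneous f.totalDegree := by
    have := FF30.homogenize_isHomogeneous (k := k) (0 : Fin 3) (rename Fin.succ f)
    rwa [totalDegree_rename_inj (Fin.succ_injective 2)] at this
  have hdehom : aeval (![1, X 0, X 1] : Fin 3 → MvPolynomial (Fin 2) k) F = f := by
    obtain ⟨r, hr⟩ := Ideal.mem_span_singleton'.1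
      (FF30.homogenize_sub_mem (k := k) 0 (rename Fin.succ f))
    rw [hFdef, ← sub_add_cancel (FF30.homogenize 0 (rename Fin.succ f)) (rename Fin.succ f), ← hr,
      map_add, map_mul, map_sub, aeval_X, map_one]
    simp only [Matrix.cons_val_zero, sub_self, mul_zero, zero_add, aeval_rename]
    rw [show ![1, X 0, X 1] ∘ Fin.succ = (X : Fin 2 → MvPolynomial (Fin 2) k) from by
      funext i; fin_cases i <;> simp, aeval_X_left_apply]
  have hFi : ∀ i : Fin 2, aeval φ (pderiv i.succ F) = aeval ![x, y] (pderiv i f) := fun i => by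
    rw [← aeval_pderiv_dehom x y F i, hdehom]
  have hF2 : aeval φ (pderiv 2 F) ≠ 0 := by
    rw [show (2 : Fin 3) = Fin.succ 1 from rfl, hFi]; exact hfy
  obtain ⟨σ, hσ0, hσ2⟩ : ∃ σ : Equiv.Perm (Fin 3), σ 0 = j ∧ aeval φ (pderiv (σ 2) F) ≠ 0 := by
    fin_cases j
    · exact ⟨1, rfl, hF2⟩
    · exact ⟨Equiv.swap 0 1, rfl, by rwa [Equiv.swap_apply_of_ne_of_ne (by decide) (by decide)]⟩
    · by_cases hfx : aeval φ (pderiv 1 F) = 0
      · refine ⟨Equiv.swap 0 2, rfl, ?_⟩
        rw [Equiv.swap_apply_right]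
        intro h0
        have hE := congrArg (aeval φ) hFhom.sum_X_mul_pderiv
        rw [map_sum] at hE
        simp only [map_mul, aeval_X, map_nsmul] at hE
        erw [Fin.sum_univ_three] at hE
        simp only [h0, hfx, mul_zero, zero_add] at hE
        rw [show aeval φ F = 0 by
          rw [hFdef, aeval_homogenize (by simp [φ]), show (fun i : Fin 2 => φ i.succ) = ![x, y] from by
            funext i; fin_cases i <;> simp [φ]]
          exact hfxy, smul_zero, mul_eq_zero] at hE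
        exact hE.elim hj.1 hF2
      · refine ⟨(Equiv.swap 1 2).trans (Equiv.swap 0 2), by decide, ?_⟩
        rwa [show ((Equiv.swap 1 2).trans (Equiv.swap 0 2) : Equiv.Perm (Fin 3)) 2 = 1 by decide]
  exact adjoint_chart hK hxy hf hfxy hfy hdx hΦQ σ (hσ0 ▸ hj) hσ2

end Groth.Agent.SV31
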