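import Groth.Agent.SV31.PlaneCoord
import Groth.Agent.SV31.Classical

/-! Invariance of the adjoint divisor. -/

namespace Groth.Agent.SV31

open FunFld WithZero MvPolynomial
open scoped LaurentSeries

universe u v

variable {k : Type u} {K : Type v} [Field k] [Field K] [Algebra k K] [IsAlgClosed k]

theorem divDiff_apply' (hK : IsFunctionField k K) (Φ : Place k K → (K →ₐ[k] k⸨X⸩))
    (hΦ : ∀ P : Place k K, LocRes.IsExpansionAt P.1 (Φ P)) {u x : K} (hu : u ≠ 0)
    (hx : KaehlerDifferential.D k K x ≠ 0) (P : Place k K) :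
    divDiff Φ u x P = LocRes.ordDiff (Φ P) u x := by
  rw [divDiff, dif_pos (Res31.finite_ordDiff hK isGeometric_of_isAlgClosed hΦ hu hx)]
  rfl

omit [IsAlgClosed k] in
theorem kaehler_smul_eq {t : K} {H : K →ₐ[k] PowerSeries K} (hH : LocRes.IsHasseFamily t H)
    {a b x x' : K} (h : a • KaehlerDifferential.D k K x = b • KaehlerDifferential.D k K x') :
    a * LocRes.hasseD H 1 x = b * LocRes.hasseD H 1 x' := by
  let δ : Derivation k K K := Derivation.mk'
    { toFun := fun z => LocRes.hasseD H 1 z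
      map_add' := fun a b => by simp only [LocRes.hasseD_apply, map_add]
      map_smul' := fun c a => by
        simp only [Algebra.smul_def, Exp31.hasseD_one_mul hH, Exp31.hasseD_one_algebraMap,
          RingHom.id_apply]
        simp }
    fun a b => by simpa [smul_eq_mul] using Exp31.hasseD_one_mul hH a b
  have h' := congrArg δ.liftKaehlerDifferential h
  rw [map_smul, map_smul, δ.liftKaehlerDifferential_comp_D, δ.liftKaehlerDifferential_comp_D] at h'
  exact h'

theorem adjointDiv_change (hK : IsFunctionField k K) {f : MvPolynomial (Fin 3) k} {e : ℕ}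
    (hf : f.IsHomogeneous e) {x y : K} (hfxy : aeval ![(1 : K), x, y] f = 0)
    (hdx : KaehlerDifferential.D k K x ≠ 0) (he : (mapDiv k ![(1 : K), x, y]).deg = e)
    {A : Matrix (Fin 3) (Fin 3) k} (hA : A.det ≠ 0) {u : Fin 3 → K}
    (hu : ∀ i, ∑ j, algebraMap k K (A i j) * u j = ![(1 : K), x, y] i) (hu0 : u 0 ≠ 0)
    (hfy : aeval ![(1 : K), x, y] (pderiv 2 f) ≠ 0)
    (hfy' : aeval ![(1 : K), u 1 / u 0, u 2 / u 0]
      (pderiv 2 (aeval (fun i : Fin 3 => ∑ j, C (A i j) * X j) f)) ≠ 0)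
    (Φ : Place k K → (K →ₐ[k] k⸨X⸩)) (hΦ : ∀ P : Place k K, LocRes.IsExpansionAt P.1 (Φ P)) :
    ((mapDiv k ![(1 : K), x, y]).deg - 3) • mapDiv k ![(1 : K), x, y] -
        divDiff Φ (aeval ![(1 : K), x, y] (pderiv 2 f))⁻¹ x =
      ((mapDiv k ![(1 : K), u 1 / u 0, u 2 / u 0]).deg - 3) •
          mapDiv k ![(1 : K), u 1 / u 0, u 2 / u 0] -
        divDiff Φ (aeval ![(1 : K), u 1 / u 0, u 2 / u 0]
          (pderiv 2 (aeval (fun i : Fin 3 => ∑ j, C (A i j) * X j) f)))⁻¹ (u 1 / u 0) := by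
  classical
  have hF := FF30.FF.of_isFunctionField hK
  have hrel := Plane.coord_change hf hfxy hu hu0 hfy hfy'
  set X₀ : Fin 3 → K := ![(1 : K), x, y]
  set v : Fin 3 → K := ![(1 : K), u 1 / u 0, u 2 / u 0] with hv
  set F2 := aeval X₀ (pderiv 2 f)
  set G2 := aeval v (pderiv 2 (aeval (fun i : Fin 3 => ∑ j, C (A i j) * X j) f))
  set cc := algebraMap k K A.det * (u 0)⁻¹ ^ ((e : ℤ) - 3) * G2⁻¹ with hcc
  have hAK : algebraMap k K A.det ≠ 0 := (_root_.map_ne_zero _).2 hA
  have hz0 : (u 0)⁻¹ ^ ((e : ℤ) - 3) ≠ 0 := zpow_ne_zero _ (inv_ne_zero hu0)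
  have hdx' : KaehlerDifferential.D k K (u 1 / u 0) ≠ 0 := fun h => by
    rw [h, smul_zero, smul_eq_zero] at hrel
    rcases hrel with h' | h'
    · exact inv_ne_zero hfy h'
    · exact hdx h'
  -- the two maps
  have huv : ∀ j, u j = u 0 * v j := by
    intro j
    fin_cases j <;> simp [hv, mul_div_cancel₀ _ hu0]
  have hmd : ∀ P, mapDiv k v P = mapDiv k X₀ P + P.ord (u 0) := by
    intro P
    have hXu : ∀ i, P.1 (X₀ i) ≤ exp (mapDiv k v P - P.ord (u 0)) := fun i => by
      rw [← hu i]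
      refine P.1.map_sum_le fun j _ => ?_
      rw [← Algebra.smul_def, huv j]
      refine (FF30.val_smul_le P _ _).trans ?_
      rw [map_mul, FF30.val_eq P hu0, sub_eq_neg_add, exp_add]
      exact mul_le_mul' le_rfl (val_le_exp_mapDiv hK v P j)
    have hAinv : ∀ j, u j = ∑ i, algebraMap k K (A⁻¹ j i) * X₀ i := fun j => by
      simp_rw [← hu, Finset.mul_sum]
      rw [Finset.sum_comm]
      simp_rw [← mul_assoc, ← map_mul, ← Finset.sum_mul, ← map_sum, ← Matrix.mul_apply,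
        Matrix.nonsing_inv_mul A (Ne.isUnit hA)]
      simp [Matrix.one_apply]
    have hvu : ∀ j, P.1 (v j) ≤ exp (mapDiv k X₀ P + P.ord (u 0)) := fun j => by
      have h1 : P.1 (u j) ≤ exp (mapDiv k X₀ P) := by
        rw [hAinv j]
        refine P.1.map_sum_le fun i _ => ?_
        rw [← Algebra.smul_def]
        exact (FF30.val_smul_le P _ _).trans (val_le_exp_mapDiv hK X₀ P i)
      rw [show v j = (u 0)⁻¹ * u j by rw [huv j, ← mul_assoc, inv_mul_cancel₀ hu0, one_mul],
        map_mul, map_inv₀, FF30.val_eq P hu0, ← exp_neg, neg_neg, add_comm, exp_add]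
      exact mul_le_mul' le_rfl h1
    -- both maps contain the entry 1
    obtain ⟨i, -, hi⟩ := Finset.exists_max_image Finset.univ (fun i => P.1 (v i)) Finset.univ_nonempty
    obtain ⟨i', -, hi'⟩ := Finset.exists_max_image Finset.univ (fun i => P.1 (X₀ i)) Finset.univ_nonempty
    have key : ∀ (w : Fin 3 → K), w 0 = 1 → ∀ i, (∀ j, P.1 (w j) ≤ P.1 (w i)) →
        P.1 (w i) = exp (mapDiv k w P) := fun w hw i hi => by
      refine le_antisymm (val_le_exp_mapDiv hK w P i) ?_
      obtain ⟨j, -, hj⟩ := Finset.exists_mem_eq_inf' (Finset.univ_nonempty (α := Fin 3))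
        (fun i => P.ord (w i))
      rw [mapDiv_apply hK, hj]
      rcases eq_or_ne (w j) 0 with h0 | h0
      · rw [h0, FF30.ord_zero, neg_zero, exp_zero]
        exact (by rw [hw, map_one] : (1 : WithZero (Multiplicative ℤ)) = P.1 (w 0)).le.trans (hi 0)
      · rw [← FF30.val_eq P h0]; exact hi j
    have k1 := key v (by simp [hv]) i fun j => hi j (Finset.mem_univ j)
    have k2 := key X₀ (by simp [X₀]) i' fun j => hi' j (Finset.mem_univ j)
    have a := hvu i
    have b := hXu i'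
    rw [k1, exp_le_exp] at a
    rw [k2, exp_le_exp] at b
    omega
  have hdeg : (mapDiv k v).deg = e := by
    have : mapDiv k v = mapDiv k X₀ + FunFld.div k (u 0) := Finsupp.ext fun P => by
      rw [hmd, Finsupp.add_apply, hF.div_apply]
    rw [this, FF30.deg_add, hF.deg_div, he, add_zero]
  obtain ⟨t, H, hsep, hH⟩ := exists_base hK
  have hh := kaehler_smul_eq hH hrel
  refine Finsupp.ext fun P => ?_
  simp only [Finsupp.sub_apply, Finsupp.smul_apply, smul_eq_mul]
  rw [hdeg, he, hmd, divDiff_apply' hK Φ hΦ (inv_ne_zero hfy) hdx,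
    divDiff_apply' hK Φ hΦ (inv_ne_zero hfy') hdx']
  have hDt : LocRes.D k (Φ P t) ≠ 0 := Exp31.D_param_ne_zero (hΦ P) hH
  have hne : ∀ {w : K}, KaehlerDifferential.D k K w ≠ 0 → LocRes.hasseD H 1 w ≠ 0 := fun {w} hw h => by
    exact hw (by rw [Exp31.kaehlerD_eq hH w, h, zero_smul])
  have key : ∀ (a w : K), a ≠ 0 → KaehlerDifferential.D k K w ≠ 0 →
      LocRes.ordDiff (Φ P) a w = P.ord (a * LocRes.hasseD H 1 w) + LocRes.ordDiff (Φ P) 1 t := by
    intro a w ha hw
    have h1 : Valued.v (LocRes.D k (Φ P t)) ≠ 0 := (Valuation.ne_zero_iff _).2 hDt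
    have h2 : a * LocRes.hasseD H 1 w ≠ 0 := mul_ne_zero ha (hne hw)
    simp only [LocRes.ordDiff, LocRes.vDiff]
    rw [Exp31.D_expansion (Φ P) hH w, ← mul_assoc, ← map_mul, map_mul, map_one, one_mul,
      (hΦ P).1, log_mul (FF30.val_ne_zero P h2) h1, Place.ord]
    ring
  rw [key _ _ (inv_ne_zero hfy) hdx, key _ _ (inv_ne_zero hfy') hdx', hh]
  have hc : cc * LocRes.hasseD H 1 (u 1 / u 0) =
      algebraMap k K A.det * ((u 0)⁻¹ ^ ((e : ℤ) - 3) * (G2⁻¹ * LocRes.hasseD H 1 (u 1 / u 0))) := by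
    rw [hcc]; ring
  rw [hc, FF30.ord_mul P hAK (mul_ne_zero hz0 (mul_ne_zero (inv_ne_zero hfy') (hne hdx'))),
    FF30.ord_algebraMap, FF30.ord_mul P hz0 (mul_ne_zero (inv_ne_zero hfy') (hne hdx')),
    FF30.ord_zpow, FF30.ord_inv]
  ring

end Groth.Agent.SV31
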