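import Groth.Agent.SV31.Dual
import Groth.Agent.SV31.AdjointChange
import Groth.Agent.FF30.PlaneEmbed
import Groth.Agent.FF30.Jacobian
import Groth.Agent.FF30.Differentials
import Mathlib.RingTheory.Polynomial.Basic
import Mathlib.RingTheory.Derivation.Basic
import Mathlib.Algebra.Polynomial.Derivation

/-! The adjoint divisor of a plane model at a finite place. -/

namespace Groth.Agent.SV31

open FunFld WithZero MvPolynomial
open FF30 (IsMin chart locRing)
open scoped LaurentSeries IntermediateField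

universe u v

variable {k : Type u} {K : Type v} [Field k] [Field K] [Algebra k K]

theorem exists_val_eq_on (S : Finset (Place k K)) (n : Place k K → ℤ) :
    ∃ z : K, ∀ Q ∈ S, Q.1 z = exp (n Q) := by
  have h : ∀ Q : Place k K, ∃ t : K, t ≠ 0 ∧ Q.1 t = exp (n Q) := fun Q => FF30.exists_val_eq Q (n Q)
  choose t ht0 ht using h
  obtain ⟨z, hz⟩ := FF30.exists_approx S t fun Q => n Q - 1
  refine ⟨z, fun Q hQ => ?_⟩
  rw [← sub_add_cancel z (t Q), Q.1.map_add_eq_of_lt_right, ht Q]
  rw [ht Q]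
  exact (hz Q hQ).trans_lt (exp_lt_exp.2 (by omega))

theorem isNonsingularAt_congr {ι : Type*} {φ ψ : ι → K} {Q : Place k K} {j j' : ι}
    (hj : IsMin φ Q j) (hj' : IsMin ψ Q j')
    (h : Set.range (fun i => φ i / φ j) = Set.range fun i => ψ i / ψ j') :
    IsNonsingularAt φ Q ↔ IsNonsingularAt ψ Q := by
  rw [FF30.isNonsingularAt_iff_locRing hj, FF30.isNonsingularAt_iff_locRing hj']
  have hc : chart k φ j = chart k ψ j' := by rw [chart, chart, h]
  have hl : locRing φ Q j = locRing ψ Q j' := SetLike.ext fun z => by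
    show (∃ u ∈ chart k φ j, ∃ w ∈ chart k φ j, Q.1 w = 1 ∧ z * w = u) ↔
      ∃ u ∈ chart k ψ j', ∃ w ∈ chart k ψ j', Q.1 w = 1 ∧ z * w = u
    rw [hc]
  rw [hl]

/-- A rational function of `w` integral at `Q` lies in any local ring at `Q` containing `w`. -/
theorem mem_of_mem_adjoin_simple {Q : Place k K} {L : Subalgebra k K}
    (hinv : ∀ z ∈ L, Q.1 z = 1 → z⁻¹ ∈ L) {w : K} (hwL : w ∈ L) (hw : Transcendental k w) {a : k}
    (ha : Q.1 (w - algebraMap k K a) < 1) {e : K} (he : e ∈ k⟮w⟯) (hQe : Q.1 e ≤ 1) : e ∈ L := by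
  classical
  rcases eq_or_ne e 0 with rfl | he0
  · exact zero_mem L
  have hL : ∀ p : Polynomial k, Polynomial.aeval w p ∈ L := fun p => by
    rw [Polynomial.aeval_eq_sum_range]
    exact sum_mem fun i _ => L.smul_mem (pow_mem hwL i) _
  have hw1 : Q.1 w ≤ 1 := by
    rw [show w = (w - algebraMap k K a) + algebraMap k K a by ring]
    exact (Q.1.map_add _ _).trans (max_le ha.le (Q.2.1 a))
  have hle : ∀ g : Polynomial k, Q.1 (Polynomial.aeval w g) ≤ 1 := fun g => by
    rw [Polynomial.aeval_eq_sum_range]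
    refine Q.1.map_sum_le fun i _ => ?_
    rw [Algebra.smul_def, map_mul, map_pow]
    exact mul_le_one' (Q.2.1 _) (pow_le_one₀ zero_le hw1)
  set π := w - algebraMap k K a with hπ
  have hdec : ∀ p : Polynomial k, p ≠ 0 → ∃ (i : ℕ) (p₁ : K), p₁ ∈ L ∧ Q.1 p₁ = 1 ∧
      Polynomial.aeval w p = π ^ i * p₁ := by
    intro p hp0
    obtain ⟨q, hpq, hq⟩ := p.exists_eq_pow_rootMultiplicity_mul_and_not_dvd hp0 a
    have hqa : q.eval a ≠ 0 := fun h => hq (Polynomial.dvd_iff_isRoot.2 h)
    obtain ⟨r, hr⟩ := Polynomial.X_sub_C_dvd_sub_C_eval (p := q) (a := a)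
    refine ⟨p.rootMultiplicity a, Polynomial.aeval w q, hL q, ?_, ?_⟩
    · rw [show Polynomial.aeval w q = Polynomial.aeval w (q - Polynomial.C (q.eval a)) +
          algebraMap k K (q.eval a) by rw [map_sub, Polynomial.aeval_C, sub_add_cancel],
        Q.1.map_add_eq_of_lt_right, FF30.val_algebraMap Q hqa]
      rw [FF30.val_algebraMap Q hqa, hr, map_mul, map_mul, map_sub, Polynomial.aeval_X,
        Polynomial.aeval_C]
      exact (mul_le_of_le_one_right' (hle r)).trans_lt ha
    · conv_lhs => rw [hpq]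
      rw [map_mul, map_pow, map_sub, Polynomial.aeval_X, Polynomial.aeval_C]
  obtain ⟨p, q, rfl⟩ := (IntermediateField.mem_adjoin_simple_iff k e).1 he
  have hp0 : p ≠ 0 := fun h => he0 (by simp [h])
  have hq0 : q ≠ 0 := fun h => he0 (by simp [h])
  obtain ⟨i, p₁, hp₁, hp₁1, hpe⟩ := hdec p hp0
  obtain ⟨j, q₁, hq₁, hq₁1, hqe⟩ := hdec q hq0
  have hπ0 : π ≠ 0 := fun h => hw (by rw [sub_eq_zero.1 h]; exact isAlgebraic_algebraMap a)
  have hji : j ≤ i := by
    by_contra hlt
    rw [hpe, hqe, map_div₀, map_mul, map_mul, map_pow, map_pow, hp₁1, hq₁1, mul_one, mul_one,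
      div_le_one₀ (pow_pos (zero_lt_iff.2 (FF30.val_ne_zero Q hπ0)) j)] at hQe
    exact absurd hQe (not_le.2 (pow_lt_pow_right_of_lt_one₀ (zero_lt_iff.2 (FF30.val_ne_zero Q hπ0)) ha
      (not_le.1 hlt)))
  obtain ⟨m, rfl⟩ := Nat.exists_eq_add_of_le hji
  rw [hpe, hqe, pow_add, mul_assoc, mul_div_mul_left _ _ (pow_ne_zero j hπ0)]
  exact div_eq_mul_inv (π ^ m * p₁) q₁ ▸
    mul_mem (mul_mem (pow_mem (sub_mem hwL (L.algebraMap_mem a)) m) hp₁) (hinv _ hq₁ hq₁1)

/-- The coefficient in degree `deg f` of the sheared equation is a constant. -/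
theorem coeff_shear_mem_range {E : Type*} [Field E] [Algebra k E] (f : MvPolynomial (Fin 2) k)
    (A : E) (s : k) :
    (aeval ![Polynomial.C A - Polynomial.C (algebraMap k E s) * Polynomial.X, Polynomial.X] f).coeff
        f.totalDegree ∈ Set.range (algebraMap k E) ∧
    (aeval ![Polynomial.C A - Polynomial.C (algebraMap k E s) * Polynomial.X, Polynomial.X] f).natDegree
      ≤ f.totalDegree := by
  set d := f.totalDegree
  set l₀ : Polynomial E := Polynomial.C A - Polynomial.C (algebraMap k E s) * Polynomial.X with hl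
  have hl₀ : l₀.natDegree ≤ 1 := by
    refine (Polynomial.natDegree_sub_le _ _).trans (max_le (by simp) ?_)
    exact (Polynomial.natDegree_C_mul_le _ _).trans Polynomial.natDegree_X_le
  have hterm : ∀ m ∈ f.support,
      ((aeval ![l₀, Polynomial.X] (monomial m (coeff m f))).coeff d ∈ (algebraMap k E).range) ∧
        (aeval ![l₀, Polynomial.X] (monomial m (coeff m f))).natDegree ≤ d := by
    intro m hm
    have hm' : m 0 + m 1 ≤ d := by
      have := le_totalDegree hm
      rwa [Finsupp.sum_fintype _ _ (fun _ => rfl), Fin.sum_univ_two] at this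
    rw [aeval_monomial, Finsupp.prod_fintype _ _ (fun _ => pow_zero _), Fin.prod_univ_two,
      Polynomial.algebraMap_apply]
    simp only [Matrix.cons_val_zero, Matrix.cons_val_one]
    have hn1 : (l₀ ^ m 0).natDegree ≤ m 0 :=
      (Polynomial.natDegree_pow_le.trans (Nat.mul_le_mul_left _ hl₀)).trans (mul_one _).le
    have hn2 : (l₀ ^ m 0 * Polynomial.X ^ m 1).natDegree ≤ m 0 + m 1 :=
      Polynomial.natDegree_mul_le.trans (Nat.add_le_add hn1 (Polynomial.natDegree_X_pow_le _))
    refine ⟨?_, (Polynomial.natDegree_C_mul_le _ _).trans (hn2.trans hm')⟩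
    rw [Polynomial.coeff_C_mul]
    refine Subring.mul_mem _ ⟨_, rfl⟩ ?_
    rcases hm'.lt_or_eq with hlt | heq
    · rw [Polynomial.coeff_eq_zero_of_natDegree_lt (hn2.trans_lt hlt)]
      exact zero_mem _
    · rw [← heq, Polynomial.coeff_mul_X_pow]
      have h1 : (l₀ ^ m 0).coeff (m 0 * 1) = l₀.coeff 1 ^ m 0 := Polynomial.coeff_pow_of_natDegree_le hl₀
      rw [mul_one] at h1
      rw [h1]
      refine pow_mem ?_ _
      refine ⟨-s, ?_⟩
      simp [hl]
  constructor
  · conv => arg 2; rw [f.as_sum, map_sum, Polynomial.finsetSum_coeff]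
    exact Subring.sum_mem _ fun m hm => (hterm m hm).1
  · conv_lhs => rw [f.as_sum, map_sum]
    exact Polynomial.natDegree_sum_le_of_forall_le _ _ fun m hm => (hterm m hm).2

variable [IsAlgClosed k]

theorem kaehler_rel {x y : K} {f : MvPolynomial (Fin 2) k} (hfxy : aeval ![x, y] f = 0)
    (δ : Derivation k K K) :
    aeval ![x, y] (pderiv 0 f) * δ x + aeval ![x, y] (pderiv 1 f) * δ y = 0 := by
  have h := Plane.derivation_aeval δ ![x, y] f
  rw [hfxy, map_zero, Fin.sum_univ_two] at h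
  simpa using h.symm

theorem hasseD_ne_zero_of_kaehler {t : K} [Algebra.IsSeparable (IntermediateField.adjoin k ({t} : Set K)) K]
    {H : K →ₐ[k] PowerSeries K} (hH : LocRes.IsHasseFamily t H) {w : K}
    (hw : KaehlerDifferential.D k K w ≠ 0) : LocRes.hasseD H 1 w ≠ 0 := fun h =>
  hw (by rw [Exp31.kaehlerD_eq hH w, h, zero_smul])

theorem ordDiff_eq_ord {Q : Place k K} {ΦQ : K →ₐ[k] k⸨X⸩} (hΦQ : LocRes.IsExpansionAt Q.1 ΦQ)
    {t : K} [Algebra.IsSeparable (IntermediateField.adjoin k ({t} : Set K)) K]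
    {H : K →ₐ[k] PowerSeries K} (hH : LocRes.IsHasseFamily t H) {a w : K} (ha : a ≠ 0)
    (hw : LocRes.hasseD H 1 w ≠ 0) :
    LocRes.ordDiff ΦQ a w = Q.ord (a * LocRes.hasseD H 1 w) + LocRes.ordDiff ΦQ 1 t := by
  have h1 : Valued.v (LocRes.D k (ΦQ t)) ≠ 0 := (Valuation.ne_zero_iff _).2 (Exp31.D_param_ne_zero hΦQ hH)
  have h2 : a * LocRes.hasseD H 1 w ≠ 0 := mul_ne_zero ha hw
  simp only [LocRes.ordDiff, LocRes.vDiff]
  rw [Exp31.D_expansion ΦQ hH w, ← mul_assoc, ← map_mul, map_mul, map_one, one_mul,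
    hΦQ.1, log_mul (FF30.val_ne_zero Q h2) h1, Place.ord]
  ring

/-- A linear projection with the same pole divisor and a nonzero differential. -/
theorem exists_projection (hK : IsFunctionField k K) {x y : K}
    (hxy : IntermediateField.adjoin k ({x, y} : Set K) = ⊤) (hdx : KaehlerDifferential.D k K x ≠ 0) :
    ∃ s : k, (FF30.poleDiv (x + s • y) : Divisor k K) = mapDiv k ![(1 : K), x, y] ∧
      Transcendental k (x + s • y) ∧ KaehlerDifferential.D k K (x + s • y) ≠ 0 := by
  classical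
  have hF : FF30.FF k K := hK.1
  set D := mapDiv k ![(1 : K), x, y]
  let bad := fun Q : Place k K => {s : k | Q.1 (x + s • y) < exp (D Q)}
  have hbad : ∀ Q ∈ D.support, (bad Q).Subsingleton := by
    intro Q hQ s hs s' hs'
    by_contra hne
    have hy : Q.1 y < exp (D Q) := by
      rw [← FF30.val_smul Q (sub_ne_zero.mpr hne) y, sub_smul,
        show s • y - s' • y = (x + s • y) - (x + s' • y) by ring]
      exact lt_of_le_of_lt (Q.1.map_sub _ _) (max_lt hs hs')
    have hx : Q.1 x < exp (D Q) := by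
      rw [show x = (x + s • y) - s • y by ring]
      exact lt_of_le_of_lt (Q.1.map_sub _ _) (max_lt hs (lt_of_le_of_lt (FF30.val_smul_le Q s y) hy))
    have hD : D Q = max 0 (max (-Q.ord x) (-Q.ord y)) := hF.planeDiv_apply x y Q
    have hD0 := Finsupp.mem_support_iff.mp hQ
    have key : ∀ z : K, Q.1 z < exp (D Q) → Q.ord z = 0 ∨ -Q.ord z < D Q := fun z hz => by
      rcases eq_or_ne z 0 with rfl | hz0
      · exact Or.inl (FF30.ord_zero Q)
      · exact Or.inr (by rwa [FF30.val_eq Q hz0, exp_lt_exp] at hz)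
    rcases key x hx with h1 | h1 <;> rcases key y hy with h2 | h2 <;> omega
  have hbad' : {s : k | KaehlerDifferential.D k K (x + s • y) = 0}.Subsingleton := by
    intro s hs s' hs'
    simp only [Set.mem_setOf_eq, map_add, Derivation.map_smul] at hs hs'
    by_contra hne
    have h : (s - s') • KaehlerDifferential.D k K y = 0 := by
      rw [sub_smul, ← add_sub_add_left_eq_sub _ _ (KaehlerDifferential.D k K x), hs, hs', sub_zero]
    rw [smul_eq_zero, or_iff_right (sub_ne_zero.2 hne)] at h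
    rw [h, smul_zero, add_zero] at hs
    exact hdx hs
  obtain ⟨s, hs⟩ := ((Set.Finite.biUnion D.support.finite_toSet fun Q hQ => (hbad Q hQ).finite).union
    hbad'.finite).exists_notMem
  simp only [Set.mem_union, not_or] at hs
  obtain ⟨hs, hsD⟩ := hs
  have hge : ∀ Q : Place k K, D Q ≠ 0 → exp (D Q) ≤ Q.1 (x + s • y) := fun Q hQ =>
    not_lt.mp fun hlt => hs (Set.mem_biUnion (Finsupp.mem_support_iff.mpr hQ) hlt)
  set w := x + s • y
  have hle : ∀ Q : Place k K, Q.1 w ≤ exp (D Q) := fun Q =>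
    (Q.1.map_add _ _).trans (max_le (hF.val_le_planeDiv x y Q).1
      ((FF30.val_smul_le Q s y).trans (hF.val_le_planeDiv x y Q).2))
  have hpole : (FF30.poleDiv w : Divisor k K) = D := by
    ext Q
    rw [hF.poleDiv_apply]
    have hD : 0 ≤ D Q := hF.planeDiv_nonneg x y Q
    have hw : w ≠ 0 := fun h => hsD (by show KaehlerDifferential.D k K w = 0; rw [h, map_zero])
    have h1 := (FF30.val_le_exp_iff Q hw (D Q)).mp (hle Q)
    by_cases hQ : D Q = 0
    · omega
    · have h2 := (FF30.exp_le_val_iff Q hw (D Q)).mp (hge Q hQ)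
      omega
  refine ⟨s, hpole, fun halg => ?_, hsD⟩
  obtain ⟨c, hc⟩ := hK.2 w halg
  exact hsD (by show KaehlerDifferential.D k K w = 0; rw [← hc, Derivation.map_algebraMap])

/-- At a finite place: the order of `dx/f_y` is at most `0`, and `0` only at a nonsingular one. -/
theorem adjoint_finite_le (hK : IsFunctionField k K) {x y : K}
    (hxy : IntermediateField.adjoin k ({x, y} : Set K) = ⊤) {f : MvPolynomial (Fin 2) k}
    (hf : Irreducible f) (hfxy : aeval ![x, y] f = 0)
    (hfy : aeval ![x, y] (pderiv 1 f) ≠ 0) (hdx : KaehlerDifferential.D k K x ≠ 0) {Q : Place k K}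
    (hQx : Q.1 x ≤ 1) (hQy : Q.1 y ≤ 1) {ΦQ : K →ₐ[k] k⸨X⸩} (hΦQ : LocRes.IsExpansionAt Q.1 ΦQ) :
    LocRes.ordDiff ΦQ (aeval ![x, y] (pderiv 1 f))⁻¹ x ≤ 0 ∧
      (LocRes.ordDiff ΦQ (aeval ![x, y] (pderiv 1 f))⁻¹ x = 0 →
        IsNonsingularAt ![(1 : K), x, y] Q) := by
  classical
  have hF : FF30.FF k K := hK.1
  set F₁ := aeval ![x, y] (pderiv 0 f)
  set F₂ := aeval ![x, y] (pderiv 1 f)
  obtain ⟨s, hpole, htr, hdw⟩ := exists_projection hK hxy hdx
  obtain ⟨t, H, hsep, hH⟩ := exists_base hK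
  set w := x + s • y with hwdef
  set d := f.totalDegree with hd
  have hrel : F₁ * LocRes.hasseD H 1 x + F₂ * LocRes.hasseD H 1 y = 0 :=
    kaehler_rel hfxy (FF30.hasseDer hH)
  have hHw : LocRes.hasseD H 1 w = LocRes.hasseD H 1 x + algebraMap k K s * LocRes.hasseD H 1 y := by
    have := (FF30.hasseDer hH).map_smul s y
    rw [hwdef, ← FF30.hasseDer_apply hH, map_add, this, Algebra.smul_def, FF30.hasseDer_apply,
      FF30.hasseDer_apply]
  set G := F₂ - algebraMap k K s * F₁ with hG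
  have hGw : F₂⁻¹ * LocRes.hasseD H 1 x * G = LocRes.hasseD H 1 w := by
    rw [hHw]
    field_simp
    rw [hG]
    linear_combination (-(algebraMap k K s)) * hrel
  have hHw0 : LocRes.hasseD H 1 w ≠ 0 := hasseD_ne_zero_of_kaehler hH hdw
  have hG0 : G ≠ 0 := fun h => hHw0 (by rw [← hGw, h, mul_zero])
  -- the rational subfield
  have : FiniteDimensional k⟮w⟯ K := hF.finiteDimensional_adjoin htr
  have : Algebra.IsSeparable k⟮w⟯ K :=
    FF30.isSeparable_of_kaehlerD_ne_zero hK isGeometric_of_isAlgClosed hdw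
  let w' : k⟮w⟯ := ⟨w, IntermediateField.mem_adjoin_simple_self k w⟩
  have hE : IsFunctionField k k⟮w⟯ :=
    ⟨(hF.intermediateField k⟮w⟯ (IntermediateField.mem_adjoin_simple_self k w) htr).1, fun e he => by
      obtain ⟨c, hc⟩ := hK.2 (e : K) (he.algebraMap)
      exact ⟨c, Subtype.ext hc⟩⟩
  have hfin : Module.finrank k⟮w⟯ K = d := by
    have h1 := hF.deg_poleDiv htr
    rw [hpole, FF30.deg_planeDiv hK hxy hf hfxy] at h1
    exact_mod_cast h1.symm
  have htopy : IntermediateField.adjoin k⟮w⟯ ({y} : Set K) = ⊤ := by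
    rw [← IntermediateField.restrictScalars_eq_top_iff (K := k),
      IntermediateField.adjoin_simple_adjoin_simple, eq_top_iff, ← hxy,
      IntermediateField.adjoin_le_iff]
    have hyw : y ∈ IntermediateField.adjoin k ({w, y} : Set K) :=
      IntermediateField.subset_adjoin _ _ (Or.inr rfl)
    rintro _ (rfl | rfl)
    · have h1 : w - s • y ∈ IntermediateField.adjoin k ({w, y} : Set K) :=
        sub_mem (IntermediateField.subset_adjoin _ _ (Or.inl rfl))
          ((IntermediateField.adjoin k ({w, y} : Set K)).toSubalgebra.smul_mem hyw s)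
      simpa [hwdef] using h1
    · exact hyw
  have hyint : IsIntegral k⟮w⟯ y := Algebra.IsIntegral.isIntegral y
  have htopA : Algebra.adjoin k⟮w⟯ ({y} : Set K) = ⊤ := by
    rw [← IntermediateField.adjoin_simple_toSubalgebra_of_isAlgebraic hyint.isAlgebraic, htopy,
      IntermediateField.top_toSubalgebra]
  have hdeg : (minpoly k⟮w⟯ y).natDegree = d := by
    rw [← IntermediateField.adjoin.finrank hyint, htopy, IntermediateField.finrank_top', hfin]
  -- the sheared equation is a constant times the minimal polynomial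
  set q : Polynomial k⟮w⟯ :=
    aeval ![Polynomial.C w' - Polynomial.C (algebraMap k k⟮w⟯ s) * Polynomial.X, Polynomial.X] f with hq
  obtain ⟨⟨c, hc⟩, hqd⟩ := coeff_shear_mem_range f w' s
  have hev : ∀ g : MvPolynomial (Fin 2) k, Polynomial.aeval y
      (aeval ![Polynomial.C w' - Polynomial.C (algebraMap k k⟮w⟯ s) * Polynomial.X, Polynomial.X] g) =
        aeval ![x, y] g := by
    have hcomp : ((Polynomial.aeval (R := k⟮w⟯) y).restrictScalars k).comp
        (aeval ![Polynomial.C w' - Polynomial.C (algebraMap k k⟮w⟯ s) * Polynomial.X, Polynomial.X]) =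
          aeval ![x, y] := by
      refine MvPolynomial.algHom_ext fun i => ?_
      fin_cases i
      · simp [w', hwdef, Algebra.smul_def]
      · simp
    exact fun g => AlgHom.congr_fun hcomp g
  have hqroot : Polynomial.aeval y q = 0 := (hev f).trans hfxy
  have hqder : Polynomial.aeval y (Polynomial.derivative q) = G := by
    have h := Plane.derivation_aeval ((Polynomial.derivative' (R := k⟮w⟯)).restrictScalars k)
      ![Polynomial.C w' - Polynomial.C (algebraMap k k⟮w⟯ s) * Polynomial.X, Polynomial.X] f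
    change Polynomial.derivative q = _ at h
    rw [h, Fin.sum_univ_two, map_add]
    simp only [smul_eq_mul, map_mul, hev, Matrix.cons_val_zero, Matrix.cons_val_one,
      Derivation.restrictScalars_apply, Polynomial.derivative'_apply]
    simp [hG]
    ring
  obtain ⟨r, hr⟩ := minpoly.dvd k⟮w⟯ y hqroot
  have hq0 : q ≠ 0 := fun h => hG0 (by rw [← hqder, h]; simp)
  have hr0 : r ≠ 0 := fun h => hq0 (by rw [hr, h, mul_zero])
  have hrdeg : r.natDegree = 0 := by
    have h1 := congrArg Polynomial.natDegree hr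
    rw [Polynomial.natDegree_mul (minpoly.ne_zero hyint) hr0, hdeg] at h1
    have : q.natDegree ≤ d := hqd
    omega
  obtain ⟨γ, rfl⟩ := Polynomial.natDegree_eq_zero.1 hrdeg
  have hγ : γ = algebraMap k k⟮w⟯ c := by
    rw [hc]
    show _ = q.coeff d
    rw [hr, Polynomial.coeff_mul_C]
    conv_rhs => rw [← hdeg, Polynomial.coeff_natDegree, (minpoly.monic hyint).leadingCoeff, one_mul]
  have hc0 : c ≠ 0 := by
    rintro rfl
    rw [map_zero] at hγ
    exact hr0 (by rw [hγ, map_zero])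
  set g' := Polynomial.aeval y (Polynomial.derivative (minpoly k⟮w⟯ y)) with hg'
  have hGg : G = g' * algebraMap k K c := by
    rw [← hqder, hr, Polynomial.derivative_mul, Polynomial.derivative_C, mul_zero, add_zero, map_mul,
      Polynomial.aeval_C, hγ, ← IsScalarTower.algebraMap_apply, hg']
  have hg0 : g' ≠ 0 := fun h => hG0 (by rw [hGg, h, zero_mul])
  -- the place below
  obtain ⟨P, e, he, hQP⟩ := (show FF30.FF k k⟮w⟯ from hE.1).exists_isOverWith (K' := K) Q
  have hQw : Q.1 w ≤ 1 := (Q.1.map_add _ _).trans (max_le hQx ((FF30.val_smul_le Q s y).trans hQy))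
  have hPw : P.1 w' ≤ 1 := (FF30.isOverWith_le_one_iff hQP w').1 hQw
  obtain ⟨a, ha⟩ := hF.exists_sub_lt Q hQw
  have hPa : P.1 (w' - algebraMap k k⟮w⟯ a) < 1 := by
    have h := hQP (w' - algebraMap k k⟮w⟯ a)
    by_contra hge
    rw [not_lt] at hge
    have h1 : (1 : WithZero (Multiplicative ℤ)) ≤ P.1 (w' - algebraMap k k⟮w⟯ a) ^ e := one_le_pow₀ hge
    rw [← h] at h1
    exact absurd ha (not_lt.2 h1)
  have htopw : IntermediateField.adjoin k ({w'} : Set k⟮w⟯) = ⊤ := by
    refine IntermediateField.map_injective (IntermediateField.val k⟮w⟯) ?_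
    rw [IntermediateField.adjoin_map, Set.image_singleton, ← AlgHom.fieldRange_eq_map,
      IntermediateField.fieldRange_val]
    rfl
  obtain ⟨ΦE, hΦE⟩ := exists_expansion_family hE
  have htv : Valued.v (LocRes.D k (ΦE P w')) = 1 := by
    have h := Exp31.val_D_eq (e := 1)
      (((hΦE P).1 _).trans (ord_sub_const_of_rational hE htopw P hPw hPa)) (by simp)
    rw [map_sub, map_sub, LocRes.map_algebraMap, Exp31.D_C, sub_zero] at h
    simpa using h
  -- expansions upstairs
  obtain ⟨Φ₀, hΦ₀⟩ := exists_expansion_family hK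
  set ψ : Place k K → (K →ₐ[k] k⸨X⸩) := Function.update Φ₀ Q ΦQ with hψdef
  have hψ : ∀ R, LocRes.IsExpansionAt R.1 (ψ R) := fun R => by
    by_cases h : R = Q
    · subst h; rw [hψdef, Function.update_self]; exact hΦQ
    · rw [hψdef, Function.update_of_ne h]; exact hΦ₀ R
  set Qs := ((show FF30.FF k k⟮w⟯ from hE.1).finite_setOf_isOver (K' := K) P).toFinset
  have hQs : ∀ R, R ∈ Qs ↔ IsOver R P := fun R =>
    ((show FF30.FF k k⟮w⟯ from hE.1).finite_setOf_isOver (K' := K) P).mem_toFinset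
  have hQmem : Q ∈ Qs := (hQs Q).2 ⟨e, hQP⟩
  obtain ⟨u₀, hu₀⟩ := exists_val_eq_on Qs fun R => LocRes.ordDiff (ψ R) 1 w
  have hvD : ∀ R, Valued.v (LocRes.D k (ψ R w)) = exp (-LocRes.ordDiff (ψ R) 1 w) := fun R => by
    rw [LocRes.ordDiff, neg_neg, Exp31.vDiff_one, exp_log]
    exact (Valuation.ne_zero_iff _).2 (Exp31.D_ne_zero_of_kaehler (hψ R) hH hdw)
  have hw_int : ∀ R, IsOver R P → R.1 w ≤ 1 ∧ R.1 y ≤ 1 := fun R hR => by
    have h1 : R.1 w ≤ 1 :=
      (FF30.isOverWith_le_one_iff (FF30.isOverWith_ramIdx hR) w').2 hPw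
    refine ⟨h1, (hF.val_le_planeDiv x y R).2.trans ?_⟩
    rw [← hpole, hF.poleDiv_apply, ← exp_zero, exp_le_exp]
    have := (FF30.val_le_one_iff R).1 h1
    omega
  have htrace : ∀ z : K, (∀ R, IsOver R P → R.1 z ≤ 1) →
      P.1 (Algebra.trace k⟮w⟯ K (u₀ * z)) ≤ 1 := fun z hz =>
    trace_le_one hE (hΦE P) htv hψ fun R hR => by
      rw [map_mul, (hψ R).1, map_mul, hu₀ R ((hQs R).2 hR), show algebraMap k⟮w⟯ K w' = w from rfl, hvD,
        mul_right_comm, ← exp_add, add_neg_cancel, exp_zero, one_mul]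
      exact hz R hR
  -- the local ring
  have hmin : IsMin ![(1 : K), x, y] Q 0 := ⟨by simp, fun i => by fin_cases i <;> simp [hQx, hQy]⟩
  set L := locRing ![(1 : K), x, y] Q 0
  have hxL : x ∈ L := FF30.chart_le_locRing _ _ _
    (by simpa using FF30.ratio_mem_chart (k := k) ![(1 : K), x, y] 1 0)
  have hyL : y ∈ L := FF30.chart_le_locRing _ _ _
    (by simpa using FF30.ratio_mem_chart (k := k) ![(1 : K), x, y] 2 0)
  have hwL : w ∈ L := add_mem hxL (L.smul_mem hyL s)
  have hEL : ∀ z : k⟮w⟯, P.1 z ≤ 1 → (z : K) ∈ L := fun z hz =>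
    mem_of_mem_adjoin_simple (fun _ h => FF30.inv_mem_locRing h) hwL htr ha z.2
      ((FF30.isOverWith_le_one_iff hQP z).2 hz)
  letI : Algebra P.O K := ((algebraMap k⟮w⟯ K).comp P.O.subtype).toAlgebra
  haveI : IsScalarTower P.O k⟮w⟯ K := IsScalarTower.of_algebraMap_eq fun _ => rfl
  have hyO : IsIntegral P.O y :=
    ((show FF30.FF k k⟮w⟯ from hE.1).isIntegral_iff P y).2 fun R hR => (hw_int R hR).2
  have hcoef : ∀ i, (minpolyDiv k⟮w⟯ y).coeff i ∈ L := fun i => by
    rw [← minpolyDiv_eq_of_isIntegrallyClosed k⟮w⟯ hyO]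
    have h := coeff_minpolyDiv_mem_adjoin (R := P.O) y i
    generalize (minpolyDiv P.O y).coeff i = c' at h ⊢
    induction h using Algebra.adjoin_induction with
    | mem z hz => rw [Set.mem_singleton_iff] at hz; exact hz ▸ hyL
    | algebraMap z => exact hEL (z : k⟮w⟯) z.2
    | add a b _ _ ha hb => exact add_mem ha hb
    | mul a b _ _ ha hb => exact mul_mem ha hb
  have hkey : ∀ z : K, (∀ R, IsOver R P → R.1 z ≤ 1) → u₀ * z * g' ∈ L := fun z hz => by
    rw [hg', mul_deriv_eq_sum_trace htopA]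
    refine sum_mem fun i _ => ?_
    rw [Algebra.smul_def]
    refine mul_mem (hEL _ ?_) (hcoef i)
    rw [mul_assoc]
    exact htrace _ fun R hR => by
      rw [map_mul, map_pow]
      exact mul_le_one' (hz R hR) (pow_le_one₀ zero_le (hw_int R hR).2)
  -- conclusion
  have hu0ne : u₀ ≠ 0 := fun h => by
    have := hu₀ Q hQmem
    rw [h, map_zero] at this
    exact exp_ne_zero this.symm
  have hνQ : LocRes.ordDiff (ψ Q) 1 w = LocRes.ordDiff ΦQ 1 w := by rw [hψdef, Function.update_self]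
  have hordu : Q.ord u₀ = -LocRes.ordDiff ΦQ 1 w := by
    rw [← hνQ]; exact FF30.ord_eq_of_val_eq Q (hu₀ Q hQmem)
  have hval : Q.1 (u₀ * g') ≤ 1 := by
    have := FF30.locRing_le_one hmin (hkey 1 fun R _ => (map_one R.1).le)
    rwa [mul_one] at this
  have hord : LocRes.ordDiff ΦQ F₂⁻¹ x = -(Q.ord (u₀ * g')) := by
    have hHx := hasseD_ne_zero_of_kaehler hH hdx
    rw [ordDiff_eq_ord hΦQ hH (inv_ne_zero hfy) hHx, FF30.ord_mul Q hu0ne hg0, hordu,
      ordDiff_eq_ord hΦQ hH one_ne_zero hHw0, one_mul]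
    have h1 : Q.ord (LocRes.hasseD H 1 w) = Q.ord (F₂⁻¹ * LocRes.hasseD H 1 x) + Q.ord g' := by
      have hcK : algebraMap k K c ≠ 0 := (_root_.map_ne_zero _).2 hc0
      rw [← hGw, FF30.ord_mul Q (mul_ne_zero (inv_ne_zero hfy) hHx) hG0, hGg,
        FF30.ord_mul Q hg0 hcK, FF30.ord_algebraMap, add_zero]
    omega
  refine ⟨?_, fun h0 => ?_⟩
  · have := (FF30.val_le_one_iff Q).1 hval
    omega
  · rw [FF30.isNonsingularAt_iff_locRing hmin]
    intro z hz
    have hW : Q.1 (u₀ * g') = 1 := (FF30.val_eq_one_iff Q (mul_ne_zero hu0ne hg0)).2 (by omega)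
    obtain ⟨ε, hε⟩ := FF30.exists_approx Qs (fun R => if R = Q then (1 : K) else 0)
      fun R => if R = Q then -1 else -((R.ord z).natAbs : ℤ)
    have hεQ : Q.1 ε = 1 := by
      have h := hε Q hQmem
      simp only [if_true] at h
      rw [show ε = (ε - 1) + 1 by ring, Q.1.map_add_eq_of_lt_right, map_one]
      rw [map_one]
      exact h.trans_lt (by rw [← exp_zero, exp_lt_exp]; omega)
    have hεR : ∀ R, IsOver R P → R.1 ε ≤ 1 ∧ R.1 (ε * z) ≤ 1 := fun R hR => by
      by_cases hRQ : R = Q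
      · subst hRQ; exact ⟨hεQ.le, by rw [map_mul, hεQ, one_mul]; exact hz⟩
      · have h := hε R ((hQs R).2 hR)
        rw [if_neg hRQ, if_neg hRQ, sub_zero] at h
        refine ⟨h.trans (by rw [← exp_zero, exp_le_exp]; omega), ?_⟩
        rw [map_mul]
        rcases eq_or_ne z 0 with rfl | hz0
        · simp
        · refine (mul_le_mul' h le_rfl).trans ?_
          rw [FF30.val_eq R hz0, ← exp_add, ← exp_zero, exp_le_exp]
          omega
    have hA := hkey ε fun R hR => (hεR R hR).1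
    have hB := hkey (ε * z) fun R hR => (hεR R hR).2
    have hA1 : Q.1 (u₀ * ε * g') = 1 := by
      rw [mul_right_comm, map_mul, hW, hεQ, one_mul]
    have hne : u₀ * ε * g' ≠ 0 := fun h => by rw [h, map_zero] at hA1; exact zero_ne_one hA1
    have : z = u₀ * (ε * z) * g' * (u₀ * ε * g')⁻¹ := by
      rw [show u₀ * (ε * z) * g' = z * (u₀ * ε * g') by ring, mul_inv_cancel_right₀ hne]
    rw [this]
    exact mul_mem hB (FF30.inv_mem_locRing hA hA1)

end Groth.Agent.SV31
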