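import Groth.Agent.SV31.LocalWr
import Groth.Agent.Exp31.DiffExp

/-! The columns of Hasse derivatives: scaling, change of variable, full rank. -/

namespace Groth.Agent.SV31

open FunFld

variable {k K : Type*} [Field k] [Field K] [Algebra k K]

theorem hasseD_zero {x : K} {H : K →ₐ[k] PowerSeries K} (hH : LocRes.IsHasseFamily x H) (z : K) :
    LocRes.hasseD H 0 z = z := by
  rw [LocRes.hasseD_apply, PowerSeries.coeff_zero_eq_constantCoeff_apply, hH.2]

theorem hcol_one {ι : Type*} {x : K} {H : K →ₐ[k] PowerSeries K} (hH : LocRes.IsHasseFamily x H)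
    (τ : K →ₐ[k] K) (φ : ι → K) : hcol τ H φ 1 = φ := funext fun i => hasseD_zero hH (φ i)

section Separable

variable [IsAlgClosed k]

theorem isGeometric_data (hK : IsFunctionField k K) :
    ∃ t : K, Transcendental k t ∧
      FiniteDimensional (IntermediateField.adjoin k ({t} : Set K)) K ∧
      Algebra.IsSeparable (IntermediateField.adjoin k ({t} : Set K)) K := by
  obtain ⟨x, hx, hfin⟩ := hK.1
  have hfg : (IntermediateField.adjoin k ({x} : Set K)).FG := by
    simpa using IntermediateField.fg_adjoin_finset ({x} : Finset K)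
  have : Algebra.EssFiniteType k (IntermediateField.adjoin k ({x} : Set K)) :=
    IntermediateField.essFiniteType_iff.2 hfg
  have : Algebra.EssFiniteType k K :=
    Algebra.EssFiniteType.comp k (IntermediateField.adjoin k ({x} : Set K)) K
  have hind : AlgebraicIndependent k (fun _ : Unit => x) := algebraicIndependent_unique_type_iff.2 hx
  have hbx : IsTranscendenceBasis k (fun _ : Unit => x) := by
    refine hind.isTranscendenceBasis_iff_isAlgebraic.2 ?_
    rw [Set.range_const]
    have : Algebra.IsAlgebraic (IntermediateField.adjoin k ({x} : Set K)) K :=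
      Algebra.IsAlgebraic.of_finite _ K
    exact IntermediateField.isAlgebraic_adjoin_iff_top.1 this
  obtain ⟨s, hs, hsep⟩ := exists_isTranscendenceBasis_and_isSeparable_of_perfectField k K
  have hcard : s.card = 1 := by simpa using hs.lift_cardinalMk_eq hbx
  obtain ⟨t, rfl⟩ := Finset.card_eq_one.1 hcard
  rw [Finset.coe_singleton] at hsep
  have ht : Transcendental k t := hs.1.transcendental ⟨t, Finset.mem_singleton_self t⟩
  exact ⟨t, ht, (FF30.FF.of_isFunctionField hK).finiteDimensional_adjoin ht, hsep⟩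

theorem exists_base (hK : IsFunctionField k K) :
    ∃ (t : K) (H : K →ₐ[k] PowerSeries K),
      Algebra.IsSeparable (IntermediateField.adjoin k ({t} : Set K)) K ∧ LocRes.IsHasseFamily t H := by
  obtain ⟨t, ht, hfin, hsep⟩ := isGeometric_data hK
  obtain ⟨H, hH⟩ := Exp31.exists_isHasseFamily t ht
  exact ⟨t, H, hsep, hH⟩

omit [IsAlgClosed k] in
/-- An element admitting a Hasse family is transcendental. -/
theorem transcendental_of_isHasseFamily (hK : IsFunctionField k K) {s : K}
    {H : K →ₐ[k] PowerSeries K} (hH : LocRes.IsHasseFamily s H) : Transcendental k s := by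
  refine fun halg => ?_
  obtain ⟨c, hc⟩ := hK.2 s halg
  have := Exp31.hasseD_one_self hH
  rw [← hc, Exp31.hasseD_one_algebraMap] at this
  exact zero_ne_one this

omit [IsAlgClosed k] in
theorem isSeparable_of_hasseD_ne_zero (hK : IsFunctionField k K) {t : K}
    {Ht : K →ₐ[k] PowerSeries K} [Algebra.IsSeparable (IntermediateField.adjoin k ({t} : Set K)) K]
    (hHt : LocRes.IsHasseFamily t Ht) {s : K} (hs : LocRes.hasseD Ht 1 s ≠ 0) :
    Transcendental k s ∧ Algebra.IsSeparable (IntermediateField.adjoin k ({s} : Set K)) K := by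
  have htr : Transcendental k s := fun halg => by
    obtain ⟨c, hc⟩ := hK.2 s halg
    rw [← hc, Exp31.hasseD_one_algebraMap] at hs
    exact hs rfl
  refine ⟨htr, ?_⟩
  have := (FF30.FF.of_isFunctionField hK).finiteDimensional_adjoin htr
  set M := IntermediateField.adjoin k ({s} : Set K)
  have : Algebra.FormallyUnramified M K := by
    have hder : ∀ z : K, KaehlerDifferential.D M K z = 0 := by
      let δ : Derivation k K Ω[K⁄M] := (KaehlerDifferential.D M K).restrictScalars k
      have h1 : ∀ z, δ z = LocRes.hasseD Ht 1 z • δ t := fun z =>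
        Exp31.derivation_eq_smul (k := k) hHt (RingHom.id K) δ.toLinearMap.toAddMonoidHom
          (fun a b => δ.leibniz a b) (fun c => δ.map_algebraMap c) z
      have h2 : δ s = 0 := (KaehlerDifferential.D M K).map_algebraMap
        ⟨s, IntermediateField.mem_adjoin_simple_self k s⟩
      rw [h1, smul_eq_zero] at h2
      intro z
      show δ z = 0
      rw [h1, h2.resolve_left hs, smul_zero]
    refine ⟨⟨fun a b => ?_⟩⟩
    have htop : (⊥ : Submodule K Ω[K⁄M]) = ⊤ := by
      rw [← KaehlerDifferential.span_range_derivation, eq_comm, Submodule.span_eq_bot]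
      rintro _ ⟨z, rfl⟩
      exact hder z
    rw [(Submodule.mem_bot K).1 (htop ▸ Submodule.mem_top : a ∈ (⊥ : Submodule K Ω[K⁄M])),
      (Submodule.mem_bot K).1 (htop ▸ Submodule.mem_top : b ∈ (⊥ : Submodule K Ω[K⁄M]))]
  exact Algebra.FormallyUnramified.isSeparable M K

/-- An element admitting a Hasse family is separating. -/
theorem isSeparable_of_isHasseFamily (hK : IsFunctionField k K) {s : K}
    {H : K →ₐ[k] PowerSeries K} (hH : LocRes.IsHasseFamily s H) :
    Algebra.IsSeparable (IntermediateField.adjoin k ({s} : Set K)) K := by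
  obtain ⟨t, Ht, hsep, hHt⟩ := exists_base hK
  refine (isSeparable_of_hasseD_ne_zero hK hHt fun h0 => ?_).2
  have h := Exp31.derivation_eq_smul (k := k) hHt (RingHom.id K)
    (AddMonoidHom.mk' (LocRes.hasseD H 1) fun a b => by simp only [LocRes.hasseD_apply, map_add])
    (fun a b => Exp31.hasseD_one_mul hH a b) (fun c => Exp31.hasseD_one_algebraMap c) s
  rw [h0, map_zero, zero_smul] at h
  exact one_ne_zero ((Exp31.hasseD_one_self hH).symm.trans h)

/-- A local parameter has a Hasse family. -/
theorem exists_hasse_param (hK : IsFunctionField k K) {P : Place k K} {t : K}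
    (ht : P.1 t = WithZero.exp (-1)) :
    ∃ H : K →ₐ[k] PowerSeries K, LocRes.IsHasseFamily t H := by
  obtain ⟨t₀, H₀, hsep, hH₀⟩ := exists_base hK
  have hr := Exp31.isRational_of_isAlgClosed hK P
  have hne : LocRes.hasseD H₀ 1 t ≠ 0 := by
    intro h0
    have h := Exp31.D_expansion (Exp31.expand hr ht) hH₀ t
    rw [h0, map_zero, zero_mul, Exp31.expand_param] at h
    have h1 := congrArg (fun f : LaurentSeries k => f.coeff 0) h
    simp at h1
  obtain ⟨htr, hsep'⟩ := isSeparable_of_hasseD_ne_zero hK hH₀ hne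
  have := (FF30.FF.of_isFunctionField hK).finiteDimensional_adjoin htr
  exact Exp31.exists_isHasseFamily t htr

end Separable

section Change

/-- The chain rule inside `K`. -/
theorem hasse_change {s t : K} [Algebra.IsAlgebraic (IntermediateField.adjoin k ({s} : Set K)) K]
    {Hs Ht : K →ₐ[k] PowerSeries K} (hs : LocRes.IsHasseFamily s Hs) (ht : LocRes.IsHasseFamily t Ht)
    (z : K) : Ht z = PowerSeries.subst (Ht s - PowerSeries.C s) (Hs z) := by
  have h0 : PowerSeries.constantCoeff (Ht s - PowerSeries.C s) = 0 := by simp [ht.2]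
  have ha := PowerSeries.HasSubst.of_constantCoeff_zero' h0
  let S : PowerSeries K →ₐ[K] PowerSeries K := PowerSeries.substAlgHom ha
  have hS : ∀ G, S G = PowerSeries.subst (Ht s - PowerSeries.C s) G := fun G => by
    rw [PowerSeries.coe_substAlgHom]
  have hC : ∀ c, S (PowerSeries.C c) = PowerSeries.C c := fun c => S.commutes c
  rw [← hS]
  refine DFunLike.congr_fun (Exp31.hom_ext_powerSeries (k := k) s Ht.toRingHom
    (S.toRingHom.comp Hs.toRingHom) ?_ ?_ ?_) z
  · intro c
    show Ht _ = S (Hs _)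
    rw [Ht.commutes, Hs.commutes, PowerSeries.algebraMap_apply, hC]
  · show Ht s = S (Hs s)
    rw [hs.1, map_add, hC, hS, PowerSeries.subst_X ha, add_sub_cancel]
  · intro w
    show PowerSeries.constantCoeff (Ht w) = PowerSeries.constantCoeff (S (Hs w))
    obtain ⟨G, hG⟩ := PowerSeries.X_dvd_iff.2
      (show PowerSeries.constantCoeff (Hs w - PowerSeries.C w) = 0 by simp [hs.2])
    rw [ht.2, sub_eq_iff_eq_add'.1 hG, map_add, map_mul, hC, hS PowerSeries.X, PowerSeries.subst_X ha,
      map_add, map_mul, h0, zero_mul, add_zero, PowerSeries.constantCoeff_C]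

theorem hasseD_change_sub_mem {s t : K} [Algebra.IsAlgebraic (IntermediateField.adjoin k ({s} : Set K)) K]
    {Hs Ht : K →ₐ[k] PowerSeries K} (hs : LocRes.IsHasseFamily s Hs) (ht : LocRes.IsHasseFamily t Ht)
    {ι : Type*} (τ : K →ₐ[k] K) (φ : ι → K) (j : ℕ) :
    hcol τ Ht φ (j + 1) - LocRes.hasseD Ht 1 s ^ j • hcol τ Hs φ (j + 1) ∈
      below K (hcol τ Hs φ) (j + 1) := by
  classical
  set u := Ht s - PowerSeries.C s
  have h0 : PowerSeries.constantCoeff u = 0 := by simp [u, ht.2]
  have ha := PowerSeries.HasSubst.of_constantCoeff_zero' h0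
  have hcoef : ∀ i : ι, LocRes.hasseD Ht j (φ i) =
      ∑ m ∈ Finset.range (j + 1), LocRes.hasseD Hs m (φ i) * PowerSeries.coeff j (u ^ m) := by
    intro i
    rw [LocRes.hasseD_apply, hasse_change hs ht, PowerSeries.coeff_subst' ha,
      finsum_eq_sum_of_support_subset _ (s := Finset.range (j + 1))]
    · rfl
    · intro d hd
      simp only [Finset.coe_range, Set.mem_Iio]
      by_contra hlt
      obtain ⟨G, hG⟩ := PowerSeries.X_dvd_iff.2 h0
      refine hd ?_
      simp only [hG, mul_pow, PowerSeries.coeff_X_pow_mul', if_neg (show ¬ d ≤ j by omega), smul_zero]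
  have hlead : PowerSeries.coeff j (u ^ j) = LocRes.hasseD Ht 1 s ^ j := by
    obtain ⟨G, hG⟩ := PowerSeries.X_dvd_iff.2 h0
    have h1 : PowerSeries.coeff 1 u = PowerSeries.constantCoeff G := by
      rw [hG, PowerSeries.coeff_succ_X_mul, PowerSeries.coeff_zero_eq_constantCoeff_apply]
    rw [show LocRes.hasseD Ht 1 s = PowerSeries.coeff 1 u by simp [u], h1,
      hG, mul_pow, PowerSeries.coeff_X_pow_mul', if_pos le_rfl, Nat.sub_self,
      PowerSeries.coeff_zero_eq_constantCoeff_apply, map_pow]
  have heq : hcol τ Ht φ (j + 1) - LocRes.hasseD Ht 1 s ^ j • hcol τ Hs φ (j + 1) =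
      ∑ m ∈ Finset.range j, PowerSeries.coeff j (u ^ m) • hcol τ Hs φ (m + 1) := by
    funext i
    simp only [hcol, Pi.sub_apply, Pi.smul_apply, smul_eq_mul, Finset.sum_apply, hcoef,
      Finset.sum_range_succ, hlead]
    rw [mul_comm (LocRes.hasseD Hs j (φ i)), add_sub_cancel_right]
    exact Finset.sum_congr rfl fun m _ => mul_comm _ _
  rw [heq]
  refine Submodule.sum_mem _ fun m hm => Submodule.smul_mem _ _ (mem_below_of_lt ?_)
  simp only [Finset.mem_range] at hm
  omega

theorem hcol_smul_sub_mem {s : K} {H : K →ₐ[k] PowerSeries K} (hH : LocRes.IsHasseFamily s H)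
    {ι : Type*} (τ : K →ₐ[k] K) (φ : ι → K) (y : K) (j : ℕ) :
    hcol τ H (y • φ) (j + 1) - y • hcol τ H φ (j + 1) ∈ below K (hcol τ H φ) (j + 1) := by
  classical
  have heq : hcol τ H (y • φ) (j + 1) - y • hcol τ H φ (j + 1) =
      ∑ m ∈ Finset.range j, LocRes.hasseD H (j - m) y • hcol τ H φ (m + 1) := by
    funext i
    simp only [hcol, Pi.sub_apply, Pi.smul_apply, smul_eq_mul, Finset.sum_apply]
    have : LocRes.hasseD H j (y * φ i) =
        ∑ m ∈ Finset.range (j + 1), LocRes.hasseD H (j - m) y * LocRes.hasseD H m (φ i) := by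
      rw [mul_comm y, LocRes.hasseD_apply, map_mul, PowerSeries.coeff_mul,
        Finset.Nat.sum_antidiagonal_eq_sum_range_succ_mk]
      exact Finset.sum_congr rfl fun m _ => mul_comm _ _
    rw [this, Finset.sum_range_succ, Nat.sub_self, hasseD_zero hH, add_sub_cancel_right]
  rw [heq]
  refine Submodule.sum_mem _ fun m hm => Submodule.smul_mem _ _ (mem_below_of_lt ?_)
  simp only [Finset.mem_range] at hm
  omega

end Change

section Apply

variable {n : ℕ} {φ : Fin (n + 1) → K} {τ : K →ₐ[k] K} {H : K →ₐ[k] PowerSeries K}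

theorem hcol_zero_ne (τ : K →ₐ[k] K) (H : K →ₐ[k] PowerSeries K) (hφ : LinearIndependent k φ) :
    hcol τ H φ 0 ≠ 0 := fun h => hφ.ne_zero 0 (by simpa [hcol] using congrFun h 0)

theorem wrMat_transpose (τ : K →ₐ[k] K) (H : K →ₐ[k] PowerSeries K) (φ : Fin (n + 1) → K)
    (I : Fin n → ℕ) :
    (wrMat τ H φ I).det = (Matrix.of fun c i => hcol τ H φ (selCol I c) i).det := by
  rw [← Matrix.det_transpose]
  congr 1
  refine Matrix.ext fun c i => ?_
  cases c using Fin.cases with
  | zero => rfl
  | succ l => rfl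

theorem linearIndependent_of_det (I : Fin n → ℕ) (h : (wrMat τ H φ I).det ≠ 0) :
    LinearIndependent K fun c => hcol τ H φ (selCol I c) := by
  rw [wrMat_transpose] at h
  exact (det_ne_zero_iff _).1 h

theorem det_ne_zero_of_isOrders (hφ : LinearIndependent k φ) {J : Fin n → ℕ}
    (hJ : IsOrders K (hcol τ H φ) J) : (wrMat τ H φ J).det ≠ 0 := by
  rw [wrMat_transpose]
  exact (det_ne_zero_iff _).2 (linearIndependent_selCol (hcol_zero_ne τ H hφ) hJ)

theorem det_of_triangular_cols {φ' : Fin (n + 1) → K} {τ' : K →ₐ[k] K} {H' : K →ₐ[k] PowerSeries K}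
    {a : ℕ → K} (h : ∀ j, hcol τ' H' φ' j - a j • hcol τ H φ j ∈ below K (hcol τ H φ) j)
    {J : Fin n → ℕ} (hJ : IsOrders K (hcol τ H φ) J) :
    (wrMat τ' H' φ' J).det = a 0 * (∏ l, a (J l + 1)) * (wrMat τ H φ J).det := by
  rw [wrMat_transpose, wrMat_transpose,
    det_of_triangular (fun c => hcol τ H φ (selCol J c)) (fun c => hcol τ' H' φ' (selCol J c))
      (fun c => a (selCol J c)) fun c => ?_]
  · rw [Fin.prod_univ_succ]; rfl
  · refine Submodule.span_mono ?_ (below_eq_span_selCol hJ _ (h (selCol J c)))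
    rintro _ ⟨i, hi, rfl⟩
    exact ⟨i, (strictMono_selCol hJ.1).lt_iff_lt.1 hi, rfl⟩

end Apply

section Existence

variable [IsAlgClosed k] {n : ℕ}

/-- The columns of Hasse derivatives have full rank. -/
theorem span_hcol_eq_top (hK : IsFunctionField k K) {φ : Fin (n + 1) → K}
    (hφ : LinearIndependent k φ) (τ : K →ₐ[k] K) {s : K} {H : K →ₐ[k] PowerSeries K}
    (hH : LocRes.IsHasseFamily s H) : Submodule.span K (Set.range (hcol τ H φ)) = ⊤ := by
  classical
  suffices hsuf : ∀ v : Fin (n + 1) → K, ∃ N, v ∈ below K (hcol (AlgHom.id k K) H φ) N by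
    rw [eq_top_iff]
    intro v _
    obtain ⟨N, hN⟩ := hsuf v
    refine Submodule.span_le.2 ?_ hN
    rintro _ ⟨i, -, rfl⟩
    cases i with
    | zero =>
      rw [show hcol (AlgHom.id k K) H φ 0 = hcol τ H φ 1 from (hcol_one hH τ φ).symm]
      exact Submodule.subset_span ⟨1, rfl⟩
    | succ i => exact Submodule.subset_span ⟨i + 1, rfl⟩
  obtain ⟨P⟩ := (FF30.FF.of_isFunctionField hK).nonempty_place
  obtain ⟨t, ht0, ht⟩ := FF30.exists_uniformizer P
  obtain ⟨Ht, hHt⟩ := exists_hasse_param hK ht
  obtain ⟨ψ, hψ⟩ := exists_localData hK ht hHt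
  -- normalise at `P`
  obtain ⟨j₀, -, hj₀⟩ := Finset.exists_max_image Finset.univ (fun i => P.1 (φ i)) Finset.univ_nonempty
  have hj0 : φ j₀ ≠ 0 := hφ.ne_zero j₀
  set y := (φ j₀)⁻¹
  have hy : y ≠ 0 := inv_ne_zero hj0
  have hφ' : LinearIndependent k (y • φ) :=
    hφ.map' (LinearMap.mulLeft k y) (LinearMap.ker_eq_bot.2 (mul_right_injective₀ hy))
  have hnorm : ∀ i, P.1 ((y • φ) i) ≤ 1 := fun i => by
    show P.1 (y * φ i) ≤ 1
    rw [map_mul, map_inv₀, ← div_eq_inv_mul, div_le_one₀ (zero_lt_iff.2 (FF30.val_ne_zero P hj0))]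
    exact hj₀ i (Finset.mem_univ i)
  have heff : (1 : K) ∈ Submodule.span k (Set.range (y • φ)) :=
    Submodule.subset_span ⟨j₀, show y * φ j₀ = 1 from inv_mul_cancel₀ hj0⟩
  obtain ⟨J, hJ⟩ := exists_isOrders (span_coefCol hψ hφ' hnorm) (n := n) (by simp)
    (coefCol_zero_ne hψ heff)
  have hpos : ∀ l, 0 < J l := fun l =>
    ((isJump_coefCol_iff hψ hnorm (J l)).1 ((hJ.2 _).1 ⟨l, rfl⟩)).1
  have hfix : IsFixedPt (AlgHom.id k K) P := fun z hz => hz
  have hdet : (wrMat (AlgHom.id k K) Ht (y • φ) J).det ≠ 0 := by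
    intro h0
    have h1 := ((wrMat_order hK hψ ht _ hfix hφ' heff hnorm hJ J).2 (Or.inl hpos)).2 (by
      rw [show binomMat k J J = Matrix.of fun r s => (((J r).choose (J s) : ℕ) : k) from rfl,
        Matrix.det_of_isLowerTriangular]
      · simp
      · intro i j hij
        have : i < j := hij
        simp [Nat.choose_eq_zero_of_lt (hJ.1 this)])
    rw [h0, map_zero] at h1
    exact WithZero.exp_ne_zero h1.symm
  have htop : Submodule.span K (Set.range fun c => hcol (AlgHom.id k K) Ht (y • φ) (selCol J c)) = ⊤ :=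
    (linearIndependent_of_det J hdet).span_eq_top_of_card_eq_finrank (by simp)
  -- back to `s` and `φ`
  have := (FF30.FF.of_isFunctionField hK).finiteDimensional_adjoin (transcendental_of_isHasseFamily hK hH)
  have : Algebra.IsAlgebraic (IntermediateField.adjoin k ({s} : Set K)) K :=
    Algebra.IsAlgebraic.of_finite _ K
  have hle : ∀ m, hcol (AlgHom.id k K) Ht (y • φ) m ∈ below K (hcol (AlgHom.id k K) H φ) (m + 2) := by
    have hφm : ∀ m, hcol (AlgHom.id k K) Ht φ (m + 1) ∈ below K (hcol (AlgHom.id k K) H φ) (m + 2) := by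
      intro m
      have h := hasseD_change_sub_mem hH hHt (AlgHom.id k K) φ m
      rw [← sub_add_cancel (hcol (AlgHom.id k K) Ht φ (m + 1))
        (LocRes.hasseD Ht 1 s ^ m • hcol (AlgHom.id k K) H φ (m + 1))]
      exact add_mem (below_mono (by omega) h) (Submodule.smul_mem _ _ (mem_below_of_lt (by omega)))
    intro m
    cases m with
    | zero =>
      rw [show hcol (AlgHom.id k K) Ht (y • φ) 0 = y • φ from rfl]
      refine Submodule.smul_mem _ _ ?_
      exact mem_below_of_lt (c := hcol (AlgHom.id k K) H φ) (i := 0) (by omega)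
    | succ m =>
      have h := hcol_smul_sub_mem hHt (AlgHom.id k K) φ y m
      rw [← sub_add_cancel (hcol (AlgHom.id k K) Ht (y • φ) (m + 1))
        (y • hcol (AlgHom.id k K) Ht φ (m + 1))]
      refine add_mem ?_ (Submodule.smul_mem _ _ (below_mono (by omega) (hφm m)))
      refine Submodule.span_le.2 ?_ h
      rintro _ ⟨i, hi, rfl⟩
      simp only [Set.mem_Iio] at hi
      cases i with
      | zero => exact mem_below_of_lt (c := hcol (AlgHom.id k K) H φ) (i := 0) (by omega)
      | succ i => exact below_mono (by omega) (hφm i)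
  intro v
  refine ⟨(Finset.univ.sup fun c => selCol J c) + 2, ?_⟩
  have hv : v ∈ (⊤ : Submodule K (Fin (n + 1) → K)) := Submodule.mem_top
  rw [← htop] at hv
  refine Submodule.span_le.2 ?_ hv
  rintro _ ⟨c, rfl⟩
  exact below_mono (by have := Finset.le_sup (f := fun c => selCol J c) (Finset.mem_univ c); omega)
    (hle (selCol J c))

theorem exists_orders (hK : IsFunctionField k K) {φ : Fin (n + 1) → K}
    (hφ : LinearIndependent k φ) (τ : K →ₐ[k] K) {s : K} {H : K →ₐ[k] PowerSeries K}
    (hH : LocRes.IsHasseFamily s H) : ∃ J : Fin n → ℕ, IsOrders K (hcol τ H φ) J :=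
  exists_isOrders (span_hcol_eq_top hK hφ τ hH) (by simp) (hcol_zero_ne τ H hφ)

end Existence

end Groth.Agent.SV31
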