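import Mathlib.FieldTheory.Minpoly.MinpolyDiv
import Mathlib.RingTheory.Trace.Basic
import Mathlib.FieldTheory.IsAlgClosed.AlgebraicClosure
import Groth.Agent.Res31.Global
import Groth.Agent.SV31.Deg
import Groth.Agent.FF30.ResVal

/-! The codifferent of a monogenic order and integrality of traces. -/

namespace Groth.Agent.SV31

open FunFld WithZero Polynomial
open scoped LaurentSeries

section Euler

variable {E L : Type*} [Field E] [Field L] [Algebra E L] [FiniteDimensional E L]
  [Algebra.IsSeparable E L]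

/-- Euler's identity for the trace dual of the powers of a generator. -/
theorem mul_deriv_eq_sum_trace {y : L} (hy : Algebra.adjoin E ({y} : Set L) = ⊤) (u : L) :
    u * aeval y (derivative (minpoly E y)) =
      ∑ i ∈ Finset.range (Module.finrank E L),
        Algebra.trace E L (u * y ^ i) • (minpolyDiv E y).coeff i := by
  classical
  set d := Module.finrank E L
  set g' := aeval y (derivative (minpoly E y)) with hg'
  have hg0 : g' ≠ 0 := (Algebra.IsSeparable.isSeparable E y).aeval_derivative_ne_zero (minpoly.aeval _ _)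
  have hdual : ∀ r < d, ∀ i, Algebra.trace E L ((y ^ r / g') * (minpolyDiv E y).coeff i) =
      if i = r then 1 else 0 := by
    intro r hr i
    apply (algebraMap E (AlgebraicClosure E)).injective
    rw [trace_eq_sum_embeddings (AlgebraicClosure E)]
    have h := congrArg (fun p => Polynomial.coeff p i)
      (sum_smul_minpolyDiv_eq_X_pow (AlgebraicClosure E) hy hr)
    simp only [finsetSum_coeff, coeff_map, coeff_smul, smul_eq_mul, coeff_X_pow] at h
    split_ifs at h ⊢ with hir
    · rw [map_one]; exact h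
    · rw [map_zero]; exact h
  set u' := ∑ i ∈ Finset.range d, Algebra.trace E L (u * y ^ i) • ((minpolyDiv E y).coeff i / g') with hu'
  suffices hu : u = u' by
    conv_lhs => rw [hu, hu', Finset.sum_mul]
    refine Finset.sum_congr rfl fun i _ => ?_
    rw [smul_mul_assoc, div_mul_cancel₀ _ hg0]
  have key : ∀ r < d, Algebra.trace E L (u' * y ^ r) = Algebra.trace E L (u * y ^ r) := fun r hr => by
    rw [hu', Finset.sum_mul, map_sum, Finset.sum_eq_single r]
    · rw [smul_mul_assoc, map_smul, show (minpolyDiv E y).coeff r / g' * y ^ r =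
        y ^ r / g' * (minpolyDiv E y).coeff r by ring, hdual r hr, if_pos rfl, smul_eq_mul, mul_one]
    · intro i _ hi
      rw [smul_mul_assoc, map_smul, show (minpolyDiv E y).coeff i / g' * y ^ r =
        y ^ r / g' * (minpolyDiv E y).coeff i by ring, hdual r hr, if_neg hi, smul_zero]
    · intro h; exact absurd (Finset.mem_range.2 hr) h
  have hspan : Submodule.span E ((Finset.range (minpoly E y).natDegree).image (y ^ ·) : Set L) = ⊤ := by
    rw [Submodule.span_range_natDegree_eq_adjoin (minpoly.monic (Algebra.IsIntegral.isIntegral y))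
      (minpoly.aeval _ _), hy, Algebra.top_toSubmodule]
  rw [← sub_eq_zero]
  refine (traceForm_nondegenerate E L).1 (u - u') fun z => ?_
  have hz : z ∈ Submodule.span E ((Finset.range (minpoly E y).natDegree).image (y ^ ·) : Set L) :=
    hspan ▸ Submodule.mem_top
  induction hz using Submodule.span_induction with
  | mem z hz =>
    simp only [Finset.coe_image, Set.mem_image, Finset.coe_range, Set.mem_Iio] at hz
    obtain ⟨r, hr, rfl⟩ := hz
    rw [Algebra.traceForm_apply, sub_mul, map_sub, key r (hr.trans_le (minpoly.natDegree_le y)), sub_self]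
  | zero => simp
  | add a b _ _ ha hb => rw [map_add, ha, hb, add_zero]
  | smul c a _ ha => rw [map_smul, ha, smul_zero]

end Euler

universe u v

variable {k : Type u} {K : Type v} [Field k] [Field K] [Algebra k K] [IsAlgClosed k]

/-- The local parameter `t - a` of a place of a rational field `k(t)`. -/
theorem ord_sub_const_of_rational (hK : IsFunctionField k K) {t : K}
    (htop : IntermediateField.adjoin k ({t} : Set K) = ⊤) (P : Place k K) (ht : P.1 t ≤ 1)
    {a : k} (ha : P.1 (t - algebraMap k K a) < 1) : P.1 (t - algebraMap k K a) = exp (-1) := by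
  obtain ⟨z, -, hz⟩ := FF30.exists_uniformizer P
  obtain ⟨p, hp⟩ := Res31.exists_poly_unif P hz ht (htop ▸ IntermediateField.mem_top)
  have hp0 : p ≠ 0 := by rintro rfl; rw [map_zero, map_zero] at hp; exact exp_ne_zero hp.symm
  obtain ⟨q, hpq, hq⟩ := p.exists_eq_pow_rootMultiplicity_mul_and_not_dvd hp0 a
  have hqa : q.eval a ≠ 0 := fun h => hq (dvd_iff_isRoot.2 h)
  obtain ⟨r, hr⟩ := X_sub_C_dvd_sub_C_eval (p := q) (a := a)
  have hle : ∀ g : k[X], P.1 (aeval t g) ≤ 1 := fun g => by
    rw [aeval_eq_sum_range]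
    refine P.1.map_sum_le fun i _ => ?_
    rw [Algebra.smul_def, map_mul, map_pow]
    exact mul_le_one' (P.2.1 _) (pow_le_one₀ zero_le ht)
  have hv1 : P.1 (aeval t q) = 1 := by
    rw [show aeval t q = aeval t (q - C (q.eval a)) + algebraMap k K (q.eval a) by
      rw [map_sub, aeval_C, sub_add_cancel], P.1.map_add_eq_of_lt_right, FF30.val_algebraMap P hqa]
    rw [FF30.val_algebraMap P hqa, hr, map_mul, map_mul, map_sub, aeval_X, aeval_C]
    exact (mul_le_of_le_one_right' (hle r)).trans_lt ha
  rw [hpq, map_mul, map_mul, map_pow, map_pow, hv1, mul_one, map_sub, aeval_X, aeval_C] at hp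
  have hne : t - algebraMap k K a ≠ 0 := fun h => by
    rw [h, map_zero] at hp
    rcases Nat.eq_zero_or_pos (rootMultiplicity a p) with h0 | h0
    · rw [h0, pow_zero, ← exp_zero, exp_inj] at hp; omega
    · rw [zero_pow h0.ne'] at hp; exact exp_ne_zero hp.symm
  rw [FF30.val_eq P hne, ← exp_nsmul, exp_inj, nsmul_eq_mul] at hp
  have hpos := (FF30.val_lt_one_iff P hne).1 ha
  rw [FF30.val_eq P hne, exp_inj]
  have h2 := Int.eq_one_of_mul_eq_one_left (show (0 : ℤ) ≤ P.ord (t - algebraMap k K a) by omega)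
    (show (rootMultiplicity a p : ℤ) * P.ord (t - algebraMap k K a) = 1 by linarith)
  omega

variable {E : Type v} [Field E] [Algebra k E] [Algebra E K] [IsScalarTower k E K]
  [FiniteDimensional E K] [Algebra.IsSeparable E K]

/-- Traces of elements without poles against a differential without poles are integral. -/
theorem trace_le_one (hE : IsFunctionField k E) {P : Place k E} {t : E}
    {φ : E →ₐ[k] k⸨X⸩} (hφ : LocRes.IsExpansionAt P.1 φ) (htv : Valued.v (LocRes.D k (φ t)) = 1)
    {ψ : Place k K → (K →ₐ[k] k⸨X⸩)} (hψ : ∀ Q : Place k K, LocRes.IsExpansionAt Q.1 (ψ Q)) {z : K}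
    (hz : ∀ Q : Place k K, IsOver Q P →
      Valued.v (ψ Q z * LocRes.D k (ψ Q (algebraMap E K t))) ≤ 1) :
    P.1 (Algebra.trace E K z) ≤ 1 := by
  classical
  set τ := Algebra.trace E K z with hτdef
  by_contra hgt
  rw [not_le] at hgt
  have hτ0 : τ ≠ 0 := fun h => by rw [h, map_zero] at hgt; exact not_lt_zero' hgt
  have hn : P.ord τ < 0 := (FF30.one_lt_val_iff P).1 hgt
  obtain ⟨π, hπ0, hπ⟩ := FF30.exists_uniformizer P
  set m := (-P.ord τ - 1).toNat with hm
  set c := π ^ m
  have hcτ : Valued.v (φ (c * τ) * LocRes.D k (φ t)) = exp (-(-1 : ℤ)) := by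
    rw [map_mul, hφ.1, htv, mul_one, map_mul, map_pow, hπ, FF30.val_eq P hτ0, ← exp_nsmul, ← exp_add,
      nsmul_eq_mul]
    congr 1
    omega
  have hF : FF30.FF k E := hE.1
  set Qs := (hF.finite_setOf_isOver (K' := K) P).toFinset
  have hQs : ∀ Q, Q ∈ Qs ↔ IsOver Q P := fun Q => (hF.finite_setOf_isOver P).mem_toFinset
  have h := Res31.trace_formula hE P hφ Qs hQs (F' := fun _ => k) (ψ := ψ) (fun Q _ => hψ Q)
    (algebraMap E K c * z) t
  rw [← Algebra.smul_def, map_smul, smul_eq_mul, ← hτdef] at h
  refine Exp31.coeff_ne_zero_of_val_eq hcτ ?_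
  have h2 : LocRes.locRes φ (c * τ) t = (φ (c * τ) * LocRes.D k (φ t)).coeff (-1) :=
    Algebra.trace_self_apply _
  rw [← h2, h]
  refine Finset.sum_eq_zero fun Q hQ => ?_
  show Algebra.trace k k ((ψ Q (c • z) * LocRes.D k (ψ Q (algebraMap E K t))).coeff (-1)) = 0
  rw [(Exp31.val_le_iff (e := 0)).1 ?_ (-1) (by omega), map_zero]
  have hQ' := FF30.isOverWith_ramIdx ((hQs Q).1 hQ)
  rw [neg_zero, exp_zero, map_mul, Algebra.smul_def, map_mul, map_mul, mul_assoc, ← map_mul Valued.v (ψ Q z)]
  refine mul_le_one' ?_ (hz Q ((hQs Q).1 hQ))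
  rw [(hψ Q).1, FF30.isOverWith_le_one_iff hQ', map_pow, hπ]
  exact pow_le_one₀ zero_le (by rw [← exp_zero, exp_le_exp]; omega)

end Groth.Agent.SV31
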