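import Groth.Prelude.Def_W4bk4goldsch45p2
import Mathlib.LinearAlgebra.Dimension.Constructions
import Mathlib.LinearAlgebra.FiniteDimensional.Lemmas
import Mathlib.LinearAlgebra.Dual.Lemmas
import Mathlib.LinearAlgebra.Matrix.Block
import Mathlib.LinearAlgebra.Matrix.NonsingularInverse
import Mathlib.LinearAlgebra.Matrix.ToLin
import Mathlib.Data.Finset.Sort

/-! Jump indices of a sequence of vectors. -/

namespace Groth.Agent.SV31

open FunFld Module Submodule

variable {R : Type*} [Field R] {M : Type*} [AddCommGroup M] [Module R M]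
variable {c c' : ℕ → M}

/-- The span of the vectors of index less than `N`. -/
def below (R : Type*) {M : Type*} [Semiring R] [AddCommMonoid M] [Module R M] (c : ℕ → M) (N : ℕ) :
    Submodule R M :=
  span R (c '' Set.Iio N)

theorem below_zero : below R c 0 = ⊥ := by
  rw [below, show Set.Iio 0 = (∅ : Set ℕ) by ext; simp, Set.image_empty, span_empty]

theorem below_succ (N : ℕ) : below R c (N + 1) = below R c N ⊔ span R {c N} := by
  rw [below, below, ← span_union]
  congr 1
  rw [show Set.Iio (N + 1) = Set.Iio N ∪ {N} by ext i; simp, Set.image_union, Set.image_singleton]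

theorem mem_below_of_lt {i N : ℕ} (h : i < N) : c i ∈ below R c N :=
  subset_span ⟨i, h, rfl⟩

theorem below_mono {N N' : ℕ} (h : N ≤ N') : below R c N ≤ below R c N' :=
  span_mono (Set.image_mono (Set.Iio_subset_Iio h))

theorem isJump_iff {j : ℕ} : IsJump R c j ↔ below R c (j + 1) ≠ below R c j := by
  rw [below_succ, ne_eq, sup_eq_left, span_singleton_le_iff_mem]
  rfl

theorem finite_below (N : ℕ) : FiniteDimensional R ↥(below R c N) :=
  Module.Finite.span_of_finite R ((Set.finite_Iio N).image c)

theorem not_isJump_iff {j : ℕ} : ¬ IsJump R c j ↔ c j ∈ below R c j := not_not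

theorem finrank_below_succ (j : ℕ) [Decidable (IsJump R c j)] :
    finrank R ↥(below R c (j + 1)) = finrank R ↥(below R c j) + if IsJump R c j then 1 else 0 := by
  have h1 := finite_below (R := R) (c := c) j
  have h2 := finite_below (R := R) (c := c) (j + 1)
  split_ifs with h
  · have hlt : finrank R ↥(below R c j) < finrank R ↥(below R c (j + 1)) :=
      finrank_lt_finrank_of_lt (lt_of_le_of_ne (below_mono (by omega)) (isJump_iff.1 h).symm)
    have hle : finrank R ↥(below R c (j + 1)) ≤ finrank R ↥(below R c j) + 1 := by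
      rw [below_succ]
      refine (finrank_add_le_finrank_add_finrank _ _).trans (Nat.add_le_add_left ?_ _)
      exact (finrank_span_le_card ({c j} : Set M)).trans (by simp)
    omega
  · rw [show below R c (j + 1) = below R c j from not_not.1 (mt isJump_iff.2 h)]
    rfl

/-- The jumps below `N`. -/
noncomputable def jumpSet (R : Type*) {M : Type*} [Semiring R] [AddCommMonoid M] [Module R M]
    (c : ℕ → M) (N : ℕ) : Finset ℕ :=
  open scoped Classical in (Finset.range N).filter fun j => IsJump R c j

theorem mem_jumpSet {N j : ℕ} : j ∈ jumpSet R c N ↔ j < N ∧ IsJump R c j := by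
  simp [jumpSet]

theorem card_jumpSet (N : ℕ) : (jumpSet R c N).card = finrank R ↥(below R c N) := by
  classical
  induction N with
  | zero => rw [below_zero, finrank_bot]; simp [jumpSet]
  | succ N ih =>
    rw [finrank_below_succ, ← ih]
    simp only [jumpSet, Finset.range_add_one, Finset.filter_insert]
    split_ifs with h
    · rw [Finset.card_insert_of_notMem (by simp)]
    · rfl

theorem below_eq_span_jumps (N : ℕ) : below R c N = span R (c '' (jumpSet R c N : Set ℕ)) := by
  classical
  induction N with
  | zero => simp [jumpSet, below_zero]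
  | succ N ih =>
    rw [below_succ, ih]
    simp only [jumpSet, Finset.range_add_one, Finset.filter_insert]
    split_ifs with h
    · rw [Finset.coe_insert, Set.image_insert_eq, span_insert, sup_comm]
    · exact sup_eq_left.2 (span_singleton_le_iff_mem _ _ |>.2 (by
        have := not_isJump_iff.1 h
        rwa [ih] at this))

theorem exists_below_eq_top [FiniteDimensional R M] (htop : span R (Set.range c) = ⊤) :
    ∃ N, below R c N = ⊤ := by
  classical
  obtain ⟨s, hs⟩ := IsNoetherian.noetherian (⊤ : Submodule R M)
  have hmem : ∀ v : M, ∃ N, v ∈ below R c N := by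
    intro v
    have hv : v ∈ span R (Set.range c) := htop ▸ Submodule.mem_top
    induction hv using Submodule.span_induction with
    | mem w hw =>
      obtain ⟨i, rfl⟩ := hw
      exact ⟨i + 1, mem_below_of_lt (Nat.lt_succ_self i)⟩
    | zero => exact ⟨0, zero_mem _⟩
    | add a b _ _ ha hb =>
      obtain ⟨⟨m, hm⟩, n, hn⟩ := And.intro ha hb
      exact ⟨max m n, add_mem (below_mono (le_max_left m n) hm) (below_mono (le_max_right m n) hn)⟩
    | smul r a _ ha => obtain ⟨m, hm⟩ := ha; exact ⟨m, smul_mem _ r hm⟩
  choose f hf using hmem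
  refine ⟨s.sup f, eq_top_iff.2 ?_⟩
  rw [← hs, span_le]
  exact fun v hv => below_mono (Finset.le_sup hv) (hf v)

theorem exists_forall_not_isJump [FiniteDimensional R M] (htop : span R (Set.range c) = ⊤) :
    ∃ N, below R c N = ⊤ ∧ ∀ j, IsJump R c j → j < N := by
  obtain ⟨N, hN⟩ := exists_below_eq_top htop
  refine ⟨N, hN, fun j hj => ?_⟩
  by_contra hle
  push Not at hle
  exact hj (below_mono hle (hN ▸ Submodule.mem_top))

/-- If the vectors span, the order sequence exists: there is one fewer than the dimension when
column `0` is a jump. -/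
theorem exists_isOrders [FiniteDimensional R M] (htop : span R (Set.range c) = ⊤) {n : ℕ}
    (hn : finrank R M = n + 1) (h0 : c 0 ≠ 0) :
    ∃ J : Fin n → ℕ, IsOrders R c J := by
  classical
  obtain ⟨N, hN, hlt⟩ := exists_forall_not_isJump htop
  have hj0 : IsJump R c 0 := by simp [IsJump, h0]
  have hcard : (jumpSet R c N).card = n + 1 := by rw [card_jumpSet, hN, finrank_top, hn]
  set S := ((jumpSet R c N).erase 0).image (fun j => j - 1)
  have hS : ∀ j, j ∈ S ↔ IsJump R c (j + 1) := by
    intro j
    simp only [S, Finset.mem_image, Finset.mem_erase, mem_jumpSet]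
    constructor
    · rintro ⟨a, ⟨ha, -, hj⟩, rfl⟩
      rwa [Nat.sub_add_cancel (Nat.one_le_iff_ne_zero.2 ha)]
    · intro hj
      exact ⟨j + 1, ⟨by omega, hlt _ hj, hj⟩, rfl⟩
  have hSc : S.card = n := by
    rw [Finset.card_image_of_injOn, Finset.card_erase_of_mem (mem_jumpSet.2 ⟨hlt 0 hj0, hj0⟩), hcard]
    · rfl
    · intro a ha b hb hab
      simp only [Finset.coe_erase, Set.mem_sdiff, Set.mem_singleton_iff] at ha hb
      simp only at hab
      omega
  refine ⟨fun l => S.orderEmbOfFin hSc l, (S.orderEmbOfFin hSc).strictMono, fun j => ?_⟩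
  rw [← hS, show (fun l => S.orderEmbOfFin hSc l) = ⇑(S.orderEmbOfFin hSc) from rfl,
    Finset.range_orderEmbOfFin]
  rfl

theorem isOrders_unique {n : ℕ} {J J' : Fin n → ℕ} (h : IsOrders R c J) (h' : IsOrders R c J') :
    J = J' :=
  (h.1.range_inj h'.1).1 (Set.ext fun j => (h.2 j).trans (h'.2 j).symm)

theorem isOrders_congr (h : ∀ j, IsJump R c (j + 1) ↔ IsJump R c' (j + 1)) {n : ℕ} (J : Fin n → ℕ) :
    IsOrders R c J ↔ IsOrders R c' J := by
  simp only [IsOrders, h]

theorem isJump_congr_of_below (h : ∀ N, below R c N = below R c' N) (j : ℕ) :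
    IsJump R c j ↔ IsJump R c' j := by rw [isJump_iff, isJump_iff, h, h]

theorem isJump_map {M' : Type*} [AddCommGroup M'] [Module R M'] (f : M →ₗ[R] M')
    (hf : Function.Injective f) (j : ℕ) : IsJump R (fun i => f (c i)) j ↔ IsJump R c j := by
  rw [IsJump, IsJump, show (fun i => f (c i)) '' Set.Iio j = f '' (c '' Set.Iio j) by
    rw [Set.image_image], ← Submodule.map_span]
  exact not_congr ⟨fun h => by obtain ⟨w, hw, he⟩ := h; rwa [← hf he], fun h => mem_map_of_mem h⟩

/-- Invertible triangular changes of the columns do not change the spans. -/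
theorem below_eq_of_triangular {a : ℕ → R} (ha : ∀ j, a j ≠ 0)
    (h : ∀ j, c' j - a j • c j ∈ below R c j) (N : ℕ) : below R c' N = below R c N := by
  induction N with
  | zero => simp [below_zero]
  | succ N ih =>
    have hN := h N
    rw [below_succ, below_succ, ih]
    apply le_antisymm <;> refine sup_le le_sup_left ((span_singleton_le_iff_mem _ _).2 ?_)
    · rw [← sub_add_cancel (c' N) (a N • c N)]
      exact add_mem (mem_sup_left hN) (mem_sup_right (smul_mem _ _ (mem_span_singleton_self _)))
    · have h1 : a N • c N ∈ below R c N ⊔ span R {c' N} := by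
        rw [show a N • c N = -(c' N - a N • c N) + c' N by abel]
        exact add_mem (mem_sup_left (neg_mem hN)) (mem_sup_right (mem_span_singleton_self _))
      simpa [smul_smul, inv_mul_cancel₀ (ha N)] using smul_mem _ (a N)⁻¹ h1

theorem isJump_of_triangular {a : ℕ → R} (ha : ∀ j, a j ≠ 0)
    (h : ∀ j, c' j - a j • c j ∈ below R c j) (j : ℕ) : IsJump R c' j ↔ IsJump R c j :=
  isJump_congr_of_below (below_eq_of_triangular ha h) j

section Orders

variable {n : ℕ} {J : Fin n → ℕ}

/-- The selected columns: the leading one and those of the orders. -/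
def selCol (J : Fin n → ℕ) : Fin (n + 1) → ℕ := Fin.cons 0 fun l => J l + 1

@[simp] theorem selCol_zero (J : Fin n → ℕ) : selCol J 0 = 0 := rfl
@[simp] theorem selCol_succ (J : Fin n → ℕ) (l : Fin n) : selCol J l.succ = J l + 1 := rfl

theorem strictMono_selCol (hJ : StrictMono J) : StrictMono (selCol J) := by
  refine Fin.strictMono_iff_lt_succ.2 fun i => ?_
  rw [selCol_succ]
  rcases Fin.eq_zero_or_eq_succ i.castSucc with h | ⟨j, hj⟩
  · rw [h, selCol_zero]; omega
  · rw [hj, selCol_succ]
    have : (j : ℕ) < i := by
      have := congrArg Fin.val hj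
      simp only [Fin.val_castSucc, Fin.val_succ] at this
      omega
    exact Nat.add_lt_add_right (hJ this) 1

theorem linearIndependent_of_below [FiniteDimensional R M] {m : ℕ} {s : Fin m → ℕ}
    (hs : StrictMono s) (h : ∀ i, IsJump R c (s i)) :
    LinearIndependent R fun i => c (s i) := by
  induction m with
  | zero => exact linearIndependent_empty_type
  | succ m ih =>
    rw [linearIndependent_finSucc']
    refine ⟨ih (hs.comp (Fin.strictMono_castSucc)) fun i => h _, fun hmem => h (Fin.last m) ?_⟩
    refine span_mono ?_ hmem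
    rintro _ ⟨i, rfl⟩
    exact ⟨s i.castSucc, hs (Fin.castSucc_lt_last i), rfl⟩

theorem isJump_selCol (h0 : c 0 ≠ 0) (hJ : IsOrders R c J) (i : Fin (n + 1)) :
    IsJump R c (selCol J i) := by
  cases i using Fin.cases with
  | zero => simp [IsJump, h0]
  | succ l => rw [selCol_succ]; exact (hJ.2 (J l)).1 ⟨l, rfl⟩

theorem linearIndependent_selCol [FiniteDimensional R M] (h0 : c 0 ≠ 0) (hJ : IsOrders R c J) :
    LinearIndependent R fun i => c (selCol J i) :=
  linearIndependent_of_below (strictMono_selCol hJ.1) (isJump_selCol h0 hJ)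

theorem below_eq_span_selCol (hJ : IsOrders R c J) (N : ℕ) :
    below R c N ≤ span R ((fun i => c (selCol J i)) '' {i | selCol J i < N}) := by
  rw [below_eq_span_jumps]
  refine span_mono ?_
  rintro _ ⟨j, hj, rfl⟩
  obtain ⟨hjN, hjj⟩ := mem_jumpSet.1 hj
  cases j with
  | zero => exact ⟨0, hjN, rfl⟩
  | succ j =>
    obtain ⟨l, rfl⟩ := (hJ.2 j).2 hjj
    exact ⟨l.succ, hjN, rfl⟩

theorem orders_le [FiniteDimensional R M] (hJ : IsOrders R c J) {J' : Fin n → ℕ} (hJ' : StrictMono J')
    (hli : LinearIndependent R fun i => c (selCol J' i)) (l : Fin n) : J l ≤ J' l := by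
  classical
  by_contra hlt
  push Not at hlt
  set N := J' l + 2
  -- at least `l + 2` independent columns, at most `l + 1` jumps
  have h1 : (l : ℕ) + 2 ≤ finrank R ↥(below R c N) := by
    let g : Fin ((l : ℕ) + 2) → Fin (n + 1) := Fin.castLE (by omega)
    have hg : ∀ i, c (selCol J' (g i)) ∈ below R c N := fun i => mem_below_of_lt (by
      have h : selCol J' (g i) ≤ selCol J' l.succ := (strictMono_selCol hJ').monotone (by
        rw [Fin.le_def]; have := i.isLt; simp [g]; omega)
      rw [selCol_succ] at h; omega)
    have hli' : LinearIndependent R fun i => (⟨_, hg i⟩ : below R c N) :=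
      LinearIndependent.of_comp (below R c N).subtype (hli.comp g (Fin.castLE_injective _))
    have := finite_below (R := R) (c := c) N
    simpa using hli'.fintype_card_le_finrank
  have h2 : (jumpSet R c N).card ≤ (l : ℕ) + 1 := by
    have hsub : jumpSet R c N ⊆ ((Finset.univ : Finset (Fin ((l : ℕ) + 1))).image
        fun i => selCol J (Fin.castLE (by omega) i)) := by
      intro j hj
      obtain ⟨hjN, hjj⟩ := mem_jumpSet.1 hj
      simp only [Finset.mem_image, Finset.mem_univ, true_and]
      cases j with
      | zero => exact ⟨0, rfl⟩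
      | succ j =>
        obtain ⟨l', rfl⟩ := (hJ.2 j).2 hjj
        have : (l' : ℕ) < l := by
          by_contra hle
          push Not at hle
          have := hJ.1.monotone (show l ≤ l' from hle)
          omega
        exact ⟨⟨(l' : ℕ) + 1, by omega⟩, rfl⟩
    exact (Finset.card_le_card hsub).trans (Finset.card_image_le.trans (by simp))
  rw [card_jumpSet] at h2
  omega

end Orders

section Det

variable {m : ℕ}

/-- Determinant of a family obtained by an invertible triangular change. -/
theorem det_of_triangular (v v' : Fin m → Fin m → R) (a : Fin m → R)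
    (h : ∀ l, v' l - a l • v l ∈ span R (v '' Set.Iio l)) :
    (Matrix.of v').det = (∏ l, a l) * (Matrix.of v).det := by
  classical
  have hc : ∀ l, ∃ u : Fin m → R, (∀ i, l ≤ i → u i = 0) ∧ v' l - a l • v l = ∑ i, u i • v i := by
    intro l
    have hl := h l
    rw [Finsupp.mem_span_image_iff_linearCombination] at hl
    obtain ⟨u, hu, he⟩ := hl
    refine ⟨u, fun i hi => ?_, ?_⟩
    · by_contra hne
      exact absurd (Finsupp.mem_supported _ _ |>.1 hu (Finsupp.mem_support_iff.2 hne)) (not_lt.2 hi)
    · rw [← he, Finsupp.linearCombination_apply, Finsupp.sum_fintype]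
      simp
  choose u hu he using hc
  let U : Matrix (Fin m) (Fin m) R := Matrix.of fun l i => (if i = l then a l else 0) + u l i
  have hU : Matrix.of v' = U * Matrix.of v := by
    ext l s
    have := congrFun (he l) s
    simp only [Pi.sub_apply, Pi.smul_apply, smul_eq_mul, Finset.sum_apply] at this
    simp only [U, Matrix.mul_apply, Matrix.of_apply, add_mul, Finset.sum_add_distrib, ite_mul,
      zero_mul, Finset.sum_ite_eq', Finset.mem_univ, if_true]
    linear_combination this
  rw [hU, Matrix.det_mul, Matrix.det_of_isLowerTriangular U]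
  · refine congrArg (· * _) (Finset.prod_congr rfl fun l _ => ?_)
    simp [U, hu l l le_rfl]
  · intro i j hij
    have hij' : i < j := hij
    simp [U, hij'.ne', hu i j hij'.le]

theorem det_ne_zero_iff (v : Fin m → Fin m → R) :
    (Matrix.of v).det ≠ 0 ↔ LinearIndependent R v := by
  rw [← isUnit_iff_ne_zero, ← Matrix.isUnit_iff_isUnit_det, ← Matrix.linearIndependent_rows_iff_isUnit]
  rfl

end Det

end Groth.Agent.SV31
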