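import Groth.Agent.SV31.Jumps
import Groth.Agent.Exp31.Good
import Groth.Agent.LLS31.GenusOne

/-! Order sequences at a place, read off an expansion in a local parameter. -/

namespace Groth.Agent.SV31

open FunFld WithZero
open scoped LaurentSeries

variable {k K : Type*} [Field k] [Field K] [Algebra k K]

/-- `ψ` is an expansion at `P` in which `t` is the variable, `H` its Hasse family. -/
structure IsLocalData (P : Place k K) (t : K) (H : K →ₐ[k] PowerSeries K) (ψ : K →ₐ[k] k⸨X⸩) :
    Prop where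
  expansion : LocRes.IsExpansionAt P.1 ψ
  param : ψ t = HahnSeries.single 1 1
  hasse : LocRes.IsHasseFamily t H
  deriv : ∀ (j : ℕ) (z : K), ψ (LocRes.hasseD H j z) = LaurentSeries.hasseDeriv k j (ψ z)

section Exists

variable [IsAlgClosed k] {P : Place k K} {t : K} {H : K →ₐ[k] PowerSeries K}

omit [IsAlgClosed k] in
theorem transcendental_param (ht : P.1 t = exp (-1)) : Transcendental k t :=
  FF30.transcendental_of_ord_ne_zero P (x := t) (by rw [FF30.ord_eq_of_val_eq P ht]; decide)

theorem exists_localData (hK : IsFunctionField k K) (ht : P.1 t = exp (-1))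
    (hH : LocRes.IsHasseFamily t H) : ∃ ψ, IsLocalData P t H ψ := by
  have := (FF30.FF.of_isFunctionField hK).finiteDimensional_adjoin (transcendental_param ht)
  have : Algebra.IsAlgebraic (IntermediateField.adjoin k ({t} : Set K)) K :=
    Algebra.IsAlgebraic.of_finite _ K
  have hr := Exp31.isRational_of_isAlgClosed hK P
  refine ⟨Exp31.expand hr ht, Exp31.isExpansionAt_expand hr ht, Exp31.expand_param hr ht, hH,
    fun j z => ?_⟩
  exact (Exp31.hasseDeriv_expansion _ hH (c := 0)
    (by rw [Exp31.expand_param, map_zero, add_zero]) j z).symm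

end Exists

namespace IsLocalData

variable {P : Place k K} {t : K} {H : K →ₐ[k] PowerSeries K} {ψ : K →ₐ[k] k⸨X⸩}

theorem coeff_eq_zero (h : IsLocalData P t H ψ) {z : K} {e : ℤ} (hz : P.1 z ≤ exp (-e)) {m : ℤ}
    (hm : m < e) : (ψ z).coeff m = 0 :=
  Exp31.val_le_iff.1 (by rwa [h.expansion.1]) m hm

theorem val_le_of_coeff (h : IsLocalData P t H ψ) {z : K} {e : ℤ}
    (hz : ∀ m : ℤ, m < e → (ψ z).coeff m = 0) : P.1 z ≤ exp (-e) := by
  rw [← h.expansion.1]; exact Exp31.val_le_iff.2 hz

theorem val_eq_iff (h : IsLocalData P t H ψ) {z : K} {e : ℤ} (hz : P.1 z ≤ exp (-e)) :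
    P.1 z = exp (-e) ↔ (ψ z).coeff e ≠ 0 := by
  rw [← h.expansion.1] at hz ⊢
  exact ⟨Exp31.coeff_ne_zero_of_val_eq, Exp31.val_eq_of_coeff (Exp31.val_le_iff.1 hz)⟩

theorem deriv_coeff_zero (h : IsLocalData P t H ψ) (j : ℕ) (z : K) :
    (ψ (LocRes.hasseD H j z)).coeff 0 = (ψ z).coeff (j : ℤ) := by
  rw [h.deriv, LaurentSeries.hasseDeriv_coeff, zero_add, Ring.choose_natCast, Nat.choose_self]
  simp

theorem val_deriv_le (h : IsLocalData P t H ψ) {z : K} {e : ℤ} (hz : P.1 z ≤ exp (-e)) (j : ℕ) :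
    P.1 (LocRes.hasseD H j z) ≤ exp (-(e - j)) :=
  h.val_le_of_coeff fun m hm => by
    rw [h.deriv, LaurentSeries.hasseDeriv_coeff, h.coeff_eq_zero hz (by omega), smul_zero]

theorem deriv_integral (h : IsLocalData P t H ψ) {z : K} (hz : P.1 z ≤ 1) (j : ℕ) :
    P.1 (LocRes.hasseD H j z) ≤ 1 := by
  refine le_trans (h.val_le_of_coeff (e := 0) fun m hm => ?_) (le_of_eq (by simp))
  rw [h.deriv, LaurentSeries.hasseDeriv_coeff]
  rcases lt_or_ge (m + j) 0 with hneg | hpos
  · rw [h.coeff_eq_zero (e := 0) (by simpa using hz) hneg, smul_zero]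
  · lift m + (j : ℤ) to ℕ using hpos with i hi
    rw [Ring.choose_natCast, Nat.choose_eq_zero_of_lt (by omega), Nat.cast_zero, zero_smul]

theorem evalP_eq (h : IsLocalData P t H ψ) {z : K} (hz : P.1 z ≤ 1) :
    evalP P z = algebraMap k (IsLocalRing.ResidueField P.O) ((ψ z).coeff 0) := by
  rw [evalP, dif_pos hz]
  show IsLocalRing.residue P.O _ = IsLocalRing.residue P.O _
  rw [← sub_eq_zero, ← map_sub, IsLocalRing.residue_eq_zero_iff, Valuation.mem_maximalIdeal_iff]
  show P.1 (z - algebraMap k K ((ψ z).coeff 0)) < 1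
  refine (lt_of_le_of_lt (h.val_le_of_coeff (e := 1) fun m hm => ?_) ?_)
  · rw [map_sub, HahnSeries.coeff_sub, LocRes.map_algebraMap, Algebra.algebraMap_self, RingHom.id_apply]
    rcases eq_or_ne m 0 with rfl | hm0
    · simp
    · rw [h.coeff_eq_zero (e := 0) (by simpa using hz) (by omega)]
      simp [HahnSeries.C_apply, HahnSeries.coeff_single_of_ne hm0]
  · rw [← exp_zero, exp_lt_exp]; omega

theorem residue_bijective [IsAlgClosed k] (hK : IsFunctionField k K) (P : Place k K) :
    Function.Bijective (algebraMap k (IsLocalRing.ResidueField P.O)) := by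
  refine ⟨(algebraMap k _).injective, fun w => ?_⟩
  obtain ⟨⟨z, hz⟩, rfl⟩ := IsLocalRing.residue_surjective w
  obtain ⟨c, hc⟩ := LLS31.exists_val_sub_lt_one hK P ((Valuation.mem_valuationSubring_iff _ _).1 hz)
  refine ⟨c, ?_⟩
  show IsLocalRing.residue P.O _ = IsLocalRing.residue P.O _
  rw [← sub_eq_zero, ← map_sub, IsLocalRing.residue_eq_zero_iff, Valuation.mem_maximalIdeal_iff]
  show P.1 (algebraMap k K c - z) < 1
  rw [Valuation.map_sub_swap]
  exact hc

end IsLocalData

/-- The coefficient columns. -/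
noncomputable def coefCol {ι : Type*} (ψ : K →ₐ[k] k⸨X⸩) (φ : ι → K) : ℕ → ι → k
  | 0 => fun i => (ψ (φ i)).coeff 0
  | j + 1 => fun i => (ψ (φ i)).coeff (j : ℤ)

theorem mem_span_map {R S : Type*} [Field R] [Field S] {ι : Type*} (σ : R →+* S)
    {s : Set (ι → R)} {v : ι → R} (hv : v ∈ Submodule.span R s) :
    (σ ∘ v) ∈ Submodule.span S ((fun w => σ ∘ w) '' s) := by
  induction hv using Submodule.span_induction with
  | mem w hw => exact Submodule.subset_span ⟨w, hw, rfl⟩
  | zero => convert Submodule.zero_mem (Submodule.span S ((fun w => σ ∘ w) '' s)); ext; simp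
  | add a b _ _ ha hb => convert Submodule.add_mem _ ha hb using 1; ext; simp
  | smul r a _ ha => convert Submodule.smul_mem _ (σ r) ha using 1; ext; simp

theorem isJump_comp {R S : Type*} [Field R] [Field S] {ι : Type*} (σ : R →+* S)
    (hσ : Function.Bijective σ) (c : ℕ → ι → R) (j : ℕ) :
    IsJump S (fun i => σ ∘ c i) j ↔ IsJump R c j := by
  refine not_congr ⟨fun h => ?_, fun h => ?_⟩
  · have h' := mem_span_map (RingEquiv.ofBijective σ hσ).symm.toRingHom h
    rw [Set.image_image] at h'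
    have e : ∀ w : ι → R, (RingEquiv.ofBijective σ hσ).symm.toRingHom ∘ (σ ∘ w) = w := fun w => by
      funext x
      exact (RingEquiv.ofBijective σ hσ).symm_apply_apply (w x)
    simpa only [e] using h'
  · have h' := mem_span_map σ h
    rwa [Set.image_image] at h'

section Filtration

variable {P : Place k K} {t : K} {H : K →ₐ[k] PowerSeries K} {ψ : K →ₐ[k] k⸨X⸩} {n : ℕ}
  {φ : Fin (n + 1) → K}

theorem isJump_hcolAt [IsAlgClosed k] (hK : IsFunctionField k K) (h : IsLocalData P t H ψ)
    (hnorm : ∀ i, P.1 (φ i) ≤ 1) (j : ℕ) :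
    IsJump (IsLocalRing.ResidueField P.O) (hcolAt P H φ) j ↔ IsJump k (coefCol ψ φ) j := by
  have e : hcolAt P H φ = fun i => algebraMap k (IsLocalRing.ResidueField P.O) ∘ coefCol ψ φ i := by
    funext i l
    cases i with
    | zero => exact h.evalP_eq (hnorm l)
    | succ i =>
      show evalP P _ = algebraMap k _ ((ψ (φ l)).coeff (i : ℤ))
      rw [h.evalP_eq (h.deriv_integral (hnorm l) i), h.deriv_coeff_zero]
  rw [e, isJump_comp _ (IsLocalData.residue_bijective hK P)]

theorem isOrders_hcolAt [IsAlgClosed k] (hK : IsFunctionField k K) (h : IsLocalData P t H ψ)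
    (hnorm : ∀ i, P.1 (φ i) ≤ 1) (J : Fin n → ℕ) :
    IsOrders (IsLocalRing.ResidueField P.O) (hcolAt P H φ) J ↔ IsOrders k (coefCol ψ φ) J := by
  simp only [IsOrders, isJump_hcolAt hK h hnorm]

theorem coeff_sum (a : Fin (n + 1) → k) (m : ℤ) :
    (ψ (∑ i, a i • φ i)).coeff m = ∑ i, a i * (ψ (φ i)).coeff m := by
  rw [map_sum, HahnSeries.coeff_sum]
  refine Finset.sum_congr rfl fun i _ => ?_
  rw [Algebra.smul_def, map_mul, LocRes.map_algebraMap, Algebra.algebraMap_self, RingHom.id_apply,
    HahnSeries.C_mul_eq_smul, HahnSeries.coeff_smul, smul_eq_mul]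

/-- A positive `j` is an order at `P` exactly when some member has order `j`. -/
theorem isJump_coefCol_iff (h : IsLocalData P t H ψ) (hnorm : ∀ i, P.1 (φ i) ≤ 1) (j : ℕ) :
    IsJump k (coefCol ψ φ) (j + 1) ↔
      0 < j ∧ ∃ f ∈ Submodule.span k (Set.range φ), P.1 f = exp (-(j : ℤ)) := by
  constructor
  · intro hj
    have hj0 : 0 < j := by
      rcases Nat.eq_zero_or_pos j with rfl | hpos
      · exact absurd (mem_below_of_lt (R := k) (c := coefCol ψ φ) Nat.zero_lt_one) hj
      · exact hpos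
    refine ⟨hj0, ?_⟩
    obtain ⟨l, hl, hker⟩ := Submodule.exists_dual_map_eq_bot_of_notMem hj inferInstance
    let a : Fin (n + 1) → k := fun i => l (Pi.single i 1)
    have hla : ∀ v : Fin (n + 1) → k, l v = ∑ i, a i * v i := by
      intro v
      conv_lhs => rw [← Finset.univ_sum_single v]
      rw [map_sum]
      refine Finset.sum_congr rfl fun i _ => ?_
      rw [show (Pi.single i (v i) : Fin (n + 1) → k) = v i • Pi.single i 1 by
        rw [← Pi.single_smul', smul_eq_mul, mul_one], map_smul, smul_eq_mul, mul_comm]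
    have hmem : ∑ i, a i • φ i ∈ Submodule.span k (Set.range φ) :=
      Submodule.sum_mem _ fun i _ => Submodule.smul_mem _ _ (Submodule.subset_span ⟨i, rfl⟩)
    have hint : P.1 (∑ i, a i • φ i) ≤ 1 :=
      P.1.map_sum_le fun i _ => (FF30.val_smul_le P _ _).trans (hnorm i)
    refine ⟨_, hmem, ?_⟩
    have hle : P.1 (∑ i, a i • φ i) ≤ exp (-(j : ℤ)) := h.val_le_of_coeff fun m hm => by
      rcases lt_or_ge m 0 with hneg | hpos
      · exact h.coeff_eq_zero (e := 0) (by simpa using hint) hneg
      · lift m to ℕ using hpos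
        rw [coeff_sum]
        have h0 : l (coefCol ψ φ (m + 1)) = 0 := by
          rw [← Submodule.mem_bot k, ← hker]
          exact Submodule.mem_map_of_mem (Submodule.subset_span ⟨m + 1, by
            simp only [Set.mem_Iio]; omega, rfl⟩)
        rw [hla] at h0
        exact h0
    rw [h.val_eq_iff hle, coeff_sum]
    rwa [hla] at hl
  · rintro ⟨hj, f, hf, hv⟩ hmem
    obtain ⟨a, rfl⟩ := (Submodule.mem_span_range_iff_exists_fun k).1 hf
    have hne := (h.val_eq_iff hv.le).1 hv
    rw [coeff_sum] at hne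
    apply hne
    let l : (Fin (n + 1) → k) →ₗ[k] k := ∑ i, a i • LinearMap.proj i
    have hlv : ∀ v, l v = ∑ i, a i * v i := fun v => by simp [l]
    have hker : Submodule.span k (coefCol ψ φ '' Set.Iio (j + 1)) ≤ LinearMap.ker l := by
      rw [Submodule.span_le]
      rintro _ ⟨m, hm, rfl⟩
      simp only [Set.mem_Iio] at hm
      show l _ = 0
      rw [hlv]
      cases m with
      | zero => exact (coeff_sum a 0).symm.trans (h.coeff_eq_zero hv.le (by omega))
      | succ m => exact (coeff_sum a (m : ℤ)).symm.trans (h.coeff_eq_zero hv.le (by omega))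
    exact (hlv _).symm.trans (hker hmem)

theorem span_coefCol (h : IsLocalData P t H ψ) (hφ : LinearIndependent k φ)
    (hnorm : ∀ i, P.1 (φ i) ≤ 1) : Submodule.span k (Set.range (coefCol ψ φ)) = ⊤ := by
  by_contra hne
  obtain ⟨v, hv⟩ := SetLike.exists_not_mem_of_ne_top _ hne rfl
  obtain ⟨l, hl, hker⟩ := Submodule.exists_dual_map_eq_bot_of_notMem hv inferInstance
  let a : Fin (n + 1) → k := fun i => l (Pi.single i 1)
  have hla : ∀ v : Fin (n + 1) → k, l v = ∑ i, a i * v i := by
    intro v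
    conv_lhs => rw [← Finset.univ_sum_single v]
    rw [map_sum]
    refine Finset.sum_congr rfl fun i _ => ?_
    rw [show (Pi.single i (v i) : Fin (n + 1) → k) = v i • Pi.single i 1 by
      rw [← Pi.single_smul', smul_eq_mul, mul_one], map_smul, smul_eq_mul, mul_comm]
  have hint : P.1 (∑ i, a i • φ i) ≤ 1 :=
    P.1.map_sum_le fun i _ => (FF30.val_smul_le P _ _).trans (hnorm i)
  have h0 : ∑ i, a i • φ i = 0 := by
    apply ψ.toRingHom.injective
    show ψ _ = ψ 0
    rw [map_zero]
    refine HahnSeries.ext (funext fun m => ?_)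
    rcases lt_or_ge m 0 with hneg | hpos
    · exact h.coeff_eq_zero (e := 0) (by simpa using hint) hneg
    · lift m to ℕ using hpos
      rw [coeff_sum, HahnSeries.coeff_zero]
      have h0 : l (coefCol ψ φ (m + 1)) = 0 := by
        rw [← Submodule.mem_bot k, ← hker]
        exact Submodule.mem_map_of_mem (Submodule.subset_span ⟨m + 1, rfl⟩)
      rwa [hla] at h0
  have ha := Fintype.linearIndependent_iff.1 hφ a h0
  exact hl (by rw [hla]; simp [ha])

theorem coefCol_zero_ne (h : IsLocalData P t H ψ) (heff : (1 : K) ∈ Submodule.span k (Set.range φ)) :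
    coefCol ψ φ 0 ≠ 0 := by
  intro h0
  obtain ⟨a, ha⟩ := (Submodule.mem_span_range_iff_exists_fun k).1 heff
  have h1 := coeff_sum (ψ := ψ) (φ := φ) a 0
  rw [ha, map_one, HahnSeries.coeff_one, if_pos rfl] at h1
  have : ∀ i, (ψ (φ i)).coeff 0 = 0 := fun i => congrFun h0 i
  simp [this] at h1

/-- A basis adapted to `P`: `1`, then members of order exactly the orders, monic. -/
theorem exists_adapted_basis (h : IsLocalData P t H ψ) (hnorm : ∀ i, P.1 (φ i) ≤ 1)
    (heff : (1 : K) ∈ Submodule.span k (Set.range φ)) {J : Fin n → ℕ}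
    (hJ : IsOrders k (coefCol ψ φ) J) :
    ∃ φ' : Fin (n + 1) → K, LinearIndependent k φ' ∧
      Submodule.span k (Set.range φ') = Submodule.span k (Set.range φ) ∧ φ' 0 = 1 ∧
      (∀ l : Fin n, P.1 (φ' l.succ) = exp (-(J l : ℤ)) ∧ (ψ (φ' l.succ)).coeff (J l : ℤ) = 1) ∧
      ∀ l, 0 < J l := by
  have hm : ∀ l, 0 < J l ∧ ∃ f ∈ Submodule.span k (Set.range φ), P.1 f = exp (-(J l : ℤ)) :=
    fun l => (isJump_coefCol_iff h hnorm (J l)).1 ((hJ.2 _).1 ⟨l, rfl⟩)
  choose hpos f hf hfv using hm
  have hne : ∀ l, (ψ (f l)).coeff (J l : ℤ) ≠ 0 := fun l => (h.val_eq_iff (hfv l).le).1 (hfv l)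
  let φ' : Fin (n + 1) → K := Fin.cons 1 fun l => ((ψ (f l)).coeff (J l : ℤ))⁻¹ • f l
  have hv : ∀ l, P.1 (φ' l.succ) = exp (-(J l : ℤ)) := fun l => by
    show P.1 (((ψ (f l)).coeff (J l : ℤ))⁻¹ • f l) = _
    rw [FF30.val_smul P (inv_ne_zero (hne l)), hfv]
  have hv0 : P.1 (φ' 0) = exp (-(0 : ℤ)) := by simp [φ']
  have hv' : ∀ i, P.1 (φ' i) = exp (-((selCol J i : ℤ) - if i = 0 then 0 else 1)) := fun i => by
    cases i using Fin.cases with
    | zero => simpa using hv0
    | succ l => rw [hv, if_neg (Fin.succ_ne_zero l), selCol_succ]; simp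
  have hli : LinearIndependent k φ' := by
    refine LLS31.linearIndependent_of_injective_val P φ' (fun i hi => ?_) fun a b hab => ?_
    · have := hv' i; rw [hi, map_zero] at this; exact exp_ne_zero this.symm
    · simp only [hv', exp_inj, neg_inj] at hab
      cases a using Fin.cases with
      | zero =>
        cases b using Fin.cases with
        | zero => rfl
        | succ b => simp at hab; have := hpos b; omega
      | succ a =>
        cases b using Fin.cases with
        | zero => simp at hab; have := hpos a; omega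
        | succ b => simp at hab; rw [hJ.1.injective hab]
  have hle : Submodule.span k (Set.range φ') ≤ Submodule.span k (Set.range φ) := by
    rw [Submodule.span_le]
    rintro _ ⟨i, rfl⟩
    cases i using Fin.cases with
    | zero => exact heff
    | succ l => exact Submodule.smul_mem _ _ (hf l)
  have : FiniteDimensional k ↥(Submodule.span k (Set.range φ)) :=
    Module.Finite.span_of_finite k (Set.finite_range φ)
  refine ⟨φ', hli, Submodule.eq_of_le_of_finrank_le hle ?_, rfl, fun l => ⟨hv l, ?_⟩, hpos⟩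
  · rw [finrank_span_eq_card hli, Fintype.card_fin]
    exact (finrank_range_le_card φ).trans_eq (Fintype.card_fin _)
  · show (ψ (((ψ (f l)).coeff (J l : ℤ))⁻¹ • f l)).coeff _ = 1
    rw [Algebra.smul_def, map_mul, LocRes.map_algebraMap, Algebra.algebraMap_self, RingHom.id_apply,
      HahnSeries.C_mul_eq_smul, HahnSeries.coeff_smul, smul_eq_mul, inv_mul_cancel₀ (hne l)]

end Filtration

end Groth.Agent.SV31
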