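import Groth.Agent.SV31.Local

/-! Leading terms of Wronskians at a place. -/

namespace Groth.Agent.SV31

open FunFld WithZero
open scoped LaurentSeries

theorem prod_single {F : Type*} [Field F] {ι : Type*} (s : Finset ι) (f : ι → ℤ) :
    ∏ r ∈ s, HahnSeries.single (f r) (1 : F) = (HahnSeries.single (∑ r ∈ s, f r) (1 : F) : F⸨X⸩) := by
  classical
  induction s using Finset.induction_on with
  | empty => simp
  | insert i s hi ih =>
    rw [Finset.prod_insert hi, Finset.sum_insert hi, ih, HahnSeries.single_mul_single, one_mul]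

theorem det_leading {F : Type*} [Field F] {m : ℕ} (M : Matrix (Fin m) (Fin m) F⸨X⸩)
    (a b : Fin m → ℤ) (h : ∀ r c, ∀ i : ℤ, i < a r - b c → (M r c).coeff i = 0) :
    (∀ i : ℤ, i < ∑ r, a r - ∑ c, b c → M.det.coeff i = 0) ∧
      M.det.coeff (∑ r, a r - ∑ c, b c) =
        (Matrix.of fun r c => (M r c).coeff (a r - b c)).det := by
  classical
  have hps : ∀ r c, ∃ p : PowerSeries F,
      (p : F⸨X⸩) = HahnSeries.single (-(a r)) (1 : F) * (HahnSeries.single (b c) (1 : F) * M r c) := by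
    intro r c
    set f := HahnSeries.single (-(a r)) (1 : F) * (HahnSeries.single (b c) (1 : F) * M r c) with hf
    have hz : ∀ i : ℤ, i < 0 → f.coeff i = 0 := fun i hi => by
      rw [hf, HahnSeries.coeff_single_mul, HahnSeries.coeff_single_mul,
        h r c _ (by omega), mul_zero, mul_zero]
    refine ⟨PowerSeries.mk fun i => f.coeff i, ?_⟩
    ext i
    rw [PowerSeries.coeff_coe]
    split_ifs with hi
    · exact (hz i hi).symm
    · rw [PowerSeries.coeff_mk, show ((i.natAbs : ℕ) : ℤ) = i by omega]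
  choose p hp using hps
  have hdet : ((Matrix.of p).det : F⸨X⸩) =
      HahnSeries.single (-(∑ r, a r)) (1 : F) * (HahnSeries.single (∑ c, b c) (1 : F) * M.det) := by
    rw [RingHom.map_det]
    have e : (HahnSeries.ofPowerSeries ℤ F).mapMatrix (Matrix.of p) =
        Matrix.of fun r c => HahnSeries.single (-(a r)) (1 : F) *
          ((Matrix.of fun r c => HahnSeries.single (b c) (1 : F) * M r c) r c) := by
      refine Matrix.ext fun r c => ?_
      exact hp r c
    rw [e, Matrix.det_mul_column, Matrix.det_mul_row, prod_single, prod_single, Finset.sum_neg_distrib]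
  constructor
  · intro i hi
    have := congrArg (fun f : F⸨X⸩ => f.coeff (i - ∑ r, a r + ∑ c, b c)) hdet
    simp only [HahnSeries.coeff_single_mul, one_mul] at this
    rw [PowerSeries.coeff_coe, if_pos (by omega)] at this
    rw [this]; congr 1; ring
  · have := congrArg (fun f : F⸨X⸩ => f.coeff 0) hdet
    simp only [HahnSeries.coeff_single_mul, one_mul] at this
    rw [PowerSeries.coeff_coe, if_neg (by omega)] at this
    rw [show ∑ r, a r - ∑ c, b c = 0 - -∑ r, a r - ∑ c, b c by ring, ← this,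
      show ((0 : ℤ).natAbs) = 0 from rfl, PowerSeries.coeff_zero_eq_constantCoeff_apply, RingHom.map_det]
    congr 1
    refine Matrix.ext fun r c => ?_
    have := congrArg (fun f : F⸨X⸩ => f.coeff 0) (hp r c)
    simp only [HahnSeries.coeff_single_mul, one_mul] at this
    rw [PowerSeries.coeff_coe, if_neg (by omega), show ((0 : ℤ).natAbs) = 0 from rfl,
      PowerSeries.coeff_zero_eq_constantCoeff_apply] at this
    show PowerSeries.constantCoeff (p r c) = (M r c).coeff (a r - b c)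
    rw [this]; congr 1; ring

variable {k K : Type*} [Field k] [Field K] [Algebra k K] {P : Place k K} {t : K}
  {H : K →ₐ[k] PowerSeries K} {ψ : K →ₐ[k] k⸨X⸩} {n : ℕ}

/-- The bound and leading coefficient of the determinant of a matrix over `K`. -/
theorem IsLocalData.det_bound (h : IsLocalData P t H ψ) {m : ℕ} (M : Matrix (Fin m) (Fin m) K)
    (a b : Fin m → ℤ) (hM : ∀ r c, P.1 (M r c) ≤ exp (-(a r - b c))) :
    P.1 M.det ≤ exp (-(∑ r, a r - ∑ c, b c)) ∧
      (P.1 M.det = exp (-(∑ r, a r - ∑ c, b c)) ↔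
        (Matrix.of fun r c => (ψ (M r c)).coeff (a r - b c)).det ≠ 0) := by
  obtain ⟨h1, h2⟩ := det_leading ((ψ.toRingHom.mapMatrix M)) a b fun r c i hi =>
    h.coeff_eq_zero (hM r c) hi
  have e : (ψ.toRingHom.mapMatrix M).det = ψ M.det := (RingHom.map_det ψ.toRingHom M).symm
  rw [e] at h1 h2
  refine ⟨h.val_le_of_coeff h1, ?_⟩
  rw [h.val_eq_iff (h.val_le_of_coeff h1), h2]
  rfl

theorem val_le_pow_of_isFixedPt [IsAlgClosed k] (hK : IsFunctionField k K) {τ : K →ₐ[k] K}
    {d : ℕ} (hτ : ∀ z, P.1 z < 1 → P.1 (τ z) ≤ exp (-(d : ℤ))) (ht : P.1 t = exp (-1))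
    {z : K} {j : ℕ} (hz : P.1 z ≤ exp (-(j : ℤ))) : P.1 (τ z) ≤ exp (-((d * j : ℕ) : ℤ)) := by
  have ht0 : t ≠ 0 := fun h => by rw [h, map_zero] at ht; exact exp_ne_zero ht.symm
  have hu : P.1 (z / t ^ j) ≤ 1 := by
    rw [map_div₀, map_pow, ht, div_le_iff₀ (pow_pos exp_pos j), one_mul, ← exp_nsmul]
    simpa using hz
  obtain ⟨c, hc⟩ := LLS31.exists_val_sub_lt_one hK P hu
  have hu' : P.1 (τ (z / t ^ j)) ≤ 1 := by
    rw [show τ (z / t ^ j) = τ (z / t ^ j - algebraMap k K c) + algebraMap k K c by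
      rw [map_sub, AlgHom.commutes, sub_add_cancel]]
    refine (P.1.map_add _ _).trans (max_le ((hτ _ hc).trans ?_) (P.2.1 c))
    rw [← exp_zero, exp_le_exp]; omega
  rw [show τ z = τ (t ^ j) * τ (z / t ^ j) by rw [← map_mul, mul_div_cancel₀ _ (pow_ne_zero j ht0)],
    map_mul, map_pow, map_pow]
  refine (mul_le_of_le_one_right' hu').trans ?_
  refine (pow_le_pow_left' (hτ t (by rw [ht, ← exp_zero, exp_lt_exp]; omega)) j).trans (le_of_eq ?_)
  rw [← exp_nsmul, nsmul_eq_mul]; push_cast; congr 1; ring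

theorem isFixedPt_bound {τ : K →ₐ[k] K} (hP : IsFixedPt τ P) (z : K) (hz : P.1 z < 1) :
    P.1 (τ z) ≤ exp (-((1 : ℕ) : ℤ)) := FF30.val_lt_one_le P (hP z hz)

/-- The determinant after a change of basis. -/
theorem wrMat_det_change (τ : K →ₐ[k] K) (H : K →ₐ[k] PowerSeries K) {φ φ' : Fin (n + 1) → K}
    (A : Matrix (Fin (n + 1)) (Fin (n + 1)) k) (hφ' : ∀ i, φ' i = ∑ j, A i j • φ j) (I : Fin n → ℕ) :
    (wrMat τ H φ' I).det = algebraMap k K A.det * (wrMat τ H φ I).det := by
  rw [RingHom.map_det, ← Matrix.det_mul]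
  congr 1
  refine Matrix.ext fun i c => ?_
  simp only [Matrix.mul_apply, RingHom.mapMatrix_apply, Matrix.map_apply, wrMat, Matrix.of_apply]
  cases c using Fin.cases with
  | zero => simp [hφ', Algebra.smul_def]
  | succ l =>
    simp only [Fin.cases_succ, LocRes.hasseD_apply, hφ', map_sum]
    refine Finset.sum_congr rfl fun j _ => ?_
    rw [map_smul, Algebra.smul_def, PowerSeries.algebraMap_apply, PowerSeries.coeff_C_mul]

theorem exists_change_of_span {φ φ' : Fin (n + 1) → K} (hφ' : LinearIndependent k φ')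
    (hs : Submodule.span k (Set.range φ') = Submodule.span k (Set.range φ)) :
    ∃ A : Matrix (Fin (n + 1)) (Fin (n + 1)) k, (∀ i, φ i = ∑ j, A i j • φ' j) ∧
      (LinearIndependent k φ → A.det ≠ 0) := by
  have hmem : ∀ i, φ i ∈ Submodule.span k (Set.range φ') := fun i => hs ▸ Submodule.subset_span ⟨i, rfl⟩
  simp only [Submodule.mem_span_range_iff_exists_fun] at hmem
  choose A hA using hmem
  refine ⟨Matrix.of A, fun i => (hA i).symm, fun hφ => ?_⟩
  rw [← Matrix.of.apply_symm_apply (Matrix.of A), det_ne_zero_iff]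
  rw [Fintype.linearIndependent_iff]
  intro g hg
  refine Fintype.linearIndependent_iff.1 hφ g ?_
  simp only [← hA, Finset.smul_sum, smul_smul]
  rw [Finset.sum_comm]
  refine Finset.sum_eq_zero fun j _ => ?_
  rw [← Finset.sum_smul, show ∑ i, g i * A i j = 0 from ?_, zero_smul]
  simpa using congrFun hg j

/-- The leading matrix of the Wronskian of an adapted basis. -/
theorem wrMat_leading [IsAlgClosed k] (hK : IsFunctionField k K) (h : IsLocalData P t H ψ)
    (ht : P.1 t = exp (-1)) (τ : K →ₐ[k] K) (hP : IsFixedPt τ P) {φ : Fin (n + 1) → K}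
    {J : Fin n → ℕ} (h0 : φ 0 = 1)
    (hφ : ∀ l : Fin n, P.1 (φ l.succ) = exp (-(J l : ℤ)) ∧ (ψ (φ l.succ)).coeff (J l : ℤ) = 1)
    (hpos : ∀ l, 0 < J l) (I : Fin n → ℕ) :
    P.1 (wrMat τ H φ I).det ≤ exp (-(∑ l, ((J l : ℤ) - I l))) ∧
      (((∀ l, 0 < I l) ∨ IsStrongFixedPt τ P) →
        (P.1 (wrMat τ H φ I).det = exp (-(∑ l, ((J l : ℤ) - I l))) ↔ (binomMat k J I).det ≠ 0)) := by
  classical
  let a : Fin (n + 1) → ℤ := Fin.cons 0 fun l => (J l : ℤ)
  let b : Fin (n + 1) → ℤ := Fin.cons 0 fun l => (I l : ℤ)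
  have hsum : ∑ r, a r - ∑ c, b c = ∑ l, ((J l : ℤ) - I l) := by
    simp [a, b, Fin.sum_univ_succ, Finset.sum_sub_distrib]
  have hH1 : ∀ j : ℕ, LocRes.hasseD H j (1 : K) = if j = 0 then 1 else 0 := fun j => by
    simp [LocRes.hasseD_apply, PowerSeries.coeff_one]
  have hM : ∀ r c, P.1 (wrMat τ H φ I r c) ≤ exp (-(a r - b c)) := by
    intro r c
    cases c using Fin.cases with
    | zero =>
      cases r using Fin.cases with
      | zero => simp [wrMat, a, b, h0]
      | succ l =>
        show P.1 (τ (φ l.succ)) ≤ exp (-((J l : ℤ) - 0))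
        simpa using val_le_pow_of_isFixedPt hK (d := 1) (isFixedPt_bound hP) ht (hφ l).1.le
    | succ s =>
      cases r using Fin.cases with
      | zero =>
        show P.1 (LocRes.hasseD H (I s) (φ 0)) ≤ exp (-(0 - (I s : ℤ)))
        exact h.val_deriv_le (by rw [h0, map_one, neg_zero, exp_zero]) _
      | succ l => exact h.val_deriv_le (hφ l).1.le _
  obtain ⟨hle, hiff⟩ := h.det_bound (wrMat τ H φ I) a b hM
  rw [hsum] at hle hiff
  refine ⟨hle, fun hcase => ?_⟩
  rw [hiff, Matrix.det_succ_row_zero, Fin.sum_univ_succ]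
  have hbin : (Matrix.of fun r c => (ψ (wrMat τ H φ I r c)).coeff (a r - b c)).submatrix Fin.succ Fin.succ
      = binomMat k J I := by
    refine Matrix.ext fun r s => ?_
    show (ψ (LocRes.hasseD H (I s) (φ r.succ))).coeff ((J r : ℤ) - I s) = _
    rw [h.deriv, LaurentSeries.hasseDeriv_coeff, sub_add_cancel, (hφ r).2, Ring.choose_natCast,
      binomMat, Matrix.of_apply]
    simp
  have h00 : (ψ (wrMat τ H φ I 0 0)).coeff (a 0 - b 0) = 1 := by simp [wrMat, a, b, h0]
  have hrest : ∑ s : Fin n, (-1 : k) ^ (s.succ : ℕ) *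
      (Matrix.of fun r c => (ψ (wrMat τ H φ I r c)).coeff (a r - b c)) 0 s.succ *
      ((Matrix.of fun r c => (ψ (wrMat τ H φ I r c)).coeff (a r - b c)).submatrix Fin.succ
        s.succ.succAbove).det = 0 := by
    refine Finset.sum_eq_zero fun s _ => ?_
    rcases Nat.eq_zero_or_pos (I s) with hs | hs
    · -- the leading column then vanishes
      have hstrong : IsStrongFixedPt τ P := hcase.resolve_left fun hall => (hall s).ne' hs
      rw [Matrix.det_eq_zero_of_column_eq_zero (⟨0, Fin.pos s⟩ : Fin n)]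
      · simp
      intro r
      have he : s.succ.succAbove (⟨0, Fin.pos s⟩ : Fin n) = 0 := by
        ext; simp [Fin.succAbove, Fin.lt_def]
      rw [Matrix.submatrix_apply, he, Matrix.of_apply]
      show (ψ (τ (φ r.succ))).coeff ((J r : ℤ) - 0) = 0
      refine h.coeff_eq_zero (val_le_pow_of_isFixedPt hK (d := 2) hstrong ht (hφ r).1.le) ?_
      have := hpos r
      push_cast; omega
    · have : (ψ (wrMat τ H φ I 0 s.succ)).coeff (a 0 - b s.succ) = 0 := by
        show (ψ (LocRes.hasseD H (I s) (φ 0))).coeff _ = 0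
        rw [h0, hH1, if_neg hs.ne', map_zero, HahnSeries.coeff_zero]
      rw [Matrix.of_apply, this, mul_zero, zero_mul]
  rw [hrest, add_zero, Matrix.of_apply, h00, Fin.val_zero, pow_zero, one_mul, one_mul,
    show (0 : Fin (n + 1)).succAbove = Fin.succ from Fin.succAbove_zero, hbin]

/-- The Wronskian of a normalised effective map at a fixed place. -/
theorem wrMat_order [IsAlgClosed k] (hK : IsFunctionField k K) (h : IsLocalData P t H ψ)
    (ht : P.1 t = exp (-1)) (τ : K →ₐ[k] K) (hP : IsFixedPt τ P) {φ : Fin (n + 1) → K}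
    (hφ : LinearIndependent k φ) (heff : (1 : K) ∈ Submodule.span k (Set.range φ))
    (hnorm : ∀ i, P.1 (φ i) ≤ 1) {J : Fin n → ℕ} (hJ : IsOrders k (coefCol ψ φ) J) (I : Fin n → ℕ) :
    P.1 (wrMat τ H φ I).det ≤ exp (-(∑ l, ((J l : ℤ) - I l))) ∧
      (((∀ l, 0 < I l) ∨ IsStrongFixedPt τ P) →
        (P.1 (wrMat τ H φ I).det = exp (-(∑ l, ((J l : ℤ) - I l))) ↔ (binomMat k J I).det ≠ 0)) := by
  obtain ⟨φ', hli, hspan, h0, hlead, hpos⟩ := exists_adapted_basis h hnorm heff hJ
  obtain ⟨A, hA, hdet⟩ := exists_change_of_span hli hspan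
  have hd : P.1 (wrMat τ H φ I).det = P.1 (wrMat τ H φ' I).det := by
    rw [wrMat_det_change τ H A hA, map_mul, FF30.val_algebraMap P (hdet hφ), one_mul]
  rw [hd]
  exact wrMat_leading hK h ht τ hP h0 hlead hpos I

end Groth.Agent.SV31
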