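import Groth.Agent.SV31.Orders
import Groth.Agent.FF30.Degree
import Groth.Prelude.Def_W4bk4goldsch45p2

/-! The Weierstrass divisor, place by place. -/

namespace Groth.Agent.SV31

open FunFld WithZero
open scoped LaurentSeries

variable {k K : Type*} [Field k] [Field K] [Algebra k K] {n : ℕ}

section MapDiv

variable {ι : Type*} [Fintype ι] [Nonempty ι]

theorem mapDiv_apply (hK : IsFunctionField k K) (φ : ι → K) (P : Place k K) :
    mapDiv k φ P = -Finset.univ.inf' Finset.univ_nonempty (fun i => P.ord (φ i)) := by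
  rw [mapDiv, dif_pos]
  · rfl
  refine ((Set.finite_univ (α := ι)).biUnion fun i _ =>
    (FF30.FF.of_isFunctionField hK).finite_support_ord (φ i)).subset fun Q hQ => ?_
  by_contra hc
  simp only [Set.mem_univ, Set.iUnion_true, Set.mem_iUnion, Function.mem_support, not_exists,
    not_not] at hc
  simp [hc, Finset.inf'_const] at hQ

theorem val_le_exp_mapDiv (hK : IsFunctionField k K) (φ : ι → K) (P : Place k K) (i : ι) :
    P.1 (φ i) ≤ exp (mapDiv k φ P) := by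
  rcases eq_or_ne (φ i) 0 with h | h
  · rw [h, map_zero]; exact zero_le
  · rw [FF30.val_eq P h, exp_le_exp, mapDiv_apply hK]
    exact neg_le_neg (Finset.inf'_le _ (Finset.mem_univ i))

theorem exists_val_eq_mapDiv (hK : IsFunctionField k K) (φ : ι → K) (hne : ∀ i, φ i ≠ 0)
    (P : Place k K) : ∃ i, P.1 (φ i) = exp (mapDiv k φ P) := by
  obtain ⟨i, -, hi⟩ := Finset.exists_mem_eq_inf' (Finset.univ_nonempty (α := ι)) (fun i => P.ord (φ i))
  exact ⟨i, by rw [FF30.val_eq P (hne i), mapDiv_apply hK, hi]⟩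

theorem mapDiv_eq_of_val (hK : IsFunctionField k K) (φ : ι → K) (hne : ∀ i, φ i ≠ 0) (P : Place k K)
    {e : ℤ} (h1 : ∀ i, P.1 (φ i) ≤ exp e) (h2 : ∃ i, P.1 (φ i) = exp e) : mapDiv k φ P = e := by
  obtain ⟨i, hi⟩ := exists_val_eq_mapDiv hK φ hne P
  obtain ⟨i', hi'⟩ := h2
  exact le_antisymm (exp_le_exp.1 (hi ▸ h1 i)) (exp_le_exp.1 (hi' ▸ val_le_exp_mapDiv hK φ P i'))

theorem mapDiv_eq_zero (hK : IsFunctionField k K) {φ : ι → K} (hφ : LinearIndependent k φ)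
    (P : Place k K) (hnorm : ∀ i, P.1 (φ i) ≤ 1) (heff : (1 : K) ∈ Submodule.span k (Set.range φ)) :
    mapDiv k φ P = 0 := by
  refine mapDiv_eq_of_val hK φ hφ.ne_zero P (by simpa using hnorm) ?_
  obtain ⟨i, hi⟩ := exists_val_eq_mapDiv hK φ hφ.ne_zero P
  refine ⟨i, le_antisymm (by simpa using hnorm i) ?_⟩
  obtain ⟨a, ha⟩ := (Submodule.mem_span_range_iff_exists_fun k).1 heff
  refine le_trans (le_of_eq (show _ = P.1 (∑ l, a l • φ l) by rw [ha, map_one, exp_zero])) ?_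
  exact P.1.map_sum_le fun l _ => (FF30.val_smul_le P _ _).trans
    ((val_le_exp_mapDiv hK φ P l).trans hi.ge)

theorem mapDiv_smul (hK : IsFunctionField k K) {φ : ι → K} (hφ : ∀ i, φ i ≠ 0) {y : K} (hy : y ≠ 0)
    (P : Place k K) : mapDiv k (y • φ) P = mapDiv k φ P - P.ord y := by
  have hv : ∀ i, P.1 ((y • φ) i) = exp (-P.ord y) * P.1 (φ i) := fun i => by
    show P.1 (y * φ i) = _
    rw [map_mul, FF30.val_eq P hy]
  refine mapDiv_eq_of_val hK _ (fun i => mul_ne_zero hy (hφ i)) P (fun i => ?_) ?_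
  · show P.1 ((y • φ) i) ≤ _
    rw [hv, sub_eq_neg_add, exp_add]
    exact mul_le_mul' le_rfl (val_le_exp_mapDiv hK φ P i)
  · obtain ⟨i, hi⟩ := exists_val_eq_mapDiv hK φ hφ P
    exact ⟨i, (hv i).trans (by rw [hi, ← exp_add, sub_eq_neg_add])⟩

end MapDiv

theorem linearIndependent_comp (τ : K →ₐ[k] K) {ι : Type*} {φ : ι → K} (hφ : LinearIndependent k φ) :
    LinearIndependent k (τ ∘ φ) :=
  hφ.map' τ.toLinearMap (LinearMap.ker_eq_bot.2 τ.toRingHom.injective)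

theorem mapDiv_span_eq (hK : IsFunctionField k K) {φ φ' : Fin (n + 1) → K}
    (hφ : LinearIndependent k φ) (hφ' : LinearIndependent k φ')
    (hs : Submodule.span k (Set.range φ') = Submodule.span k (Set.range φ)) (P : Place k K) :
    mapDiv k φ' P = mapDiv k φ P := by
  suffices h : ∀ (φ φ' : Fin (n + 1) → K), LinearIndependent k φ' →
      Submodule.span k (Set.range φ') ≤ Submodule.span k (Set.range φ) →
      mapDiv k φ' P ≤ mapDiv k φ P from le_antisymm (h φ φ' hφ' hs.le) (h φ' φ hφ hs.ge)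
  intro φ φ' hφ' hle
  obtain ⟨i, hi⟩ := exists_val_eq_mapDiv hK φ' hφ'.ne_zero P
  obtain ⟨a, ha⟩ := (Submodule.mem_span_range_iff_exists_fun k).1 (hle (Submodule.subset_span ⟨i, rfl⟩))
  rw [← exp_le_exp, ← hi, ← ha]
  exact P.1.map_sum_le fun l _ => (FF30.val_smul_le P _ _).trans (val_le_exp_mapDiv hK φ P l)

section AlgClosed

variable [IsAlgClosed k]

theorem ordDiff_change (hK : IsFunctionField k K) {P : Place k K} {ψ : K →ₐ[k] k⸨X⸩}
    (hψ : LocRes.IsExpansionAt P.1 ψ) {s t : K} {Hs Ht : K →ₐ[k] PowerSeries K}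
    (hs : LocRes.IsHasseFamily s Hs) (ht : LocRes.IsHasseFamily t Ht) :
    LocRes.ordDiff ψ 1 s = P.ord (LocRes.hasseD Ht 1 s) + LocRes.ordDiff ψ 1 t := by
  have := isSeparable_of_isHasseFamily hK ht
  refine Exp31.ordDiff_below hψ ht ?_
  rw [Exp31.vDiff_one, Valuation.ne_zero_iff]
  exact fun h => hasseD_one_ne_zero hK hs ht ((Exp31.D_eq_zero_iff hψ ht s).1 h)

omit [IsAlgClosed k] in
theorem ordDiff_param {P : Place k K} {ψ : K →ₐ[k] k⸨X⸩} (hψ : LocRes.IsExpansionAt P.1 ψ) {t : K}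
    (ht : P.1 t = exp (-1)) : LocRes.ordDiff ψ 1 t = 0 := by
  have h := Exp31.val_D_eq (e := 1) ((hψ.1 t).trans ht) (by simp)
  rw [LocRes.ordDiff, Exp31.vDiff_one, h]
  simp

theorem divDiff_apply (hK : IsFunctionField k K) (Φ : Place k K → (K →ₐ[k] k⸨X⸩))
    (hΦ : ∀ P : Place k K, LocRes.IsExpansionAt P.1 (Φ P)) {s : K} {H : K →ₐ[k] PowerSeries K}
    (hH : LocRes.IsHasseFamily s H) (P : Place k K) :
    divDiff Φ 1 s P = LocRes.ordDiff (Φ P) 1 s := by
  rw [divDiff, dif_pos]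
  · rfl
  obtain ⟨t, ht, hfin, hsep⟩ := isGeometric_data hK
  obtain ⟨Ht, hHt⟩ := Exp31.exists_isHasseFamily t ht
  obtain ⟨B, hB, hgood⟩ := Exp31.exists_finite_forall_param hK ht
  refine (hB.union ((FF30.FF.of_isFunctionField hK).finite_support_ord (LocRes.hasseD Ht 1 s))).subset
    fun Q hQ => ?_
  by_contra hc
  simp only [Set.mem_union, Function.mem_support, not_or, not_not] at hc
  obtain ⟨c, hc'⟩ := hgood Q hc.1
  refine hQ ?_
  have ht0 : LocRes.ordDiff (Φ Q) 1 t = 0 := by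
    rw [← ordDiff_param (hΦ Q) hc', LocRes.ordDiff, LocRes.ordDiff, Exp31.vDiff_one, Exp31.vDiff_one,
      map_sub, map_sub, LocRes.map_algebraMap, Exp31.D_C, sub_zero]
  show LocRes.ordDiff (Φ Q) 1 s = 0
  rw [ordDiff_change hK (hΦ Q) hH hHt, hc.2, ht0, add_zero]

theorem wDiv_apply (hK : IsFunctionField k K) (Φ : Place k K → (K →ₐ[k] k⸨X⸩))
    (hΦ : ∀ P : Place k K, LocRes.IsExpansionAt P.1 (Φ P)) (τ : K →ₐ[k] K) {s : K}
    {H : K →ₐ[k] PowerSeries K} (hH : LocRes.IsHasseFamily s H) (φ : Fin (n + 1) → K) (J : Fin n → ℕ)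
    (P : Place k K) :
    wDiv τ H Φ s φ J P = P.ord (wrMat τ H φ J).det + mapDiv k (τ ∘ φ) P + (n : ℤ) * mapDiv k φ P +
      (∑ l, (J l : ℤ)) * LocRes.ordDiff (Φ P) 1 s := by
  simp only [wDiv, Finsupp.add_apply, Finsupp.smul_apply, smul_eq_mul,
    (FF30.FF.of_isFunctionField hK).div_apply, divDiff_apply hK Φ hΦ hH]

/-- Independence of the separating variable and of the representative of the map. -/
theorem wDiv_equiv (hK : IsFunctionField k K) (Φ : Place k K → (K →ₐ[k] k⸨X⸩))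
    (hΦ : ∀ P : Place k K, LocRes.IsExpansionAt P.1 (Φ P)) (τ : K →ₐ[k] K) {s t : K}
    {Hs Ht : K →ₐ[k] PowerSeries K} (hs : LocRes.IsHasseFamily s Hs) (ht : LocRes.IsHasseFamily t Ht)
    {φ : Fin (n + 1) → K} (hφ : LinearIndependent k φ) {J : Fin n → ℕ}
    (hJ : IsOrders K (hcol τ Hs φ) J) {A : Matrix (Fin (n + 1)) (Fin (n + 1)) k} (hA : A.det ≠ 0)
    {y : K} (hy : y ≠ 0) {φ' : Fin (n + 1) → K} (hφ' : ∀ i, φ' i = y * ∑ j, A i j • φ j) :
    wDiv τ Ht Φ t φ' J = wDiv τ Hs Φ s φ J := by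
  refine Finsupp.ext fun P => ?_
  rw [wDiv_apply hK Φ hΦ τ ht, wDiv_apply hK Φ hΦ τ hs]
  let φ₁ : Fin (n + 1) → K := fun i => ∑ j, A i j • φ j
  have hf : φ' = y • φ₁ := funext fun i => hφ' i
  have hli : LinearIndependent k φ₁ := by
    rw [Fintype.linearIndependent_iff]
    intro g hg
    simp only [φ₁, Finset.smul_sum, smul_smul] at hg
    rw [Finset.sum_comm] at hg
    simp only [← Finset.sum_smul] at hg
    have h := Fintype.linearIndependent_iff.1 hφ _ hg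
    have hv : Matrix.vecMul g A = 0 := funext fun j => h j
    exact congrFun (Matrix.eq_zero_of_vecMul_eq_zero hA hv)
  have hspan : Submodule.span k (Set.range φ₁) = Submodule.span k (Set.range φ) := by
    have : FiniteDimensional k ↥(Submodule.span k (Set.range φ)) :=
      Module.Finite.span_of_finite k (Set.finite_range φ)
    refine Submodule.eq_of_le_of_finrank_le (Submodule.span_le.2 ?_) ?_
    · rintro _ ⟨i, rfl⟩
      exact Submodule.sum_mem _ fun j _ => Submodule.smul_mem _ _ (Submodule.subset_span ⟨j, rfl⟩)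
    · rw [finrank_span_eq_card hli, finrank_span_eq_card hφ]
  have hτφ : LinearIndependent k (τ ∘ φ) := linearIndependent_comp τ hφ
  have hτφ₁ : LinearIndependent k (τ ∘ φ₁) := linearIndependent_comp τ hli
  have hτspan : Submodule.span k (Set.range (τ ∘ φ₁)) = Submodule.span k (Set.range (τ ∘ φ)) := by
    rw [Set.range_comp, Set.range_comp, show (⇑τ : K → K) = ⇑τ.toLinearMap from rfl,
      ← Submodule.map_span, ← Submodule.map_span, hspan]
  have hJ₁ : IsOrders K (hcol τ Ht φ) J :=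
    (isOrders_congr (fun j => isJump_change hK hs ht τ φ (j + 1)) J).2 hJ
  have hdet : (wrMat τ Ht φ' J).det =
      algebraMap k K A.det * (τ y * y ^ n *
        (LocRes.hasseD Ht 1 s ^ (∑ l, J l) * (wrMat τ Hs φ J).det)) := by
    rw [wrMat_det_change τ Ht (φ := y • φ) A (fun i => ?_) J, det_smul ht τ y hJ₁,
      det_change hK hs ht τ hJ]
    rw [hφ', Finset.mul_sum]
    exact Finset.sum_congr rfl fun j _ => by simp
  have hd0 : (wrMat τ Hs φ J).det ≠ 0 := det_ne_zero_of_isOrders hφ hJ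
  have hs0 : LocRes.hasseD Ht 1 s ≠ 0 := hasseD_one_ne_zero hK hs ht
  have hτy : τ y ≠ 0 := (map_ne_zero τ).2 hy
  rw [hdet, FF30.ord_mul P ((_root_.map_ne_zero _).2 hA)
      (mul_ne_zero (mul_ne_zero hτy (pow_ne_zero _ hy)) (mul_ne_zero (pow_ne_zero _ hs0) hd0)),
    FF30.ord_algebraMap, FF30.ord_mul P (mul_ne_zero hτy (pow_ne_zero _ hy))
      (mul_ne_zero (pow_ne_zero _ hs0) hd0), FF30.ord_mul P hτy (pow_ne_zero _ hy),
    FF30.ord_mul P (pow_ne_zero _ hs0) hd0, FF30.ord_pow, FF30.ord_pow, hf,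
    show τ ∘ (y • φ₁) = τ y • (τ ∘ φ₁) from funext fun i => map_mul τ _ _,
    mapDiv_smul hK hli.ne_zero hy, mapDiv_smul hK hτφ₁.ne_zero hτy, mapDiv_span_eq hK hφ hli hspan,
    mapDiv_span_eq hK hτφ hτφ₁ hτspan, ordDiff_change hK (hΦ P) hs ht]
  push_cast
  ring

omit [IsAlgClosed k] in
theorem exists_normalized (hK : IsFunctionField k K) {φ : Fin (n + 1) → K}
    (hφ : LinearIndependent k φ) (P : Place k K) :
    ∃ y : K, y ≠ 0 ∧ LinearIndependent k (y • φ) ∧ (∀ i, P.1 ((y • φ) i) ≤ 1) ∧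
      (1 : K) ∈ Submodule.span k (Set.range (y • φ)) := by
  obtain ⟨i, hi⟩ := exists_val_eq_mapDiv hK φ hφ.ne_zero P
  have hy : (φ i)⁻¹ ≠ 0 := inv_ne_zero (hφ.ne_zero i)
  refine ⟨(φ i)⁻¹, hy,
    hφ.map' (LinearMap.mulLeft k (φ i)⁻¹) (LinearMap.ker_eq_bot.2 (mul_right_injective₀ hy)),
    fun l => ?_, Submodule.subset_span ⟨i, inv_mul_cancel₀ (hφ.ne_zero i)⟩⟩
  show P.1 ((φ i)⁻¹ * φ l) ≤ 1
  rw [map_mul, map_inv₀, hi, ← div_eq_inv_mul, div_le_one₀ exp_pos]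
  exact val_le_exp_mapDiv hK φ P l

/-- Reduction to a normalised map in a local parameter. -/
theorem wDiv_normalized (hK : IsFunctionField k K) (Φ : Place k K → (K →ₐ[k] k⸨X⸩))
    (hΦ : ∀ P : Place k K, LocRes.IsExpansionAt P.1 (Φ P)) (τ : K →ₐ[k] K) {s : K}
    {H : K →ₐ[k] PowerSeries K} (hH : LocRes.IsHasseFamily s H) {φ : Fin (n + 1) → K}
    (hφ : LinearIndependent k φ) {J : Fin n → ℕ} (hJ : IsOrders K (hcol τ H φ) J) (P : Place k K) :
    ∃ (y t : K) (Ht : K →ₐ[k] PowerSeries K) (ψ : K →ₐ[k] k⸨X⸩), y ≠ 0 ∧ P.1 t = exp (-1) ∧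
      IsLocalData P t Ht ψ ∧ LinearIndependent k (y • φ) ∧ (∀ i, P.1 ((y • φ) i) ≤ 1) ∧
      (1 : K) ∈ Submodule.span k (Set.range (y • φ)) ∧ IsOrders K (hcol τ Ht (y • φ)) J ∧
      wDiv τ H Φ s φ J P = P.ord (wrMat τ Ht (y • φ) J).det + mapDiv k (τ ∘ (y • φ)) P := by
  obtain ⟨y, hy, hli, hnorm, heff⟩ := exists_normalized hK hφ P
  obtain ⟨t, -, ht⟩ := FF30.exists_uniformizer P
  obtain ⟨Ht, hHt⟩ := exists_hasse_param hK ht
  obtain ⟨ψ, hψ⟩ := exists_localData hK ht hHt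
  refine ⟨y, t, Ht, ψ, hy, ht, hψ, hli, hnorm, heff,
    (isOrders_congr (fun j => (isJump_smul hHt τ φ hy (j + 1)).trans
      (isJump_change hK hH hHt τ φ (j + 1))) J).2 hJ, ?_⟩
  rw [← wDiv_equiv hK Φ hΦ τ hH hHt hφ hJ (A := 1) (by simp) hy (φ' := y • φ)
    (fun i => by simp [Matrix.one_apply]), wDiv_apply hK Φ hΦ τ hHt, ordDiff_param (hΦ P) ht,
    mapDiv_eq_zero hK hli P hnorm heff]
  ring

theorem wDiv_at_fixed (hK : IsFunctionField k K) (Φ : Place k K → (K →ₐ[k] k⸨X⸩))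
    (hΦ : ∀ P : Place k K, LocRes.IsExpansionAt P.1 (Φ P)) (τ : K →ₐ[k] K) {P : Place k K}
    (hP : IsFixedPt τ P) {φ : Fin (n + 1) → K} (hφ : LinearIndependent k φ)
    (hnorm : ∀ i, P.1 (φ i) ≤ 1) (heff : (1 : K) ∈ Submodule.span k (Set.range φ)) {t : K}
    (ht : P.1 t = exp (-1)) {Ht : K →ₐ[k] PowerSeries K} (hHt : LocRes.IsHasseFamily t Ht)
    (J : Fin n → ℕ) :
    wDiv τ Ht Φ t φ J P = P.ord (wrMat τ Ht φ J).det := by
  have hint : ∀ i, P.1 ((τ ∘ φ) i) ≤ 1 := fun i => by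
    simpa using val_le_pow_of_isFixedPt hK (d := 1) (isFixedPt_bound hP) ht
      (j := 0) (z := φ i) (by simpa using hnorm i)
  have heff' : (1 : K) ∈ Submodule.span k (Set.range (τ ∘ φ)) := by
    rw [Set.range_comp, show (⇑τ : K → K) = ⇑τ.toLinearMap from rfl, ← Submodule.map_span]
    exact ⟨1, heff, map_one τ⟩
  rw [wDiv_apply hK Φ hΦ τ hHt, ordDiff_param (hΦ P) ht, mapDiv_eq_zero hK hφ P hnorm heff,
    mapDiv_eq_zero hK (linearIndependent_comp τ hφ) P hint heff']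
  ring

omit [IsAlgClosed k] in
theorem val_det_le_exp_mapDiv (hK : IsFunctionField k K) {P : Place k K} {t : K}
    {Ht : K →ₐ[k] PowerSeries K} {ψ : K →ₐ[k] k⸨X⸩} (h : IsLocalData P t Ht ψ) (τ : K →ₐ[k] K)
    {φ : Fin (n + 1) → K} (hnorm : ∀ i, P.1 (φ i) ≤ 1) (I : Fin n → ℕ) :
    P.1 (wrMat τ Ht φ I).det ≤ exp (mapDiv k (τ ∘ φ) P) := by
  obtain ⟨hle, -⟩ := h.det_bound (wrMat τ Ht φ I) (fun _ => 0)
    (Fin.cons (mapDiv k (τ ∘ φ) P) fun _ => 0) fun r c => by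
      cases c using Fin.cases with
      | zero =>
        simp only [Fin.cons_zero, zero_sub, neg_neg]
        exact val_le_exp_mapDiv hK (τ ∘ φ) P r
      | succ l => simpa [wrMat] using h.deriv_integral (hnorm r) (I l)
  simpa [Fin.sum_univ_succ] using hle

end AlgClosed

end Groth.Agent.SV31
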